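import Groth.Prelude.Def_CxOX
import Groth.Agent.Lib.Helper42.ExtZero

/-!
# Extension by zero of O-modules along an open subscheme is exact; restriction preserves injectives

Transfers helper42's `ModSite.extZero` exactness (S9086) to schemes through the prelude's
`CxOX.extZeroIsoSite`.
-/

set_option autoImplicit false
universe u
open CategoryTheory AlgebraicGeometry CategoryTheory.Limits

namespace Groth.Agent.Lib.Helper26.ExtZeroSch

/-- `j_!` along an open subscheme preserves monomorphisms. -/
theorem preservesMonomorphisms_extZero {X : Scheme.{u}} (V : X.Opens) :
    (CxOX.extZero V.ι).PreservesMonomorphisms := by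
  have h1 : (ModSite.extZero X.sheaf V).PreservesMonomorphisms :=
    Groth.Agent.Lib.Helper42.ExtZero.extZero_preservesMonomorphisms X.sheaf V
  have h0 : ((Scheme.Modules.overEquiv V).inverse).PreservesMonomorphisms := by
    have : (Scheme.Modules.overEquiv V).inverse.IsRightAdjoint := inferInstance
    infer_instance
  have h2 : ((Scheme.Modules.overEquiv V).inverse ⋙ ModSite.extZero X.sheaf V).PreservesMonomorphisms := by
    refine ⟨fun f hf => ?_⟩
    have m1 : Mono ((Scheme.Modules.overEquiv V).inverse.map f) := h0.preserves f
    exact h1.preserves _
  exact (Functor.PreservesMonomorphisms.iso_iff (CxOX.extZeroIsoSite V)).mpr h2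

/-- `j_!` along an open subscheme is exact. -/
theorem preservesFiniteLimits_extZero {X : Scheme.{u}} (V : X.Opens) :
    PreservesFiniteLimits (CxOX.extZero V.ι) := by
  have := preservesMonomorphisms_extZero V
  rw [Functor.preservesFiniteLimits_iff_forall_exact_map_and_mono]
  intro S hS
  have := hS.mono_f
  exact ⟨((Functor.preservesFiniteColimits_iff_forall_exact_map_and_epi (CxOX.extZero V.ι)).mp
    inferInstance S hS).1, inferInstance⟩

/-- The restriction of an injective `O_X`-module to an open subscheme is injective. -/
theorem injective_restrict {X : Scheme.{u}} (U : X.Opens) (I : X.Modules) [Injective I] :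
    Injective ((Scheme.Modules.restrictFunctor U.ι).obj I) := by
  have := preservesMonomorphisms_extZero U
  exact Injective.injective_of_adjoint (CxOX.extZeroAdj U.ι) I

end Groth.Agent.Lib.Helper26.ExtZeroSch
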