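import Mathlib.CategoryTheory.Abelian.RightDerived
import Mathlib.Algebra.Homology.HomologySequence
import Mathlib.Algebra.Homology.HomologicalComplexBiprod
import Mathlib.Algebra.Homology.HomologicalComplexAbelian
import Mathlib.Algebra.Homology.ExactSequence

/-! Mayer–Vietoris long exact sequence of right derived functors attached to a "Mayer–Vietoris
square" of additive functors `G₀ ⟶ G₁, G₂ ⟶ G₃` such that
`0 ⟶ G₀ I ⟶ G₁ I ⊞ G₂ I ⟶ G₃ I ⟶ 0` is short exact for every injective object `I`. -/

set_option autoImplicit false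
universe v u v' u'

open CategoryTheory Category Limits

namespace Groth.Agent.Lib.Helper26.FunctorMV

variable {C : Type u} [Category.{v} C] [Abelian C]
variable {D : Type u'} [Category.{v'} D] [Abelian D]
variable {G₀ G₁ G₂ G₃ : C ⥤ D} [G₀.Additive] [G₁.Additive] [G₂.Additive] [G₃.Additive]
variable (a₁ : G₀ ⟶ G₁) (a₂ : G₀ ⟶ G₂) (b₁ : G₁ ⟶ G₃) (b₂ : G₂ ⟶ G₃)

omit [Abelian C] [G₀.Additive] [G₁.Additive] [G₂.Additive] [G₃.Additive] in
lemma lift_desc_zero (comm : a₁ ≫ b₁ = a₂ ≫ b₂) (X : C) :
    biprod.lift (a₁.app X) (a₂.app X) ≫ biprod.desc (b₁.app X) (-(b₂.app X)) = 0 := by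
  rw [biprod.lift_desc, Preadditive.comp_neg, ← NatTrans.comp_app, ← NatTrans.comp_app, comm,
    add_neg_cancel]

/-- the Mayer–Vietoris square of functors is short exact on injective objects -/
structure MVExact : Prop where
  comm : a₁ ≫ b₁ = a₂ ≫ b₂
  shortExact : ∀ (I : C) [Injective I],
    (ShortComplex.mk _ _ (lift_desc_zero a₁ a₂ b₁ b₂ comm I)).ShortExact

variable {a₁ a₂ b₁ b₂}

section cx

variable (K : CochainComplex C ℕ)

/-- the maps of complexes induced by the natural transformations -/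
noncomputable abbrev cxMap {F G : C ⥤ D} [F.Additive] [G.Additive] (α : F ⟶ G) :
    (F.mapHomologicalComplex (ComplexShape.up ℕ)).obj K ⟶
      (G.mapHomologicalComplex (ComplexShape.up ℕ)).obj K :=
  (NatTrans.mapHomologicalComplex α (ComplexShape.up ℕ)).app K

lemma cx_zero (h : MVExact a₁ a₂ b₁ b₂) :
    biprod.lift (cxMap K a₁) (cxMap K a₂) ≫ biprod.desc (cxMap K b₁) (-(cxMap K b₂)) = 0 := by
  rw [biprod.lift_desc, Preadditive.comp_neg]
  ext i
  have := congrArg (fun t => t.app (K.X i)) h.comm
  simp only [NatTrans.comp_app] at this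
  simp only [HomologicalComplex.add_f_apply, HomologicalComplex.neg_f_apply,
    HomologicalComplex.comp_f, NatTrans.mapHomologicalComplex_app_f, HomologicalComplex.zero_f]
  have key : ∀ (x y : G₀.obj (K.X i) ⟶ G₃.obj (K.X i)), x = y → x + -y = 0 :=
    fun x y hxy => by rw [hxy, add_neg_cancel]
  exact key _ _ this

/-- the short complex of complexes attached to a complex -/
noncomputable abbrev cx (h : MVExact a₁ a₂ b₁ b₂) : ShortComplex (CochainComplex D ℕ) :=
  ShortComplex.mk _ _ (cx_zero K h)

omit [G₃.Additive] in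
lemma comm₁₂_aux (i : ℕ) :
    (biprod.lift (cxMap K a₁) (cxMap K a₂)).f i ≫ (HomologicalComplex.biprodXIso _ _ i).hom =
      biprod.lift (a₁.app (K.X i)) (a₂.app (K.X i)) := by
  apply biprod.hom_ext
  · rw [assoc, HomologicalComplex.biprodXIso_hom_fst, HomologicalComplex.biprod_lift_fst_f]
    erw [biprod.lift_fst]
    rfl
  · rw [assoc, HomologicalComplex.biprodXIso_hom_snd, HomologicalComplex.biprod_lift_snd_f]
    erw [biprod.lift_snd]
    rfl

omit [G₀.Additive] in
lemma comm₂₃_aux (i : ℕ) :
    (HomologicalComplex.biprodXIso _ _ i).inv ≫ (biprod.desc (cxMap K b₁) (-(cxMap K b₂))).f i =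
      biprod.desc (b₁.app (K.X i)) (-(b₂.app (K.X i))) := by
  apply biprod.hom_ext'
  · rw [HomologicalComplex.inl_biprodXIso_inv_assoc, HomologicalComplex.biprod_inl_desc_f]
    erw [biprod.inl_desc]
    rfl
  · rw [HomologicalComplex.inr_biprodXIso_inv_assoc, HomologicalComplex.biprod_inr_desc_f]
    erw [biprod.inr_desc]
    rfl

/-- degreewise, the short complex of complexes is the short complex of the square -/
noncomputable def cxEvalIso (h : MVExact a₁ a₂ b₁ b₂) (i : ℕ) :
    (cx K h).map (HomologicalComplex.eval D (ComplexShape.up ℕ) i) ≅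
      ShortComplex.mk _ _ (lift_desc_zero a₁ a₂ b₁ b₂ h.comm (K.X i)) :=
  ShortComplex.isoMk (Iso.refl _) (HomologicalComplex.biprodXIso _ _ i) (Iso.refl _)
    ((id_comp _).trans (comm₁₂_aux K i).symm)
    (by
      have h1 := comm₂₃_aux (b₁ := b₁) (b₂ := b₂) K i
      rw [Iso.inv_comp_eq] at h1
      exact h1.symm.trans (comp_id _).symm)

lemma cx_shortExact (h : MVExact a₁ a₂ b₁ b₂) (hK : ∀ i, Injective (K.X i)) :
    (cx K h).ShortExact :=
  HomologicalComplex.shortExact_of_degreewise_shortExact _ (fun i =>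
    ShortComplex.shortExact_of_iso (cxEvalIso K h i).symm (h.shortExact (K.X i)))

end cx

variable [HasInjectiveResolutions C]

section main

variable (h : MVExact a₁ a₂ b₁ b₂) (X : C)

/-- the homology functor in degree `n` -/
noncomputable abbrev Hn (n : ℕ) : CochainComplex D ℕ ⥤ D :=
  HomologicalComplex.homologyFunctor D (ComplexShape.up ℕ) n

lemma preservesBinaryBiproducts_Hn (n : ℕ) : PreservesBinaryBiproducts (Hn (D := D) n) :=
  preservesBinaryBiproducts_of_preservesBiproducts _

attribute [local instance] preservesBinaryBiproducts_Hn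

/-- the chosen injective resolution -/
noncomputable abbrev res : InjectiveResolution X := injectiveResolution X

lemma res_shortExact : (cx (res X).cocomplex h).ShortExact :=
  cx_shortExact _ h (fun i => (res X).injective i)

/-- the comparison isomorphism for one functor -/
noncomputable abbrev e (G : C ⥤ D) [G.Additive] (n : ℕ) :
    (G.rightDerived n).obj X ≅
      (Hn n).obj ((G.mapHomologicalComplex (ComplexShape.up ℕ)).obj (res X).cocomplex) :=
  (res X).isoRightDerivedObj G n

lemma e_naturality {F G : C ⥤ D} [F.Additive] [G.Additive] (α : F ⟶ G) (n : ℕ) :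
    (NatTrans.rightDerived α n).app X ≫ (e X G n).hom =
      (e X F n).hom ≫ (Hn n).map (cxMap (res X).cocomplex α) := by
  rw [InjectiveResolution.rightDerived_app_eq α (res X) n, assoc, assoc, Iso.inv_hom_id, comp_id]

/-- the comparison isomorphism for the middle term -/
noncomputable def mid (n : ℕ) :
    (G₁.rightDerived n).obj X ⊞ (G₂.rightDerived n).obj X ≅
      (Hn n).obj ((G₁.mapHomologicalComplex (ComplexShape.up ℕ)).obj (res X).cocomplex ⊞
        (G₂.mapHomologicalComplex (ComplexShape.up ℕ)).obj (res X).cocomplex) :=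
  biprod.mapIso (e X G₁ n) (e X G₂ n) ≪≫ ((Hn n).mapBiprod _ _).symm

omit [G₃.Additive] in
lemma lift_mid (n : ℕ) :
    biprod.lift ((NatTrans.rightDerived a₁ n).app X) ((NatTrans.rightDerived a₂ n).app X) ≫
      (mid (G₁ := G₁) (G₂ := G₂) X n).hom =
    (e X G₀ n).hom ≫ (Hn n).map
      (biprod.lift (cxMap (res X).cocomplex a₁) (cxMap (res X).cocomplex a₂)) := by
  rw [← cancel_mono ((Hn n).mapBiprod _ _).hom]
  dsimp only [mid, Iso.trans_hom, Iso.symm_hom]
  rw [assoc, assoc, Iso.inv_hom_id, comp_id, assoc]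
  apply biprod.hom_ext
  · rw [assoc, assoc, assoc, Functor.mapBiprod_hom, biprod.lift_fst, ← Functor.map_comp,
      biprod.lift_fst, ← e_naturality X a₁ n]
    simp
  · rw [assoc, assoc, assoc, Functor.mapBiprod_hom, biprod.lift_snd, ← Functor.map_comp,
      biprod.lift_snd, ← e_naturality X a₂ n]
    simp

omit [G₀.Additive] in
lemma mid_desc (n : ℕ) :
    (mid (G₁ := G₁) (G₂ := G₂) X n).hom ≫ (Hn n).map
        (biprod.desc (cxMap (res X).cocomplex b₁) (-(cxMap (res X).cocomplex b₂))) =
      biprod.desc ((NatTrans.rightDerived b₁ n).app X) (-((NatTrans.rightDerived b₂ n).app X)) ≫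
        (e X G₃ n).hom := by
  dsimp only [mid, Iso.trans_hom, Iso.symm_hom]
  apply biprod.hom_ext'
  · rw [biprod.mapIso_hom, assoc, biprod.inl_map_assoc, Functor.mapBiprod_inv,
      biprod.inl_desc_assoc, ← Functor.map_comp, biprod.inl_desc, biprod.inl_desc_assoc]
    exact (e_naturality X b₁ n).symm
  · rw [biprod.mapIso_hom, assoc, biprod.inr_map_assoc, Functor.mapBiprod_inv,
      biprod.inr_desc_assoc, ← Functor.map_comp, biprod.inr_desc, biprod.inr_desc_assoc,
      Functor.map_neg, Preadditive.comp_neg, Preadditive.neg_comp]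
    congr 1
    exact (e_naturality X b₂ n).symm

lemma rel_succ (n : ℕ) : (ComplexShape.up ℕ).Rel n (n + 1) := rfl

/-- the connecting morphism -/
noncomputable def δ (n : ℕ) :
    (G₃.rightDerived n).obj X ⟶ (G₀.rightDerived (n + 1)).obj X :=
  (e X G₃ n).hom ≫ (res_shortExact h X).δ n (n + 1) (rel_succ n) ≫ (e X G₀ (n + 1)).inv

omit [Abelian D] in
lemma comp_inv_hom {W X Y Z : D} (A : W ⟶ X) (B : X ⟶ Y) (i : Z ≅ Y) :
    (A ≫ B ≫ i.inv) ≫ i.hom = A ≫ B := by simp

lemma δ_comp_e (n : ℕ) :
    δ h X n ≫ (e X G₀ (n + 1)).hom =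
      (e X G₃ n).hom ≫ (res_shortExact h X).δ n (n + 1) (rel_succ n) :=
  comp_inv_hom _ _ _

include h in
theorem mono_lift :
    Mono (biprod.lift ((NatTrans.rightDerived a₁ 0).app X)
      ((NatTrans.rightDerived a₂ 0).app X)) := by
  have hS := res_shortExact h X
  have hm : Mono (cx (res X).cocomplex h).f := hS.mono_f
  have h1 : Mono ((Hn 0).map (cx (res X).cocomplex h).f) :=
    HomologicalComplex.mono_homologyMap_of_mono_of_not_rel _ 0 (by simp)
  have h2 : Mono (biprod.lift ((NatTrans.rightDerived a₁ 0).app X)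
      ((NatTrans.rightDerived a₂ 0).app X) ≫ (mid (G₁ := G₁) (G₂ := G₂) X 0).hom) := by
    rw [lift_mid X 0]
    exact mono_comp _ ((Hn 0).map (cx (res X).cocomplex h).f)
  exact mono_of_mono _ (mid (G₁ := G₁) (G₂ := G₂) X 0).hom

include h in
theorem exact₂ (n : ℕ) :
    (ComposableArrows.mk₂
      (biprod.lift ((NatTrans.rightDerived a₁ n).app X) ((NatTrans.rightDerived a₂ n).app X))
      (biprod.desc ((NatTrans.rightDerived b₁ n).app X)
        (-((NatTrans.rightDerived b₂ n).app X)))).Exact := by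
  have hS := res_shortExact h X
  refine ComposableArrows.exact_of_iso ?_ (hS.homology_exact₂ n).exact_toComposableArrows
  exact (ComposableArrows.isoMk₂ (e X G₀ n) (mid X n) (e X G₃ n)
    (lift_mid X n) (mid_desc X n).symm).symm

theorem exact₃ (n : ℕ) :
    (ComposableArrows.mk₂
      (biprod.desc ((NatTrans.rightDerived b₁ n).app X)
        (-((NatTrans.rightDerived b₂ n).app X))) (δ h X n)).Exact := by
  have hS := res_shortExact h X
  refine ComposableArrows.exact_of_iso ?_
    (hS.homology_exact₃ n (n + 1) (rel_succ n)).exact_toComposableArrows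
  exact (ComposableArrows.isoMk₂ (mid X n) (e X G₃ n) (e X G₀ (n + 1))
    (mid_desc X n).symm (δ_comp_e h X n)).symm

theorem exact₁ (n : ℕ) :
    (ComposableArrows.mk₂ (δ h X n)
      (biprod.lift ((NatTrans.rightDerived a₁ (n + 1)).app X)
        ((NatTrans.rightDerived a₂ (n + 1)).app X))).Exact := by
  have hS := res_shortExact h X
  refine ComposableArrows.exact_of_iso ?_
    (hS.homology_exact₁ n (n + 1) (rel_succ n)).exact_toComposableArrows
  exact (ComposableArrows.isoMk₂ (e X G₃ n) (e X G₀ (n + 1)) (mid X (n + 1))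
    (δ_comp_e h X n) (lift_mid X (n + 1))).symm

end main

end Groth.Agent.Lib.Helper26.FunctorMV
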