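import Mathlib

set_option autoImplicit false
universe u

open CategoryTheory TopologicalSpace Opposite CategoryTheory.Limits

/-!
# Injective sheaves of modules on a topological space are flasque

For a sheaf of rings `R` on a topological space `X` (e.g. `X.ringCatSheaf` for a scheme, so that
`SheafOfModules R = X.Modules`): the free module `freeMod R U = j_! (R|_U)` on an open `U`
(sheafification of the free presheaf of modules on the representable `yoneda U`) satisfies
`Hom(freeMod R U, M) ≃ M(U)` (`freeModHomEquiv`), `freeModMap i` is a mono for `V ≤ U`, hence the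
underlying abelian sheaf of an injective module is flasque (`isFlasque_of_injective`).
-/

namespace Groth.Agent.Lib.Helper26.InjFlasque

variable {X : TopCat.{u}} (R : Sheaf (Opens.grothendieckTopology X) RingCat.{u})

/-- the free `R`-module on an open: `j_! R|_U` -/
noncomputable abbrev freeMod (U : Opens X) : SheafOfModules.{u} R :=
  (PresheafOfModules.sheafification (𝟙 R.obj)).obj
    ((PresheafOfModules.free R.obj).obj (yoneda.obj U))

noncomputable def freeModMap {U V : Opens X} (i : V ⟶ U) : freeMod R V ⟶ freeMod R U :=
  (PresheafOfModules.sheafification (𝟙 R.obj)).map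
    ((PresheafOfModules.free R.obj).map (yoneda.map i))

variable {R}

noncomputable def freeModHomEquiv (U : Opens X) (M : SheafOfModules.{u} R) :
    (freeMod R U ⟶ M) ≃ M.val.obj (op U) :=
  ((PresheafOfModules.sheafificationAdjunction (𝟙 R.obj)).homEquiv _ M).trans <|
    ((PresheafOfModules.freeAdjunction R.obj).homEquiv (yoneda.obj U) _).trans
      yonedaEquiv

lemma freeModHomEquiv_naturality_left {U V : Opens X} (i : V ⟶ U) (M : SheafOfModules.{u} R)
    (f : freeMod R U ⟶ M) :
    freeModHomEquiv V M (freeModMap R i ≫ f) = M.val.map i.op (freeModHomEquiv U M f) := by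
  simp only [freeModHomEquiv, Equiv.trans_apply, freeModMap]
  rw [Adjunction.homEquiv_naturality_left]
  rw [Adjunction.homEquiv_naturality_left]
  erw [← yonedaEquiv_naturality]
  rfl

instance mono_freeModMap {U V : Opens X} (i : V ⟶ U) : Mono (freeModMap R i) := by
  have h1 : Mono ((PresheafOfModules.free R.obj).map (yoneda.map i)) := by
    apply PresheafOfModules.mono_of_injective
    intro W
    have h3 : Function.Injective ((yoneda.map i).app W) := by
      intro a b _
      exact Subsingleton.elim (α := (unop W ⟶ V)) a b
    exact Finsupp.mapDomain_injective h3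
  unfold freeModMap
  infer_instance

/-- an injective sheaf of modules on a topological space is flasque -/
theorem isFlasque_of_injective (M : SheafOfModules.{u} R) [Injective M] :
    TopCat.Sheaf.IsFlasque ((SheafOfModules.toSheaf R).obj M) where
  epi {U V} i := by
    refine (AddCommGrpCat.epi_iff_surjective _).mpr (fun t => ?_)
    obtain ⟨g, hg⟩ : ∃ g : freeMod R U.unop ⟶ M,
        freeModMap R i.unop ≫ g = (freeModHomEquiv V.unop M).symm t :=
      ⟨Injective.factorThru _ (freeModMap R i.unop), Injective.comp_factorThru _ _⟩
    refine ⟨freeModHomEquiv U.unop M g, ?_⟩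
    have := freeModHomEquiv_naturality_left i.unop M g
    rw [hg, Equiv.apply_symm_apply] at this
    exact this.symm

end Groth.Agent.Lib.Helper26.InjFlasque
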