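import Groth.Agent.Lib.Helper53.Flasque
import Groth.Agent.Lib.Helper53.SheafExact

/-!
# Vanishing of higher direct images from vanishing of cohomology on a basis

* `exact_of_sections_exact_basis`: a complex of abelian sheaves which is exact on sections over
  every member of a basis is exact.
* `sections_injectiveResolution_exact_of_HU`: sections over `W` of an injective resolution of `F`
  are exact in degree `q + 1` if `H^{q+1}(W, F) = 0`.
* `isZero_Rpush_succ_of_basis`: `R^{q+1} f_* F = 0` if `H^{q+1}(f⁻¹ V, F) = 0` for all `V` in a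
  basis of the target.
-/

universe u

open CategoryTheory TopologicalSpace Opposite CategoryTheory.Limits

namespace Groth.Agent.Lib.Helper26.LerayBasis

open Groth.Agent.Lib.Helper53

variable {X Y : TopCat.{u}}

/-- a complex of abelian sheaves which is exact on sections over every member of a basis is
exact -/
theorem exact_of_sections_exact_basis (S : ShortComplex (CohTop.Ab Y)) (B : Set (Opens Y))
    (hB : ∀ (U : Opens Y) (x : Y), x ∈ U → ∃ V ∈ B, x ∈ V ∧ V ≤ U)
    (h : ∀ V ∈ B, ∀ s : S.X₂.obj.obj (op V), S.g.hom.app (op V) s = 0 →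
      ∃ t : S.X₁.obj.obj (op V), S.f.hom.app (op V) t = s) : S.Exact := by
  rw [ShortComplex.exact_iff_epi_kernel_lift]
  rw [← CategoryTheory.Sheaf.isLocallySurjective_iff_epi']
  change TopCat.Presheaf.IsLocallySurjective (kernel.lift S.g S.f S.zero).hom
  rw [TopCat.Presheaf.isLocallySurjective_iff]
  intro U k x hx
  obtain ⟨V, hVB, hxV, hVU⟩ := hB U x hx
  refine ⟨V, hVU, ?_, hxV⟩
  set k' := TopCat.Presheaf.restrictOpen k V hVU with hk'
  have hk : S.g.hom.app (op V) ((kernel.ι S.g).hom.app (op V) k') = 0 := by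
    have h0 : kernel.ι S.g ≫ S.g = 0 := kernel.condition _
    have := congrArg (fun φ : kernel S.g ⟶ S.X₃ => φ.hom.app (op V) k') h0
    exact this
  obtain ⟨t, ht⟩ := h V hVB _ hk
  refine ⟨t, ?_⟩
  apply injective_app_of_mono (kernel.ι S.g) V
  have h1 : kernel.lift S.g S.f S.zero ≫ kernel.ι S.g = S.f := kernel.lift_ι _ _ _
  have h2 := congrArg (fun φ : S.X₁ ⟶ S.X₂ => φ.hom.app (op V) t) h1
  rw [← ht]
  exact h2

open Abelian in
/-- sections over `W` of an injective resolution of `F` are exact in degree `q + 1` if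
`H^{q+1}(W, F) = 0` -/
lemma sections_injectiveResolution_exact_of_HU (F : CohTop.Ab X)
    (I : InjectiveResolution F) (W : Opens X) (q : ℕ)
    (hW : Subsingleton (CohTop.HU F (q + 1) W))
    (s : (I.cocomplex.X (q + 1)).obj.obj (op W))
    (hs : (I.cocomplex.d (q + 1) (q + 2)).hom.app (op W) s = 0) :
    ∃ t : (I.cocomplex.X q).obj.obj (op W), (I.cocomplex.d q (q + 1)).hom.app (op W) t = s := by
  have hσ : (freeSheafHomEquiv W (I.cocomplex.X (q + 1))).symm s ≫ I.cocomplex.d (q + 1) (q + 2) =
      0 := by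
    apply (freeSheafHomEquiv W _).injective
    rw [freeSheafHomEquiv_naturality_right, Equiv.apply_symm_apply, hs, freeSheafHomEquiv_zero]
  have h0 : I.extMk _ (q + 2) rfl hσ = 0 :=
    @Subsingleton.elim (CohTop.HU F (q + 1) W) hW _ _
  rw [I.extMk_eq_zero_iff _ (q + 2) rfl hσ q rfl] at h0
  obtain ⟨g, hg⟩ := h0
  refine ⟨freeSheafHomEquiv W _ g, ?_⟩
  rw [← freeSheafHomEquiv_naturality_right, hg, Equiv.apply_symm_apply]

/-- `R^{q+1} f_* F = 0` if `H^{q+1}(f⁻¹ V, F) = 0` for all `V` in a basis of the target -/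
theorem isZero_Rpush_succ_of_basis (f : X ⟶ Y) (F : CohTop.Ab X) (B : Set (Opens Y))
    (hB : ∀ (U : Opens Y) (x : Y), x ∈ U → ∃ V ∈ B, x ∈ V ∧ V ≤ U) (q : ℕ)
    (h : ∀ V ∈ B, Subsingleton (CohTop.HU F (q + 1) ((Opens.map f).obj V))) :
    IsZero ((CohTop.Rpush f (q + 1)).obj F) := by
  let I : InjectiveResolution F := Classical.choice (HasInjectiveResolution.out)
  refine IsZero.of_iso ?_ (I.isoRightDerivedObj (CohTop.push f) (q + 1))
  change IsZero ((((CohTop.push f).mapHomologicalComplex _).obj I.cocomplex).homology (q + 1))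
  rw [← HomologicalComplex.exactAt_iff_isZero_homology,
    HomologicalComplex.exactAt_iff' _ q (q + 1) (q + 2) (by simp) (by simp)]
  apply exact_of_sections_exact_basis _ B hB
  intro V hV s hs
  exact sections_injectiveResolution_exact_of_HU F I ((Opens.map f).obj V) q (h V hV) s hs

end Groth.Agent.Lib.Helper26.LerayBasis
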