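import Mathlib
import Groth.Agent.Lib.Helper26.InjFlasque
import Groth.Agent.Lib.Helper26.FunctorMV
import Groth.Agent.Lib.Helper26.LerayBasis
import Groth.Agent.Lib.Helper42.ModSheaf

/-!
# Mayer–Vietoris for modules on a scheme (helper26)

* `H W : X.Modules ⥤ X.Modules`, `M ↦ (j_W)_* (M|_W)`, with restriction transformations
  `ρ : H W ⟶ H W'` for `W' ≤ W` (`ρ_app_app`: sectionwise these are restriction maps).
* `shortExact_of_sections`: a short complex of modules short exact on sections is short exact.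
* `exists_gluing₂`: gluing two sections.
* `mvExact U V`: the Mayer–Vietoris square of `H (U ⊔ V), H U, H V, H (U ⊓ V)` is short exact on
  injective modules (`FunctorMV.MVExact`).
-/

set_option autoImplicit false
universe u

open CategoryTheory AlgebraicGeometry TopologicalSpace Opposite CategoryTheory.Limits
open AlgebraicGeometry.Scheme.Modules

namespace Groth.Agent.Lib.Helper26.ModMV
open Groth.Agent.Lib.Helper26.FunctorMV

variable {X : Scheme.{u}}

/-- the endofunctor `M ↦ (j_W)_* (M|_W)` of `X.Modules` -/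
noncomputable def H (W : X.Opens) : X.Modules ⥤ X.Modules :=
  restrictFunctor W.ι ⋙ pushforward W.ι

lemma restrictFunctor_additive {Y Z : Scheme.{u}} (f : Y ⟶ Z) [IsOpenImmersion f] :
    (restrictFunctor f).Additive := by
  have := preservesBinaryBiproducts_of_preservesBinaryCoproducts (restrictFunctor f)
  exact Functor.additive_of_preservesBinaryBiproducts _

instance H_additive (W : X.Opens) : (H W).Additive := by
  have := restrictFunctor_additive W.ι
  unfold H; infer_instance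

/-- sections of `H W M` -/
lemma H_obj_obj (W : X.Opens) (M : X.Modules) (T : X.Opens) :
    Γ((H W).obj M, T) = Γ(M, W.ι ''ᵁ (W.ι ⁻¹ᵁ T)) := rfl

/-- the restriction transformation `H W ⟶ H W'` for `W' ≤ W` -/
noncomputable def ρ {W W' : X.Opens} (h : W' ≤ W) : H W ⟶ H W' :=
  Functor.whiskerLeft (restrictFunctor W.ι)
      (Functor.whiskerRight (restrictAdjunction (X.homOfLE h)).unit (pushforward W.ι)) ≫
    Functor.whiskerLeft (restrictFunctor W.ι ⋙ restrictFunctor (X.homOfLE h))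
      ((pushforwardComp (X.homOfLE h) W.ι).hom ≫ (pushforwardCongr (X.homOfLE_ι h)).hom) ≫
    Functor.whiskerRight ((restrictFunctorComp (X.homOfLE h) W.ι).inv ≫
      (restrictFunctorCongr (X.homOfLE_ι h)).hom) (pushforward W'.ι)

lemma le_FW {W W' : X.Opens} (h : W' ≤ W) (T : X.Opens) :
    W'.ι ''ᵁ (W'.ι ⁻¹ᵁ T) ≤ W.ι ''ᵁ (W.ι ⁻¹ᵁ T) := by
  rintro x ⟨y, hy, rfl⟩
  exact ⟨⟨y.1, h y.2⟩, hy, rfl⟩

lemma ρ_app_app {W W' : X.Opens} (h : W' ≤ W) (M : X.Modules) (T : X.Opens) :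
    ((ρ h).app M).app T = M.presheaf.map (homOfLE (le_FW h T)).op := by
  change M.presheaf.map _ ≫ (𝟙 _ ≫ M.presheaf.map _) ≫ (M.presheaf.map _ ≫ M.presheaf.map _) = _
  rw [Category.id_comp, ← Functor.map_comp, ← Functor.map_comp, ← Functor.map_comp]
  rfl



/-- the underlying abelian sheaf functor -/
noncomputable abbrev toAbF (X : Scheme.{u}) : X.Modules ⥤ CohTop.Ab X.toTopCat :=
  SheafOfModules.toSheaf.{u} X.ringCatSheaf

lemma additive_toAbF (X : Scheme.{u}) : (toAbF X).Additive :=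
  inferInstanceAs (SheafOfModules.toSheaf.{u} X.ringCatSheaf).Additive

lemma faithful_toAbF (X : Scheme.{u}) : (toAbF X).Faithful :=
  inferInstanceAs (SheafOfModules.toSheaf.{u} X.ringCatSheaf).Faithful

lemma preservesFiniteLimits_toAbF (X : Scheme.{u}) : PreservesFiniteLimits (toAbF X) :=
  inferInstanceAs (PreservesFiniteLimits (SheafOfModules.toSheaf.{u} X.ringCatSheaf))

lemma preservesFiniteColimits_toAbF (X : Scheme.{u}) : PreservesFiniteColimits (toAbF X) :=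
  have : PreservesFiniteColimits (SheafOfModules.toSheaf.{u} X.ringCatSheaf) :=
    PreservesColimitsOfSize.preservesFiniteColimits _
  inferInstanceAs (PreservesFiniteColimits (SheafOfModules.toSheaf.{u} X.ringCatSheaf))

lemma toAbF_map_app {M N : X.Modules} (φ : M ⟶ N) (T : X.Opens) :
    ((toAbF X).map φ).hom.app (op T) = φ.app T := rfl

/-- a short complex of modules which is short exact on sections over every open is short exact -/
theorem shortExact_of_sections (S : ShortComplex X.Modules)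
    (h1 : ∀ T : X.Opens, Function.Injective (S.f.app T))
    (h2 : ∀ T : X.Opens, ∀ s : Γ(S.X₂, T), S.g.app T s = 0 → ∃ t : Γ(S.X₁, T), S.f.app T t = s)
    (h3 : ∀ T : X.Opens, Function.Surjective (S.g.app T)) : S.ShortExact := by
  have hpl : PreservesFiniteLimits (toAbF X) := preservesFiniteLimits_toAbF X
  have hpc : PreservesFiniteColimits (toAbF X) := preservesFiniteColimits_toAbF X
  have hadd : (toAbF X).Additive := additive_toAbF X
  have hfaith : (toAbF X).Faithful := faithful_toAbF X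
  have hex : S.Exact := by
    rw [← ShortComplex.exact_map_iff_of_faithful S (toAbF X)]
    apply Groth.Agent.Lib.Helper26.LerayBasis.exact_of_sections_exact_basis (S.map (toAbF X))
      Set.univ (fun U x hx => ⟨U, trivial, hx, le_rfl⟩)
    intro V _ s hs
    exact h2 V s hs
  have hmono : Mono S.f := by
    apply (toAbF X).mono_of_mono_map
    apply (config := { allowSynthFailures := true }) Sheaf.Hom.mono_of_presheaf_mono
    apply (config := { allowSynthFailures := true }) NatTrans.mono_of_mono_app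
    intro T
    induction T using Opposite.rec with | _ T => ?_
    rw [AddCommGrpCat.mono_iff_injective]
    exact h1 T
  have hepi : Epi S.g := by
    apply (toAbF X).epi_of_epi_map
    rw [← CategoryTheory.Sheaf.isLocallySurjective_iff_epi']
    change TopCat.Presheaf.IsLocallySurjective ((toAbF X).map S.g).hom
    rw [TopCat.Presheaf.isLocallySurjective_iff]
    intro U k x hx
    obtain ⟨s, hs⟩ := h3 U k
    refine ⟨U, le_rfl, ⟨s, ?_⟩, hx⟩
    refine Eq.trans ?_ (Eq.trans hs ?_)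
    · rfl
    · simp
  exact { exact := hex, mono_f := hmono, epi_g := hepi }



/-- gluing two sections of a module -/
lemma exists_gluing₂ (M : X.Modules) (A B₁ B₂ : X.Opens) (h₁ : B₁ ≤ A) (h₂ : B₂ ≤ A)
    (hA : A ≤ B₁ ⊔ B₂) (s₁ : Γ(M, B₁)) (s₂ : Γ(M, B₂))
    (h : M.presheaf.map (homOfLE (inf_le_left : B₁ ⊓ B₂ ≤ B₁)).op s₁ =
      M.presheaf.map (homOfLE (inf_le_right : B₁ ⊓ B₂ ≤ B₂)).op s₂) :
    ∃ t : Γ(M, A), M.presheaf.map (homOfLE h₁).op t = s₁ ∧ M.presheaf.map (homOfLE h₂).op t = s₂ := by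
  let F : TopCat.Sheaf Ab X.toTopCat := ⟨M.presheaf, M.isSheaf⟩
  let U : Bool → Opens X := fun b => if b then B₁ else B₂
  let sf : ∀ b : Bool, ToType (F.1.obj (op (U b))) := fun b =>
    match b with
    | true => s₁
    | false => s₂
  have h' : ∀ (C : X.Opens) (hC₁ : C ≤ B₁) (hC₂ : C ≤ B₂),
      M.presheaf.map (homOfLE hC₁).op s₁ = M.presheaf.map (homOfLE hC₂).op s₂ := by
    intro C hC₁ hC₂
    have := congrArg (M.presheaf.map (homOfLE (le_inf hC₁ hC₂)).op) h
    rw [← ConcreteCategory.comp_apply, ← ConcreteCategory.comp_apply, ← Functor.map_comp,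
      ← Functor.map_comp] at this
    exact this
  have hc : TopCat.Presheaf.IsCompatible F.1 U sf := by
    rintro (_ | _) (_ | _)
    · rfl
    · exact (h' _ _ _).symm
    · exact h' _ _ _
    · rfl
  obtain ⟨t, ht, -⟩ := F.existsUnique_gluing' U A
    (fun b => match b with
      | true => homOfLE h₁
      | false => homOfLE h₂)
    (by
      refine hA.trans (sup_le ?_ ?_)
      · exact le_iSup U true
      · exact le_iSup U false) sf hc
  exact ⟨t, ht true, ht false⟩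



lemma mem_FW (W T : X.Opens) (x : X) : x ∈ W.ι ''ᵁ (W.ι ⁻¹ᵁ T) ↔ x ∈ W ∧ x ∈ T := by
  constructor
  · rintro ⟨y, hy, rfl⟩
    exact ⟨y.2, hy⟩
  · rintro ⟨h1, h2⟩
    exact ⟨⟨x, h1⟩, h2, rfl⟩

lemma FW_sup_le (U V T : X.Opens) :
    (U ⊔ V).ι ''ᵁ ((U ⊔ V).ι ⁻¹ᵁ T) ≤ U.ι ''ᵁ (U.ι ⁻¹ᵁ T) ⊔ V.ι ''ᵁ (V.ι ⁻¹ᵁ T) := by
  intro x hx
  have hx := (mem_FW (U ⊔ V) T x).1 hx
  rcases hx with ⟨h1 | h1, h2⟩
  · exact Or.inl ((mem_FW U T x).2 ⟨h1, h2⟩)
  · exact Or.inr ((mem_FW V T x).2 ⟨h1, h2⟩)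

lemma FW_inf_le (U V T : X.Opens) :
    U.ι ''ᵁ (U.ι ⁻¹ᵁ T) ⊓ V.ι ''ᵁ (V.ι ⁻¹ᵁ T) ≤ (U ⊓ V).ι ''ᵁ ((U ⊓ V).ι ⁻¹ᵁ T) := by
  rintro x ⟨hx1, hx2⟩
  have hx1 := (mem_FW U T x).1 hx1
  have hx2 := (mem_FW V T x).1 hx2
  exact (mem_FW (U ⊓ V) T x).2 ⟨⟨hx1.1, hx2.1⟩, hx1.2⟩

lemma ρ_comp {W W' W'' : X.Opens} (h : W' ≤ W) (h' : W'' ≤ W') :
    ρ h ≫ ρ h' = ρ (h'.trans h) := by
  ext M : 2
  apply Scheme.Modules.hom_ext
  intro T
  rw [NatTrans.comp_app, Hom.comp_app, ρ_app_app, ρ_app_app, ρ_app_app]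
  exact (M.presheaf.map_comp _ _).symm

/-- elements of a biproduct of modules are determined by their components -/
lemma biprod_ext_sections (P Q : X.Modules) (T : X.Opens) (x y : Γ(P ⊞ Q, T))
    (h1 : (biprod.fst : P ⊞ Q ⟶ P).app T x = (biprod.fst : P ⊞ Q ⟶ P).app T y)
    (h2 : (biprod.snd : P ⊞ Q ⟶ Q).app T x = (biprod.snd : P ⊞ Q ⟶ Q).app T y) : x = y := by
  have key : ∀ z : Γ(P ⊞ Q, T), z = (biprod.inl : P ⟶ P ⊞ Q).app T ((biprod.fst : P ⊞ Q ⟶ P).app T z) +
      (biprod.inr : Q ⟶ P ⊞ Q).app T ((biprod.snd : P ⊞ Q ⟶ Q).app T z) := by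
    intro z
    have h := congrArg (fun φ : P ⊞ Q ⟶ P ⊞ Q => φ.app T z) (biprod.total (X := P) (Y := Q))
    simp only [Hom.add_app, Hom.comp_app, Hom.id_app] at h
    exact h.symm
  rw [key x, key y, h1, h2]

lemma res_res (M : X.Modules) {A B C : X.Opens} (h1 : B ≤ A) (h2 : C ≤ B) (x : Γ(M, A)) :
    M.presheaf.map (homOfLE h2).op (M.presheaf.map (homOfLE h1).op x) =
      M.presheaf.map (homOfLE (h2.trans h1)).op x := by
  rw [← ConcreteCategory.comp_apply, ← Functor.map_comp]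
  rfl

/-- restriction maps of an injective module are surjective -/
lemma res_surjective_of_injective (I : X.Modules) (hI : Injective I) {A B : X.Opens} (h : B ≤ A) :
    Function.Surjective (I.presheaf.map (homOfLE h).op) := by
  have hf : TopCat.Sheaf.IsFlasque ((SheafOfModules.toSheaf X.ringCatSheaf).obj I) :=
    @Groth.Agent.Lib.Helper26.InjFlasque.isFlasque_of_injective _ X.ringCatSheaf I hI
  have := hf.epi (homOfLE h).op
  exact (AddCommGrpCat.epi_iff_surjective _).1 this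

/-- sections of `H (U ⊔ V) M` are determined by their restrictions -/
lemma H_jointly_injective (M : X.Modules) (U V T : X.Opens) (t : Γ((H (U ⊔ V)).obj M, T))
    (h1 : ((ρ (le_sup_left : U ≤ U ⊔ V)).app M).app T t = 0)
    (h2 : ((ρ (le_sup_right : V ≤ U ⊔ V)).app M).app T t = 0) : t = 0 := by
  rw [ρ_app_app] at h1 h2
  let F : TopCat.Sheaf Ab X.toTopCat := ⟨M.presheaf, M.isSheaf⟩
  exact F.eq_of_locally_eq₂ (homOfLE (le_FW le_sup_left T)) (homOfLE (le_FW le_sup_right T))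
    (FW_sup_le U V T) t 0 (by rw [map_zero]; exact h1) (by rw [map_zero]; exact h2)

/-- compatible sections of `H U M` and `H V M` glue -/
lemma H_glue (M : X.Modules) (U V T : X.Opens) (s₁ : Γ((H U).obj M, T)) (s₂ : Γ((H V).obj M, T))
    (hd : ((ρ (inf_le_left : U ⊓ V ≤ U)).app M).app T s₁ =
      ((ρ (inf_le_right : U ⊓ V ≤ V)).app M).app T s₂) :
    ∃ t : Γ((H (U ⊔ V)).obj M, T), ((ρ (le_sup_left : U ≤ U ⊔ V)).app M).app T t = s₁ ∧
      ((ρ (le_sup_right : V ≤ U ⊔ V)).app M).app T t = s₂ := by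
  rw [ρ_app_app, ρ_app_app] at hd
  have hglue : M.presheaf.map (homOfLE (inf_le_left :
        U.ι ''ᵁ (U.ι ⁻¹ᵁ T) ⊓ V.ι ''ᵁ (V.ι ⁻¹ᵁ T) ≤ U.ι ''ᵁ (U.ι ⁻¹ᵁ T))).op s₁ =
      M.presheaf.map (homOfLE (inf_le_right :
        U.ι ''ᵁ (U.ι ⁻¹ᵁ T) ⊓ V.ι ''ᵁ (V.ι ⁻¹ᵁ T) ≤ V.ι ''ᵁ (V.ι ⁻¹ᵁ T))).op s₂ := by
    have := congrArg (M.presheaf.map (homOfLE (FW_inf_le U V T)).op) hd
    exact (res_res M _ _ (show Γ(M, U.ι ''ᵁ (U.ι ⁻¹ᵁ T)) from s₁)).symm.trans
      (this.trans (res_res M _ _ (show Γ(M, V.ι ''ᵁ (V.ι ⁻¹ᵁ T)) from s₂)))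
  obtain ⟨t, ht1, ht2⟩ := exists_gluing₂ M _ _ _ (le_FW (le_sup_left : U ≤ U ⊔ V) T)
    (le_FW (le_sup_right : V ≤ U ⊔ V) T) (FW_sup_le U V T) s₁ s₂ hglue
  refine ⟨t, ?_, ?_⟩
  · rw [ρ_app_app]; exact ht1
  · rw [ρ_app_app]; exact ht2

/-- restriction maps of `H W I` for injective `I` are surjective -/
lemma H_surjective (I : X.Modules) (hI : Injective I) {W W' : X.Opens} (h : W' ≤ W) (T : X.Opens) :
    Function.Surjective (((ρ h).app I).app T) := by
  rw [ρ_app_app]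
  exact res_surjective_of_injective I hI (le_FW h T)

/-- a Mayer–Vietoris square of modules which is sectionwise "bicartesian with surjective leg" gives
a short exact sequence -/
theorem shortExact_of_mv_sections {P₀ P₁ P₂ P₃ : X.Modules} (a₁ : P₀ ⟶ P₁) (a₂ : P₀ ⟶ P₂)
    (b₁ : P₁ ⟶ P₃) (b₂ : P₂ ⟶ P₃)
    (w : biprod.lift a₁ a₂ ≫ biprod.desc b₁ (-b₂) = 0)
    (hinj : ∀ (T : X.Opens) (t : Γ(P₀, T)), a₁.app T t = 0 → a₂.app T t = 0 → t = 0)
    (hglue : ∀ (T : X.Opens) (s₁ : Γ(P₁, T)) (s₂ : Γ(P₂, T)), b₁.app T s₁ = b₂.app T s₂ →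
      ∃ t : Γ(P₀, T), a₁.app T t = s₁ ∧ a₂.app T t = s₂)
    (hsurj : ∀ T : X.Opens, Function.Surjective (b₁.app T)) :
    (ShortComplex.mk (biprod.lift a₁ a₂) (biprod.desc b₁ (-b₂)) w).ShortExact := by
  apply shortExact_of_sections
  · intro T
    rw [injective_iff_map_eq_zero]
    intro t ht
    have h1 : a₁.app T t = 0 := by
      have := congrArg ((biprod.fst : P₁ ⊞ P₂ ⟶ _).app T) ht
      rw [← ConcreteCategory.comp_apply, ← Hom.comp_app, biprod.lift_fst, map_zero] at this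
      exact this
    have h2 : a₂.app T t = 0 := by
      have := congrArg ((biprod.snd : P₁ ⊞ P₂ ⟶ _).app T) ht
      rw [← ConcreteCategory.comp_apply, ← Hom.comp_app, biprod.lift_snd, map_zero] at this
      exact this
    exact hinj T t h1 h2
  · intro T s hs
    have hd : b₁.app T ((biprod.fst : P₁ ⊞ P₂ ⟶ _).app T s) =
        b₂.app T ((biprod.snd : P₁ ⊞ P₂ ⟶ _).app T s) := by
      have h0 : (biprod.desc b₁ (-b₂)).app T s = 0 := hs
      rw [biprod.desc_eq] at h0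
      simp only [Hom.add_app, Hom.comp_app, Preadditive.comp_neg] at h0
      have h1 : b₁.app T ((biprod.fst : P₁ ⊞ P₂ ⟶ _).app T s) -
          b₂.app T ((biprod.snd : P₁ ⊞ P₂ ⟶ _).app T s) = 0 := by
        rw [sub_eq_add_neg]
        refine Eq.trans ?_ h0
        rfl
      exact sub_eq_zero.1 h1
    obtain ⟨t, ht1, ht2⟩ := hglue T _ _ hd
    refine ⟨t, ?_⟩
    apply biprod_ext_sections
    · change ((biprod.lift a₁ a₂) ≫ biprod.fst).app T t = _
      rw [biprod.lift_fst]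
      exact ht1
    · change ((biprod.lift a₁ a₂) ≫ biprod.snd).app T t = _
      rw [biprod.lift_snd]
      exact ht2
  · intro T c
    obtain ⟨s₁, hs₁⟩ := hsurj T c
    refine ⟨(biprod.inl : P₁ ⟶ P₁ ⊞ P₂).app T s₁, ?_⟩
    change ((biprod.inl : P₁ ⟶ P₁ ⊞ P₂) ≫ biprod.desc b₁ (-b₂)).app T s₁ = c
    rw [biprod.inl_desc]
    exact hs₁

theorem mvExact (U V : X.Opens) :
    MVExact (ρ (le_sup_left : U ≤ U ⊔ V)) (ρ (le_sup_right : V ≤ U ⊔ V))
      (ρ (inf_le_left : U ⊓ V ≤ U)) (ρ (inf_le_right : U ⊓ V ≤ V)) where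
  comm := by rw [ρ_comp, ρ_comp]
  shortExact I hI := by
    apply shortExact_of_mv_sections
    · intro T t h1 h2
      exact H_jointly_injective I U V T t h1 h2
    · intro T s₁ s₂ hd
      exact H_glue I U V T s₁ s₂ hd
    · intro T
      exact H_surjective I hI _ T

/-- the relative version: `G f W = H W ⋙ f_*` -/
noncomputable def G {S : Scheme.{u}} (f : X ⟶ S) (W : X.Opens) : X.Modules ⥤ S.Modules :=
  H W ⋙ pushforward f

instance G_additive {S : Scheme.{u}} (f : X ⟶ S) (W : X.Opens) : (G f W).Additive := by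
  unfold G; infer_instance

/-- restriction transformations of the relative version -/
noncomputable def ρG {S : Scheme.{u}} (f : X ⟶ S) {W W' : X.Opens} (h : W' ≤ W) :
    G f W ⟶ G f W' :=
  Functor.whiskerRight (ρ h) (pushforward f)

lemma ρG_app_app {S : Scheme.{u}} (f : X ⟶ S) {W W' : X.Opens} (h : W' ≤ W) (M : X.Modules)
    (T : S.Opens) : ((ρG f h).app M).app T = ((ρ h).app M).app (f ⁻¹ᵁ T) := rfl

lemma ρG_comp {S : Scheme.{u}} (f : X ⟶ S) {W W' W'' : X.Opens} (h : W' ≤ W) (h' : W'' ≤ W') :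
    ρG f h ≫ ρG f h' = ρG f (h'.trans h) := by
  ext M : 2
  apply Scheme.Modules.hom_ext
  intro T
  rw [NatTrans.comp_app, Hom.comp_app, ρG_app_app, ρG_app_app, ρG_app_app, ← ρ_comp h h']
  rfl

theorem mvExactG {S : Scheme.{u}} (f : X ⟶ S) (U V : X.Opens) :
    MVExact (ρG f (le_sup_left : U ≤ U ⊔ V)) (ρG f (le_sup_right : V ≤ U ⊔ V))
      (ρG f (inf_le_left : U ⊓ V ≤ U)) (ρG f (inf_le_right : U ⊓ V ≤ V)) where
  comm := by rw [ρG_comp, ρG_comp]
  shortExact I hI := by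
    apply shortExact_of_mv_sections
    · intro T t h1 h2
      exact H_jointly_injective I U V (f ⁻¹ᵁ T) t h1 h2
    · intro T s₁ s₂ hd
      exact H_glue I U V (f ⁻¹ᵁ T) s₁ s₂ hd
    · intro T
      exact H_surjective I hI _ (f ⁻¹ᵁ T)

end Groth.Agent.Lib.Helper26.ModMV
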