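import Groth.Agent.Lib.Helper68.RightDerivedLES
import Groth.Agent.Lib.Helper68.LerayAcyclic
import Mathlib.CategoryTheory.Abelian.RightDerived

/-! Degenerate case of the Grothendieck spectral sequence of a composite `G ⋙ F` of left exact
functors: if `G` sends injectives to `F`-acyclic objects and the object `X` is `G`-acyclic, then
`Rᵖ(G ⋙ F)(X) ≅ RᵖF(G X)`.  Proved by dimension shifting. -/

set_option autoImplicit false
universe v u v' u' v'' u''

open CategoryTheory Category Limits

namespace Groth.Agent.Lib.Helper26.DegComposite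

open Groth.Agent.Lib.Helper68.RightDerivedLES

section one

variable {B : Type u'} [Category.{v'} B] [Abelian B] [HasInjectiveResolutions B]
variable {C : Type u''} [Category.{v''} C] [Abelian C]
variable (F : B ⥤ C) [F.Additive] [PreservesFiniteLimits F]

/-- for a left exact functor and a short exact sequence with `R¹F(X₂) = 0`,
`R¹F(X₁)` is the cokernel of `F(X₂) ⟶ F(X₃)`. -/
noncomputable def rightDerivedOneIsoCokernel {S : ShortComplex B} (hS : S.ShortExact)
    (h : IsZero ((F.rightDerived 1).obj S.X₂)) :
    (F.rightDerived 1).obj S.X₁ ≅ cokernel (F.map S.g) := by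
  have hepi : Epi (δ F hS 0) := epi_δ F hS 0 h
  let e1 : (F.rightDerived 1).obj S.X₁ ≅ cokernel ((F.rightDerived 0).map S.g) :=
    (IsColimit.coconePointUniqueUpToIso (colimit.isColimit _)
      ((exact₃ F hS 0).gIsCokernel)).symm
  let e2 : cokernel ((F.rightDerived 0).map S.g) ≅ cokernel (F.map S.g) :=
    cokernel.mapIso _ _ (F.rightDerivedZeroIsoSelf.app S.X₂) (F.rightDerivedZeroIsoSelf.app S.X₃)
      (by simp)
  exact e1 ≪≫ e2

end one

variable {A : Type u} [Category.{v} A] [Abelian A] [EnoughInjectives A]
variable {B : Type u'} [Category.{v'} B] [Abelian B] [HasInjectiveResolutions B]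
variable {C : Type u''} [Category.{v''} C] [Abelian C]
variable (G : A ⥤ B) [G.Additive] [PreservesFiniteLimits G]
variable (F : B ⥤ C) [F.Additive] [PreservesFiniteLimits F]

open Abelian in
/-- the short exact sequence `0 → X → I → I/X → 0` with `I` injective -/
noncomputable def injSeq (X : A) : ShortComplex A :=
  ShortComplex.mk (Injective.ι X) (cokernel.π (Injective.ι X)) (cokernel.condition _)

lemma injSeq_shortExact (X : A) : (injSeq X).ShortExact where
  exact := ShortComplex.exact_cokernel _
  mono_f := by dsimp [injSeq]; infer_instance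
  epi_g := by dsimp [injSeq]; infer_instance

instance (X : A) : Injective (injSeq X).X₂ := by
  dsimp [injSeq]; infer_instance

omit [HasInjectiveResolutions B] in
/-- `G` maps the injective sequence of a `G`-acyclic object to a short exact sequence -/
lemma injSeq_map_shortExact (X : A) (h : IsZero ((G.rightDerived 1).obj X)) :
    ((injSeq X).map G).ShortExact := by
  have hS := injSeq_shortExact X
  have : Mono (G.map (injSeq X).f) := by
    have := hS.mono_f
    infer_instance
  have : Epi (G.map (injSeq X).g) :=
    Groth.Agent.Lib.Helper68.LerayAcyclic.epi_map_g G hS h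
  exact ShortComplex.ShortExact.mk' (hS.exact.map_of_mono_of_preservesKernel G hS.mono_f
    inferInstance) ‹_› ‹_›

omit [HasInjectiveResolutions B] [PreservesFiniteLimits G] in
/-- the cokernel of a `G`-acyclic object in an injective is again `G`-acyclic -/
lemma isZero_rightDerived_injSeq_X₃ (X : A)
    (h : ∀ q : ℕ, IsZero ((G.rightDerived (q + 1)).obj X)) (q : ℕ) :
    IsZero ((G.rightDerived (q + 1)).obj (injSeq X).X₃) :=
  isZero_right G (injSeq_shortExact X) (q + 1)
    (Functor.isZero_rightDerived_obj_injective_succ G q _) (h (q + 1))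

include G F in
/-- **Degenerate Grothendieck spectral sequence**, positive degrees. -/
theorem nonempty_iso_succ
    (hinj : ∀ (I : A) [Injective I] (q : ℕ), IsZero ((F.rightDerived (q + 1)).obj (G.obj I)))
    (p : ℕ) : ∀ (X : A) (_ : ∀ q : ℕ, IsZero ((G.rightDerived (q + 1)).obj X)),
      Nonempty (((G ⋙ F).rightDerived (p + 1)).obj X ≅ (F.rightDerived (p + 1)).obj (G.obj X)) := by
  have : PreservesFiniteLimits (G ⋙ F) := comp_preservesFiniteLimits G F
  induction p with
  | zero =>
    intro X hX
    have hS := injSeq_shortExact X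
    have hS' := injSeq_map_shortExact G X (hX 0)
    let e1 := rightDerivedOneIsoCokernel (G ⋙ F) hS
      (Functor.isZero_rightDerived_obj_injective_succ (G ⋙ F) 0 _)
    let e2 := rightDerivedOneIsoCokernel F hS' (hinj (injSeq X).X₂ 0)
    exact ⟨e1 ≪≫ e2.symm⟩
  | succ p ih =>
    intro X hX
    have hS := injSeq_shortExact X
    have hS' := injSeq_map_shortExact G X (hX 0)
    obtain ⟨e⟩ := ih (injSeq X).X₃ (isZero_rightDerived_injSeq_X₃ G X hX)
    have h1 : IsIso (δ (G ⋙ F) hS (p + 1)) := isIso_δ (G ⋙ F) hS (p + 1)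
      (Functor.isZero_rightDerived_obj_injective_succ (G ⋙ F) p _)
      (Functor.isZero_rightDerived_obj_injective_succ (G ⋙ F) (p + 1) _)
    have h2 : IsIso (δ F hS' (p + 1)) := isIso_δ F hS' (p + 1)
      (hinj (injSeq X).X₂ p) (hinj (injSeq X).X₂ (p + 1))
    let e1 := asIso (δ (G ⋙ F) hS (p + 1))
    let e2 := asIso (δ F hS' (p + 1))
    exact ⟨e1.symm ≪≫ e ≪≫ e2⟩

include G F in
/-- **Degenerate Grothendieck spectral sequence**: if `G` sends injectives to `F`-acyclic objects
and `X` is `G`-acyclic then `Rᵖ(G ⋙ F)(X) ≅ RᵖF(G X)`. -/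
theorem nonempty_iso
    (hinj : ∀ (I : A) [Injective I] (q : ℕ), IsZero ((F.rightDerived (q + 1)).obj (G.obj I)))
    (X : A) (hX : ∀ q : ℕ, IsZero ((G.rightDerived (q + 1)).obj X)) (p : ℕ) :
    Nonempty (((G ⋙ F).rightDerived p).obj X ≅ (F.rightDerived p).obj (G.obj X)) := by
  have : PreservesFiniteLimits (G ⋙ F) := comp_preservesFiniteLimits G F
  cases p with
  | zero =>
    exact ⟨(G ⋙ F).rightDerivedZeroIsoSelf.app X ≪≫ (F.rightDerivedZeroIsoSelf.app (G.obj X)).symm⟩
  | succ p => exact nonempty_iso_succ G F hinj p X hX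

/-- right derived functors of isomorphic functors are isomorphic -/
noncomputable def rightDerivedMapIso {A : Type u} [Category.{v} A] [Abelian A]
    [HasInjectiveResolutions A] {F F' : A ⥤ C} [F.Additive] [F'.Additive] (e : F ≅ F') (n : ℕ) :
    F.rightDerived n ≅ F'.rightDerived n where
  hom := NatTrans.rightDerived e.hom n
  inv := NatTrans.rightDerived e.inv n
  hom_inv_id := by rw [← NatTrans.rightDerived_comp, e.hom_inv_id, NatTrans.rightDerived_id]
  inv_hom_id := by rw [← NatTrans.rightDerived_comp, e.inv_hom_id, NatTrans.rightDerived_id]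

end Groth.Agent.Lib.Helper26.DegComposite
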