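import Mathlib

set_option autoImplicit false
universe v v' v'' u u' u''

open CategoryTheory CategoryTheory.Limits

namespace Groth.Agent.Lib.Helper26.DerivedExactComp

variable {A : Type u} [Category.{v} A] [Abelian A] [HasInjectiveResolutions A]
variable {B : Type u'} [Category.{v'} B] [Abelian B]
variable {C : Type u''} [Category.{v''} C] [Abelian C]

/-- an exact functor commutes with homology of a complex -/
noncomputable def mapHomologyIso (E : B ⥤ C) [E.Additive] [PreservesFiniteLimits E]
    [PreservesFiniteColimits E] {ι : Type*} {c : ComplexShape ι} (K : HomologicalComplex B c)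
    (n : ι) :
    ((E.mapHomologicalComplex c).obj K).homology n ≅ E.obj (K.homology n) :=
  (K.sc n).mapHomologyIso E

/-- post-composition with an exact functor commutes with right derived functors -/
theorem nonempty_rightDerived_comp_exact_iso (G : A ⥤ B) [G.Additive] (E : B ⥤ C) [E.Additive]
    [PreservesFiniteLimits E] [PreservesFiniteColimits E] (X : A) (n : ℕ) :
    Nonempty (((G ⋙ E).rightDerived n).obj X ≅ E.obj ((G.rightDerived n).obj X)) := by
  let I : InjectiveResolution X := Classical.choice (HasInjectiveResolution.out)
  refine ⟨I.isoRightDerivedObj (G ⋙ E) n ≪≫ ?_ ≪≫ E.mapIso (I.isoRightDerivedObj G n).symm⟩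
  exact mapHomologyIso E ((G.mapHomologicalComplex _).obj I.cocomplex) n

/-- the higher right derived functors of an exact functor vanish -/
theorem isZero_rightDerived_succ_of_exact (E : A ⥤ C) [E.Additive]
    [PreservesFiniteLimits E] [PreservesFiniteColimits E] (X : A) (n : ℕ) :
    IsZero ((E.rightDerived (n + 1)).obj X) := by
  let I : InjectiveResolution X := Classical.choice (HasInjectiveResolution.out)
  refine IsZero.of_iso ?_ (I.isoRightDerivedObj E (n + 1) ≪≫ mapHomologyIso E I.cocomplex (n + 1))
  apply Functor.map_isZero
  rw [← HomologicalComplex.exactAt_iff_isZero_homology]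
  exact I.cocomplex_exactAt_succ n

end Groth.Agent.Lib.Helper26.DerivedExactComp
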