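import Mathlib
import Groth.Agent.Lib.Helper26.FunctorMV

/-!
# Mayer–Vietoris and weak Serre classes (helper26)

* `shortExact_of_five`: the extension `0 → coker a → C → ker d → 0` of an exact sequence
  `A → B → C → D → E`.
* `QClosed Q`: closure of a class of objects under isomorphisms, kernels, cokernels, extensions.
* `Q_rightDerived_of_mv`: for a Mayer–Vietoris square of functors (`FunctorMV.MVExact`), if the
  derived functors of `G₁, G₂, G₃` at `X` are in the class then so are those of `G₀`.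
-/

set_option autoImplicit false
universe v u v' u'

open CategoryTheory Category Limits

namespace Groth.Agent.Lib.Helper26.MVClosure
open Groth.Agent.Lib.Helper26.FunctorMV

section five
variable {D : Type u'} [Category.{v'} D] [Abelian D]

/-- the extension `0 → coker a → C → ker d → 0` attached to an exact sequence
`A → B → C → D → E` -/
theorem shortExact_of_five {A B C E F : D} (a : A ⟶ B) (b : B ⟶ C) (c : C ⟶ E) (d : E ⟶ F)
    (w₁ : a ≫ b = 0) (w₂ : b ≫ c = 0) (w₃ : c ≫ d = 0)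
    (h₁ : (ShortComplex.mk a b w₁).Exact) (h₂ : (ShortComplex.mk b c w₂).Exact)
    (h₃ : (ShortComplex.mk c d w₃).Exact) :
    ∃ w : cokernel.desc a b w₁ ≫ kernel.lift d c w₃ = 0,
      (ShortComplex.mk (cokernel.desc a b w₁) (kernel.lift d c w₃) w).ShortExact := by
  have w : cokernel.desc a b w₁ ≫ kernel.lift d c w₃ = 0 := by
    rw [← cancel_epi (cokernel.π a), ← cancel_mono (kernel.ι d)]
    simp [w₂]
  refine ⟨w, ?_⟩
  have hm : Mono (cokernel.desc a b w₁) := h₁.mono_cokernelDesc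
  have he : Epi (kernel.lift d c w₃) := h₃.epi_kernelLift
  -- exactness in the middle
  have w' : cokernel.desc a b w₁ ≫ c = 0 := by
    rw [← cancel_epi (cokernel.π a)]
    simp [w₂]
  let S' : ShortComplex D := ShortComplex.mk (cokernel.desc a b w₁) c w'
  let φ₁ : ShortComplex.mk b c w₂ ⟶ S' :=
    { τ₁ := cokernel.π a, τ₂ := 𝟙 _, τ₃ := 𝟙 _, comm₁₂ := by simp [S'], comm₂₃ := by simp [S'] }
  have hS' : S'.Exact := by
    have : Epi φ₁.τ₁ := inferInstanceAs (Epi (cokernel.π a))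
    have : IsIso φ₁.τ₂ := inferInstanceAs (IsIso (𝟙 _))
    have : Mono φ₁.τ₃ := inferInstanceAs (Mono (𝟙 _))
    exact (ShortComplex.exact_iff_of_epi_of_isIso_of_mono φ₁).1 h₂
  let φ₂ : ShortComplex.mk (cokernel.desc a b w₁) (kernel.lift d c w₃) w ⟶ S' :=
    { τ₁ := 𝟙 _, τ₂ := 𝟙 _, τ₃ := kernel.ι d, comm₁₂ := by simp [S'], comm₂₃ := by simp [S'] }
  have hex : (ShortComplex.mk (cokernel.desc a b w₁) (kernel.lift d c w₃) w).Exact := by
    have : Epi φ₂.τ₁ := inferInstanceAs (Epi (𝟙 _))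
    have : IsIso φ₂.τ₂ := inferInstanceAs (IsIso (𝟙 _))
    have : Mono φ₂.τ₃ := inferInstanceAs (Mono (kernel.ι d))
    exact (ShortComplex.exact_iff_of_epi_of_isIso_of_mono φ₂).2 hS'
  exact { exact := hex, mono_f := hm, epi_g := he }

lemma sc_exact_of_mk₂ {A B C : D} (f : A ⟶ B) (g : B ⟶ C)
    (h : (ComposableArrows.mk₂ f g).Exact) :
    ∃ w : f ≫ g = 0, (ShortComplex.mk f g w).Exact :=
  ⟨h.toIsComplex.zero 0, h.exact' 0 1 2⟩

end five

section closure
variable {C : Type u} [Category.{v} C] [Abelian C] [HasInjectiveResolutions C]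
variable {D : Type u'} [Category.{v'} D] [Abelian D]
variable {G₀ G₁ G₂ G₃ : C ⥤ D} [G₀.Additive] [G₁.Additive] [G₂.Additive] [G₃.Additive]
variable {a₁ : G₀ ⟶ G₁} {a₂ : G₀ ⟶ G₂} {b₁ : G₁ ⟶ G₃} {b₂ : G₂ ⟶ G₃}

/-- closure properties of a class of objects of an abelian category (a weak Serre subcategory) -/
structure QClosed (Q : D → Prop) : Prop where
  iso : ∀ {A B : D}, (A ≅ B) → Q A → Q B
  ker : ∀ {A B : D} (f : A ⟶ B), Q A → Q B → Q (kernel f)
  coker : ∀ {A B : D} (f : A ⟶ B), Q A → Q B → Q (cokernel f)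
  ext : ∀ (S : ShortComplex D), S.ShortExact → Q S.X₁ → Q S.X₃ → Q S.X₂

lemma QClosed.biprod {Q : D → Prop} (hQ : QClosed Q) {A B : D} (hA : Q A) (hB : Q B) :
    Q (A ⊞ B) :=
  hQ.ext _ (ShortComplex.Splitting.ofHasBinaryBiproduct A B).shortExact hA hB

/-- Mayer–Vietoris for a weak Serre class: if the derived functors of `G₁, G₂, G₃` at `X` land in
the class, so do those of `G₀` -/
theorem Q_rightDerived_of_mv {Q : D → Prop} (hQ : QClosed Q) (h : MVExact a₁ a₂ b₁ b₂) (X : C)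
    (h1 : ∀ n, Q ((G₁.rightDerived n).obj X)) (h2 : ∀ n, Q ((G₂.rightDerived n).obj X))
    (h3 : ∀ n, Q ((G₃.rightDerived n).obj X)) (n : ℕ) : Q ((G₀.rightDerived n).obj X) := by
  have hb : ∀ n, Q ((G₁.rightDerived n).obj X ⊞ (G₂.rightDerived n).obj X) := fun n =>
    hQ.biprod (h1 n) (h2 n)
  cases n with
  | zero =>
    -- `R⁰G₀ X` is the kernel of `desc`
    obtain ⟨w, hex⟩ := sc_exact_of_mk₂ _ _ (exact₂ h X 0)
    have hm := mono_lift h X
    have hk : IsLimit (KernelFork.ofι _ w) := hex.fIsKernel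
    let e : (G₀.rightDerived 0).obj X ≅ kernel (biprod.desc ((NatTrans.rightDerived b₁ 0).app X)
        (-((NatTrans.rightDerived b₂ 0).app X))) :=
      IsLimit.conePointUniqueUpToIso hk (limit.isLimit _)
    exact hQ.iso e.symm (hQ.ker _ (hb 0) (h3 0))
  | succ n =>
    obtain ⟨w₁, hex₁⟩ := sc_exact_of_mk₂ _ _ (exact₃ h X n)
    obtain ⟨w₂, hex₂⟩ := sc_exact_of_mk₂ _ _ (exact₁ h X n)
    obtain ⟨w₃, hex₃⟩ := sc_exact_of_mk₂ _ _ (exact₂ h X (n + 1))
    obtain ⟨w, hS⟩ := shortExact_of_five _ _ _ _ w₁ w₂ w₃ hex₁ hex₂ hex₃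
    exact hQ.ext _ hS (hQ.coker _ (hb n) (h3 n)) (hQ.ker _ (hb (n + 1)) (h3 (n + 1)))

end closure


end Groth.Agent.Lib.Helper26.MVClosure
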