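import Groth.Prelude.Def_CohTop
import Groth.Agent.Lib.Helper53.FlasqueLocal
import Mathlib.CategoryTheory.Sites.SheafCohomology.MayerVietoris
import Mathlib.Topology.Sheaves.MayerVietoris

/-!
# Mayer-Vietoris consequences for abelian sheaves on a topological space
-/

set_option autoImplicit false
universe w v u

open CategoryTheory TopologicalSpace Opposite CategoryTheory.Limits Abelian

namespace Groth.Agent.Lib.Helper26.MVTop

section General

variable {C : Type u} [Category.{v} C] {J : GrothendieckTopology C}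
  [HasWeakSheafify J (Type v)] [HasSheafify J AddCommGrpCat.{v}]
  [HasExt.{w} (Sheaf J AddCommGrpCat.{v})]
  (S : J.MayerVietorisSquare) (F : Sheaf J AddCommGrpCat.{v})

theorem mv_exists_gen (n : ℕ) (α : F.H' (n + 1) S.X₄)
    (h2 : (F.cohomologyPresheaf (n + 1)).map S.f₂₄.op α = 0)
    (h3 : (F.cohomologyPresheaf (n + 1)).map S.f₃₄.op α = 0) :
    ∃ β : F.H' n S.X₁, S.δ F n (n + 1) rfl β = α := by
  have hex := (S.sequence_exact F n (n + 1) rfl).exact 2
  rw [ShortComplex.ab_exact_iff] at hex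
  apply hex α
  change S.toBiprod F (n + 1) α = 0
  rw [GrothendieckTopology.MayerVietorisSquare.toBiprod_apply, h2, h3]
  exact map_zero _

theorem mv_delta_sub_gen (n : ℕ) (x : F.H' n S.X₂) (y : F.H' n S.X₃) :
    S.δ F n (n + 1) rfl
      ((F.cohomologyPresheaf n).map S.f₁₂.op x - (F.cohomologyPresheaf n).map S.f₁₃.op y) = 0 := by
  have h := S.fromBiprod_δ F n (n + 1) rfl
  have h2 := congr($h ((AddCommGrpCat.biprodIsoProd _ _).inv ⟨x, y⟩))
  rw [ConcreteCategory.comp_apply,
    GrothendieckTopology.MayerVietorisSquare.fromBiprod_biprodIsoProd_inv_apply] at h2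
  exact h2

end General

open Groth.Agent.Lib.Helper53

variable {X : TopCat.{u}}

theorem res_res (F : CohTop.Ab X) (n : ℕ) {U V W : Opens X} (h1 : V ≤ U) (h2 : W ≤ V)
    (ξ : CohTop.HU F n U) :
    CohTop.res F n h2 (CohTop.res F n h1 ξ) = CohTop.res F n (h2.trans h1) ξ := by
  change ((Sheaf.cohomologyPresheaf.{u} F n).map (homOfLE h2).op).hom
    (((Sheaf.cohomologyPresheaf.{u} F n).map (homOfLE h1).op).hom ξ) = _
  rw [← ConcreteCategory.comp_apply, ← Functor.map_comp]
  rfl

theorem res_self (F : CohTop.Ab X) (n : ℕ) {U : Opens X} (h : U ≤ U) (ξ : CohTop.HU F n U) :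
    CohTop.res F n h ξ = ξ := by
  have : (homOfLE h).op = 𝟙 (op U) := rfl
  change ((Sheaf.cohomologyPresheaf.{u} F n).map (homOfLE h).op).hom ξ = ξ
  rw [this, CategoryTheory.Functor.map_id]
  rfl

/-- Mayer-Vietoris: a class on `U ⊔ V` vanishing on `U` and on `V` comes from `U ⊓ V`. -/
theorem mv_exists (F : CohTop.Ab X) (U V : Opens X) (n : ℕ)
    (α : CohTop.HU F (n + 1) (U ⊔ V))
    (hU : CohTop.res F (n + 1) (le_sup_left : U ≤ U ⊔ V) α = 0)
    (hV : CohTop.res F (n + 1) (le_sup_right : V ≤ U ⊔ V) α = 0) :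
    ∃ β : CohTop.HU F n (U ⊓ V), (Opens.mayerVietorisSquare U V).δ F n (n + 1) rfl β = α :=
  mv_exists_gen (Opens.mayerVietorisSquare U V) F n α hU hV

/-- Mayer-Vietoris: the connecting map kills differences of restrictions. -/
theorem mv_delta_sub (F : CohTop.Ab X) (U V : Opens X) (n : ℕ)
    (x : CohTop.HU F n U) (y : CohTop.HU F n V) :
    (Opens.mayerVietorisSquare U V).δ F n (n + 1) rfl
      (CohTop.res F n (inf_le_left : U ⊓ V ≤ U) x - CohTop.res F n (inf_le_right : U ⊓ V ≤ V) y) = 0 :=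
  mv_delta_sub_gen (Opens.mayerVietorisSquare U V) F n x y

/-- the universal section of the free sheaf on an open -/
noncomputable def univSec (U : Opens X) : (freeSheaf U).obj.obj (op U) :=
  freeSheafHomEquiv U (freeSheaf U) (𝟙 _)

theorem freeSheafHomEquiv_eq (U : Opens X) (G : CohTop.Ab X) (f : freeSheaf U ⟶ G) :
    freeSheafHomEquiv U G f = f.hom.app (op U) (univSec U) := by
  have := freeSheafHomEquiv_naturality_right U f (𝟙 _)
  rwa [Category.id_comp] at this

theorem freeSheafHomEquiv_sub (U : Opens X) (G : CohTop.Ab X) (f g : freeSheaf U ⟶ G) :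
    freeSheafHomEquiv U G (f - g) = freeSheafHomEquiv U G f - freeSheafHomEquiv U G g := by
  simp only [freeSheafHomEquiv_eq]
  rfl

theorem freeSheafHomEquiv_symm_sub (U : Opens X) (G : CohTop.Ab X) (s t : G.obj.obj (op U)) :
    (freeSheafHomEquiv U G).symm (s - t) =
      (freeSheafHomEquiv U G).symm s - (freeSheafHomEquiv U G).symm t := by
  apply (freeSheafHomEquiv U G).injective
  rw [freeSheafHomEquiv_sub, Equiv.apply_symm_apply, Equiv.apply_symm_apply, Equiv.apply_symm_apply]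

/-- the degree-zero class over `U` of a section over `U` -/
noncomputable def cls (F : CohTop.Ab X) (U : Opens X) (s : F.obj.obj (op U)) : CohTop.HU F 0 U :=
  Ext.mk₀ ((freeSheafHomEquiv U F).symm s)

theorem cls_surjective (F : CohTop.Ab X) (U : Opens X) (β : CohTop.HU F 0 U) :
    ∃ s : F.obj.obj (op U), cls F U s = β := by
  obtain ⟨g, hg⟩ := (Ext.mk₀_bijective (freeSheaf U) F).2 β
  exact ⟨freeSheafHomEquiv U F g, by rw [cls, Equiv.symm_apply_apply]; exact hg⟩

theorem res_cls (F : CohTop.Ab X) {U V : Opens X} (h : V ≤ U) (s : F.obj.obj (op U)) :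
    CohTop.res F 0 h (cls F U s) = cls F V (F.obj.map (homOfLE h).op s) := by
  rw [res_eq, cls, cls, Ext.mk₀_comp_mk₀]
  congr 1
  apply (freeSheafHomEquiv V F).injective
  rw [freeSheafHomEquiv_naturality_left, Equiv.apply_symm_apply, Equiv.apply_symm_apply]

theorem cls_sub (F : CohTop.Ab X) (U : Opens X) (s t : F.obj.obj (op U)) :
    cls F U (s - t) = cls F U s - cls F U t := by
  rw [cls, cls, cls, freeSheafHomEquiv_symm_sub]
  rw [sub_eq_add_neg, Ext.mk₀_add, Ext.mk₀_neg, ← sub_eq_add_neg]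
  rfl

/-- Gluing vanishing along a two-member cover. -/
theorem eq_zero_of_sup (F : CohTop.Ab X) (U V : Opens X) (n : ℕ)
    (h : ∀ β : CohTop.HU F n (U ⊓ V), ∃ (x : CohTop.HU F n U) (y : CohTop.HU F n V),
      CohTop.res F n (inf_le_left : U ⊓ V ≤ U) x - CohTop.res F n (inf_le_right : U ⊓ V ≤ V) y = β)
    (α : CohTop.HU F (n + 1) (U ⊔ V))
    (hU : CohTop.res F (n + 1) (le_sup_left : U ≤ U ⊔ V) α = 0)
    (hV : CohTop.res F (n + 1) (le_sup_right : V ≤ U ⊔ V) α = 0) : α = 0 := by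
  obtain ⟨β, rfl⟩ := mv_exists F U V n α hU hV
  obtain ⟨x, y, rfl⟩ := h β
  exact mv_delta_sub F U V n x y

/-- Gluing vanishing along a two-member cover, with the union only propositionally a join. -/
theorem eq_zero_of_eq_sup (F : CohTop.Ab X) (W U V : Opens X) (hW : W = U ⊔ V) (n : ℕ)
    (h : ∀ β : CohTop.HU F n (U ⊓ V), ∃ (x : CohTop.HU F n U) (y : CohTop.HU F n V),
      CohTop.res F n (inf_le_left : U ⊓ V ≤ U) x - CohTop.res F n (inf_le_right : U ⊓ V ≤ V) y = β)
    (α : CohTop.HU F (n + 1) W)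
    (hU : CohTop.res F (n + 1) (hW ▸ le_sup_left : U ≤ W) α = 0)
    (hV : CohTop.res F (n + 1) (hW ▸ le_sup_right : V ≤ W) α = 0) : α = 0 := by
  subst hW
  exact eq_zero_of_sup F U V n h α hU hV

/-- the hypothesis of `eq_zero_of_sup` in positive degrees -/
theorem exists_sub_of_subsingleton (F : CohTop.Ab X) (U V : Opens X) (n : ℕ)
    [Subsingleton (CohTop.HU F n (U ⊓ V))] (β : CohTop.HU F n (U ⊓ V)) :
    ∃ (x : CohTop.HU F n U) (y : CohTop.HU F n V),
      CohTop.res F n (inf_le_left : U ⊓ V ≤ U) x - CohTop.res F n (inf_le_right : U ⊓ V ≤ V) y = β :=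
  ⟨0, 0, Subsingleton.elim _ _⟩

/-- the hypothesis of `eq_zero_of_sup` in degree zero -/
theorem exists_sub_of_sections (F : CohTop.Ab X) (U V : Opens X)
    (h : ∀ s : F.obj.obj (op (U ⊓ V)), ∃ (a : F.obj.obj (op U)) (b : F.obj.obj (op V)),
      F.obj.map (homOfLE (inf_le_left : U ⊓ V ≤ U)).op a -
        F.obj.map (homOfLE (inf_le_right : U ⊓ V ≤ V)).op b = s)
    (β : CohTop.HU F 0 (U ⊓ V)) :
    ∃ (x : CohTop.HU F 0 U) (y : CohTop.HU F 0 V),
      CohTop.res F 0 (inf_le_left : U ⊓ V ≤ U) x - CohTop.res F 0 (inf_le_right : U ⊓ V ≤ V) y = β := by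
  obtain ⟨s, rfl⟩ := cls_surjective F _ β
  obtain ⟨a, b, rfl⟩ := h s
  exact ⟨cls F U a, cls F V b, by rw [res_cls, res_cls, cls_sub]⟩

/-- higher classes vanish locally -/
theorem exists_nhd_res_eq_zero (F : CohTop.Ab X) (n : ℕ) (U : Opens X)
    (α : CohTop.HU F (n + 1) U) (x : X) (hx : x ∈ U) :
    ∃ (V : Opens X) (hV : V ≤ U), x ∈ V ∧ CohTop.res F (n + 1) hV α = 0 := by
  obtain ⟨ι, V, hV, hsup, hz⟩ := exists_cover_res_eq_zero n F U α
  rw [← hsup] at hx
  obtain ⟨i, hi⟩ := Opens.mem_iSup.1 hx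
  exact ⟨V i, hV i, hi, hz i⟩

theorem subsingleton_sections_bot (G : CohTop.Ab X) : Subsingleton (G.obj.obj (op (⊥ : Opens X))) := by
  have h1 : IsTerminal (G.obj.obj (op (⊥ : Opens X))) :=
    TopCat.Sheaf.isTerminalOfEmpty (C := AddCommGrpCat.{u}) (X := X) G
  have h2 : IsZero (G.obj.obj (op (⊥ : Opens X))) :=
    (isZero_zero _).of_iso (h1.uniqueUpToIso (isZero_zero AddCommGrpCat.{u}).isTerminal)
  exact AddCommGrpCat.subsingleton_of_isZero h2

/-- cohomology over the empty open vanishes -/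
theorem subsingleton_HU_bot (F : CohTop.Ab X) (n : ℕ) : Subsingleton (CohTop.HU F n (⊥ : Opens X)) := by
  have hsub : ∀ G : CohTop.Ab X, Subsingleton (freeSheaf (⊥ : Opens X) ⟶ G) := fun G =>
    have := subsingleton_sections_bot G
    (freeSheafHomEquiv ⊥ G).subsingleton
  have hid : 𝟙 (freeSheaf (⊥ : Opens X)) = 0 := (hsub _).elim _ _
  refine ⟨fun a b => ?_⟩
  have key : ∀ x : Ext (freeSheaf (⊥ : Opens X)) F n, x = 0 := fun x => by
    rw [← Ext.mk₀_id_comp x, hid, Ext.mk₀_zero, Ext.zero_comp]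
  exact (key a).trans (key b).symm

instance uniqueHomTop (V : Opens X) : Unique (V ⟶ (⊤ : Opens X)) :=
  ⟨⟨homOfLE le_top⟩, fun _ => Subsingleton.elim _ _⟩

/-- the free presheaf on the terminal open is the constant presheaf `ℤ` -/
noncomputable def freeTopIso :
    yoneda.obj (⊤ : Opens X) ⋙ AddCommGrpCat.free ≅
      (Functor.const (Opens X)ᵒᵖ).obj (AddCommGrpCat.of (ULift.{u} ℤ)) :=
  NatIso.ofComponents
    (fun V => ((FreeAbelianGroup.uniqueEquiv (V.unop ⟶ (⊤ : Opens X))).trans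
      AddEquiv.ulift.symm).toAddCommGrpIso)
    (by
      intro V W i
      ext x
      change ULift.up ((FreeAbelianGroup.lift fun _ => (1 : ℤ))
        (FreeAbelianGroup.map (fun g : V.unop ⟶ (⊤ : Opens X) => i.unop ≫ g) x)) =
        ULift.up ((FreeAbelianGroup.lift fun _ => (1 : ℤ)) x)
      rw [← FreeAbelianGroup.lift_comp]
      rfl)

/-- the constant sheaf `ℤ` is the free sheaf on the terminal open -/
noncomputable def freeSheafTopIso :
    freeSheaf (⊤ : Opens X) ≅
      (constantSheaf (Opens.grothendieckTopology X) AddCommGrpCat.{u}).obj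
        (AddCommGrpCat.of (ULift.{u} ℤ)) :=
  (presheafToSheaf (Opens.grothendieckTopology X) AddCommGrpCat.{u}).mapIso freeTopIso

/-- global cohomology vanishes when cohomology over the terminal open does -/
theorem subsingleton_H_of_subsingleton_HU_top (F : CohTop.Ab X) (n : ℕ)
    [Subsingleton (CohTop.HU F n (⊤ : Opens X))] : Subsingleton (CohTop.H F n) := by
  refine ⟨fun a b => ?_⟩
  have key : ∀ x : CohTop.H F n, x = 0 := fun x => by
    have h1 : (Ext.mk₀ (freeSheafTopIso (X := X)).hom).comp x (zero_add n) = 0 :=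
      Subsingleton.elim (α := CohTop.HU F n (⊤ : Opens X)) _ _
    have h2 := congrArg (fun y => (Ext.mk₀ (freeSheafTopIso (X := X)).inv).comp y (zero_add n)) h1
    simp only [Ext.comp_zero] at h2
    rwa [← Ext.comp_assoc_of_second_deg_zero, Ext.mk₀_comp_mk₀, Iso.inv_hom_id,
      Ext.mk₀_id_comp] at h2
  exact (key a).trans (key b).symm

end Groth.Agent.Lib.Helper26.MVTop
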