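import Groth.Prelude.Def_Coh
import Groth.Agent.Lib.Helper26.MVTop
import Groth.Agent.Lib.Lead.QCohAff

/-!
# Vanishing of higher cohomology of quasi-coherent modules over affine opens
-/

set_option autoImplicit false
universe u

open CategoryTheory TopologicalSpace Opposite CategoryTheory.Limits AlgebraicGeometry

namespace Groth.Agent.Lib.Helper26.AffineVanishing

open Groth.Agent.Lib.Lead Groth.Agent.Lib.Helper26.MVTop

set_option backward.isDefEq.respectTransparency.types false

variable {X : Scheme.{u}}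

/-- partition of unity for sections of a quasi-coherent module over an affine open -/
theorem exists_sub_sections (M : X.Modules) [M.IsQuasicoherent] {W : X.Opens} (hW : IsAffineOpen W)
    (f g : Γ(X, W)) (hfg : Ideal.span ({f, g} : Set Γ(X, W)) = ⊤)
    (s : Γ(M, X.basicOpen f ⊓ X.basicOpen g)) :
    ∃ (a : Γ(M, X.basicOpen f)) (b : Γ(M, X.basicOpen g)),
      M.presheaf.map (homOfLE (inf_le_left : X.basicOpen f ⊓ X.basicOpen g ≤ X.basicOpen f)).op a -
        M.presheaf.map (homOfLE (inf_le_right : X.basicOpen f ⊓ X.basicOpen g ≤ X.basicOpen g)).op b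
          = s := by
  have hP : X.basicOpen (f * g) = X.basicOpen f ⊓ X.basicOpen g := X.basicOpen_mul f g
  have hPf : X.basicOpen f ⊓ X.basicOpen g ≤ X.basicOpen f := inf_le_left
  have hPg : X.basicOpen f ⊓ X.basicOpen g ≤ X.basicOpen g := inf_le_right
  have hfW : X.basicOpen f ≤ W := X.basicOpen_le f
  have hgW : X.basicOpen g ≤ W := X.basicOpen_le g
  have hPW : X.basicOpen f ⊓ X.basicOpen g ≤ W := hPf.trans hfW
  obtain ⟨n, m, hm⟩ := QCohAff.exists_res_eq_pow_smul M hW (f * g)
    (M.presheaf.map (homOfLE hP.le).op s)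
  have hmP : M.presheaf.map (homOfLE hPW).op m =
      (X.presheaf.map (homOfLE hPW).op (f * g)) ^ n • s := by
    have h1 := congrArg (M.presheaf.map (homOfLE hP.ge).op) hm
    rw [QCohAff.res_res, QCohAff.res_smul, map_pow, QCohAff.res_resX, QCohAff.res_res,
      QCohAff.res_self] at h1
    exact h1
  have hspan : Ideal.span ({f ^ n, g ^ n} : Set Γ(X, W)) = ⊤ := by
    have := Ideal.span_pow_eq_top ({f, g} : Set Γ(X, W)) hfg n
    rwa [Set.image_pair] at this
  obtain ⟨a', b', hab⟩ : ∃ a' b' : Γ(X, W), a' * f ^ n + b' * g ^ n = 1 :=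
    Ideal.mem_span_pair.mp (by rw [hspan]; trivial)
  have hUf : IsUnit (X.presheaf.map (homOfLE hfW).op f) := X.toRingedSpace.isUnit_res_basicOpen f
  have hUg : IsUnit (X.presheaf.map (homOfLE hgW).op g) := X.toRingedSpace.isUnit_res_basicOpen g
  obtain ⟨vf, huf'⟩ := isUnit_iff_exists_inv'.mp hUf
  obtain ⟨vg, hug'⟩ := isUnit_iff_exists_inv'.mp hUg
  have eF : X.presheaf.map (homOfLE hPf).op vf *
      X.presheaf.map (homOfLE hPW).op f = 1 := by
    have := congrArg (X.presheaf.map (homOfLE hPf).op) huf'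
    rwa [map_mul, map_one, QCohAff.res_resX] at this
  have eG : X.presheaf.map (homOfLE hPg).op vg *
      X.presheaf.map (homOfLE hPW).op g = 1 := by
    have := congrArg (X.presheaf.map (homOfLE hPg).op) hug'
    rwa [map_mul, map_one, QCohAff.res_resX] at this
  have eAB : X.presheaf.map (homOfLE hPW).op a' * (X.presheaf.map (homOfLE hPW).op f) ^ n +
      X.presheaf.map (homOfLE hPW).op b' * (X.presheaf.map (homOfLE hPW).op g) ^ n = 1 := by
    have := congrArg (X.presheaf.map (homOfLE hPW).op) hab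
    rwa [map_add, map_mul, map_mul, map_pow, map_pow, map_one] at this
  refine ⟨(X.presheaf.map (homOfLE hfW).op b' * vf ^ n) •
      M.presheaf.map (homOfLE hfW).op m,
    (-(X.presheaf.map (homOfLE hgW).op a') * vg ^ n) •
      M.presheaf.map (homOfLE hgW).op m, ?_⟩
  rw [QCohAff.res_smul, QCohAff.res_smul, QCohAff.res_res, QCohAff.res_res, hmP, smul_smul,
    smul_smul, ← sub_smul]
  simp only [map_mul, map_pow, map_neg, QCohAff.res_resX]
  have e1 : (X.presheaf.map (homOfLE hPf).op vf) ^ n *
      (X.presheaf.map (homOfLE hPW).op f) ^ n = 1 := by rw [← mul_pow, eF, one_pow]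
  have e2 : (X.presheaf.map (homOfLE hPg).op vg) ^ n *
      (X.presheaf.map (homOfLE hPW).op g) ^ n = 1 := by rw [← mul_pow, eG, one_pow]
  have key : X.presheaf.map (homOfLE hPW).op b' * (X.presheaf.map (homOfLE hPf).op vf) ^ n *
      (X.presheaf.map (homOfLE hPW).op f * X.presheaf.map (homOfLE hPW).op g) ^ n -
      -(X.presheaf.map (homOfLE hPW).op a') * (X.presheaf.map (homOfLE hPg).op vg) ^ n *
      (X.presheaf.map (homOfLE hPW).op f * X.presheaf.map (homOfLE hPW).op g) ^ n = 1 := by
    linear_combination (X.presheaf.map (homOfLE hPW).op b' * (X.presheaf.map (homOfLE hPW).op g) ^ n) * e1 +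
    (X.presheaf.map (homOfLE hPW).op a' * (X.presheaf.map (homOfLE hPW).op f) ^ n) * e2 + eAB
  rw [key, one_smul]

/-- two-member gluing of vanishing on an affine open -/
theorem eq_zero_of_span_pair (M : X.Modules) [M.IsQuasicoherent] (n : ℕ)
    (hn : n = 0 ∨ ∀ V : X.Opens, IsAffineOpen V → Subsingleton (CohTop.HU (Coh.toAb M) n V))
    {W : X.Opens} (hW : IsAffineOpen W) (f g : Γ(X, W))
    (hfg : Ideal.span ({f, g} : Set Γ(X, W)) = ⊤)
    (γ : CohTop.HU (Coh.toAb M) (n + 1) W)
    (hf : CohTop.res (Coh.toAb M) (n + 1) (X.basicOpen_le f) γ = 0)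
    (hg : CohTop.res (Coh.toAb M) (n + 1) (X.basicOpen_le g) γ = 0) : γ = 0 := by
  have hsup : W = X.basicOpen f ⊔ X.basicOpen g := by
    have := iSup_basicOpen_of_span_eq_top W ({f, g} : Set Γ(X, W)) hfg
    rw [iSup_pair] at this
    exact this.symm
  refine eq_zero_of_eq_sup (Coh.toAb M) W (X.basicOpen f) (X.basicOpen g) hsup n ?_ γ hf hg
  rcases hn with rfl | hn
  · exact exists_sub_of_sections (Coh.toAb M) _ _ (fun s => exists_sub_sections M hW f g hfg s)
  · intro β
    have : Subsingleton (CohTop.HU (Coh.toAb M) n (X.basicOpen f ⊓ X.basicOpen g)) := by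
      rw [← X.basicOpen_mul]
      exact hn _ (hW.basicOpen (f * g))
    exact exists_sub_of_subsingleton (Coh.toAb M) _ _ n β

/-- the ideal-of-vanishing argument -/
theorem subsingleton_of_gluing (M : X.Modules) (n : ℕ)
    (K : ∀ {W : X.Opens} (_ : IsAffineOpen W) (f g : Γ(X, W))
      (_ : Ideal.span ({f, g} : Set Γ(X, W)) = ⊤)
      (γ : CohTop.HU (Coh.toAb M) (n + 1) W),
      CohTop.res (Coh.toAb M) (n + 1) (X.basicOpen_le f) γ = 0 →
      CohTop.res (Coh.toAb M) (n + 1) (X.basicOpen_le g) γ = 0 → γ = 0)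
    {U : X.Opens} (hU : IsAffineOpen U) : Subsingleton (CohTop.HU (Coh.toAb M) (n + 1) U) := by
  suffices h : ∀ α : CohTop.HU (Coh.toAb M) (n + 1) U, α = 0 from
    ⟨fun a b => (h a).trans (h b).symm⟩
  intro α
  let I : Ideal Γ(X, U) :=
    { carrier := {f | CohTop.res (Coh.toAb M) (n + 1) (X.basicOpen_le f) α = 0}
      zero_mem' := by
        have : Subsingleton (CohTop.HU (Coh.toAb M) (n + 1) (X.basicOpen (0 : Γ(X, U)))) := by
          rw [X.basicOpen_zero]
          exact subsingleton_HU_bot (Coh.toAb M) _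
        exact Subsingleton.elim _ _
      add_mem' := by
        intro f g hf hg
        have hf' : CohTop.res (Coh.toAb M) (n + 1) (X.basicOpen_le f) α = 0 := hf
        have hg' : CohTop.res (Coh.toAb M) (n + 1) (X.basicOpen_le g) α = 0 := hg
        change CohTop.res (Coh.toAb M) (n + 1) (X.basicOpen_le (f + g)) α = 0
        have hWU : X.basicOpen (f + g) ≤ U := X.basicOpen_le (f + g)
        have hWaff : IsAffineOpen (X.basicOpen (f + g)) := hU.basicOpen (f + g)
        have hunit : IsUnit (X.presheaf.map (homOfLE hWU).op (f + g)) :=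
          X.toRingedSpace.isUnit_res_basicOpen (f + g)
        have hspan : Ideal.span ({X.presheaf.map (homOfLE hWU).op f,
            X.presheaf.map (homOfLE hWU).op g} : Set Γ(X, X.basicOpen (f + g))) = ⊤ := by
          apply Ideal.eq_top_of_isUnit_mem _ _ hunit
          rw [map_add]
          exact add_mem (Ideal.subset_span (by simp)) (Ideal.subset_span (by simp))
        have e1 : X.basicOpen (X.presheaf.map (homOfLE hWU).op f) ≤ X.basicOpen f := by
          rw [X.basicOpen_res]; exact inf_le_right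
        have e2 : X.basicOpen (X.presheaf.map (homOfLE hWU).op g) ≤ X.basicOpen g := by
          rw [X.basicOpen_res]; exact inf_le_right
        refine K hWaff _ _ hspan _ ?_ ?_
        · rw [res_res, ← res_res (Coh.toAb M) (n + 1) (X.basicOpen_le f) e1, hf', map_zero]
        · rw [res_res, ← res_res (Coh.toAb M) (n + 1) (X.basicOpen_le g) e2, hg', map_zero]
      smul_mem' := by
        intro c f hf
        have hf' : CohTop.res (Coh.toAb M) (n + 1) (X.basicOpen_le f) α = 0 := hf
        change CohTop.res (Coh.toAb M) (n + 1) (X.basicOpen_le (c * f)) α = 0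
        have e1 : X.basicOpen (c * f) ≤ X.basicOpen f := by
          rw [X.basicOpen_mul]; exact inf_le_right
        rw [← res_res (Coh.toAb M) (n + 1) (X.basicOpen_le f) e1, hf', map_zero] }
  have hI : I = ⊤ := by
    have h1 : U ≤ ⨆ f : (I : Set Γ(X, U)), X.basicOpen f.1 := by
      intro x hx
      obtain ⟨V, hV, hxV, hz⟩ := exists_nhd_res_eq_zero (Coh.toAb M) n U α x hx
      obtain ⟨f, hfV, hxf⟩ := hU.exists_basicOpen_le (V := V) ⟨x, hxV⟩ hx
      have hfI : f ∈ I := by
        change CohTop.res (Coh.toAb M) (n + 1) (X.basicOpen_le f) α = 0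
        rw [← res_res (Coh.toAb M) (n + 1) hV hfV, hz, map_zero]
      exact Opens.mem_iSup.2 ⟨⟨f, hfI⟩, hxf⟩
    have h2 := hU.self_le_iSup_basicOpen_iff.mp h1
    rwa [Ideal.span_eq] at h2
  have h1 : (1 : Γ(X, U)) ∈ I := hI ▸ Submodule.mem_top
  have h1' : CohTop.res (Coh.toAb M) (n + 1) (X.basicOpen_le (1 : Γ(X, U))) α = 0 := h1
  have hle : U ≤ X.basicOpen (1 : Γ(X, U)) := (X.basicOpen_one (U := U)).ge
  have := congrArg (CohTop.res (Coh.toAb M) (n + 1) hle) h1'
  rwa [res_res, res_self, map_zero] at this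

/-- **Serre vanishing over affine opens**: higher cohomology of a quasi-coherent module over an
affine open vanishes. -/
theorem subsingleton_HU_succ (M : X.Modules) [M.IsQuasicoherent] :
    ∀ (n : ℕ) {U : X.Opens}, IsAffineOpen U → Subsingleton (CohTop.HU (Coh.toAb M) (n + 1) U)
  | 0 => fun hU => subsingleton_of_gluing M 0
      (fun hW f g hfg γ h1 h2 => eq_zero_of_span_pair M 0 (Or.inl rfl) hW f g hfg γ h1 h2) hU
  | n + 1 => fun hU => subsingleton_of_gluing M (n + 1)
      (fun hW f g hfg γ h1 h2 => eq_zero_of_span_pair M (n + 1)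
        (Or.inr fun _ hV => subsingleton_HU_succ M n hV) hW f g hfg γ h1 h2) hU

/-- **Serre vanishing**: higher cohomology of a quasi-coherent module on an affine scheme
vanishes. -/
theorem subsingleton_HH_succ [IsAffine X] (M : X.Modules) [M.IsQuasicoherent] (n : ℕ) :
    Subsingleton (Coh.HH X M (n + 1)) := by
  have := subsingleton_HU_succ M n (isAffineOpen_top X)
  exact subsingleton_H_of_subsingleton_HU_top (Coh.toAb M) (n + 1)

end Groth.Agent.Lib.Helper26.AffineVanishing
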