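import Groth.Agent.Lib.Helper26.ModMV
import Groth.Agent.Lib.Helper26.MVClosure
import Groth.Agent.Lib.Helper26.DegComposite
import Groth.Agent.Lib.Helper26.DerivedExactComp
import Groth.Agent.Lib.Helper26.ExtZeroSch
import Groth.Agent.Lib.Helper21.QCohKernel
import Groth.Agent.Lib.Helper53.ModGroth
import Groth.Agent.S2249
import Groth.Agent.S2384
import Groth.Agent.S0028
import Groth.Agent.S11319
import Groth.Agent.Lib.Lead.QCohLocal

/-!
# Higher direct images of quasi-coherent modules are quasi-coherent (helper26)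

For `f : X ⟶ S` quasi-compact and quasi-separated and `M` quasi-coherent, `R^p f_* M` (derived
functor on modules) is quasi-coherent: `isQuasicoherent_rightDerived_pushforward`.
Proof: Mayer–Vietoris induction over a finite affine cover (base affine), then localisation on the
base (`bcIso`: `(f_* -)|_{S'} ≅ (f|_{S'})_* (-|_{f⁻¹S'})`).
-/

set_option autoImplicit false
universe u

open CategoryTheory AlgebraicGeometry TopologicalSpace Opposite CategoryTheory.Limits
open AlgebraicGeometry.Scheme.Modules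

namespace Groth.Agent.Lib.Helper26.QCohRpush
open Groth.Agent.Lib.Helper26.ModMV Groth.Agent.Lib.Helper26.FunctorMV
  Groth.Agent.Lib.Helper26.MVClosure Groth.Agent.Lib.Helper26

/-- quasi-coherent modules form a weak Serre class -/
theorem qClosed_isQCoh (S : Scheme.{u}) : QClosed (fun N : S.Modules => N.IsQuasicoherent) where
  iso e h := by
    have := h
    exact Groth.Agent.Lib.Lead.PullbackAff.isQuasicoherent_of_iso e
  ker f hA hB := by
    have := hA
    have := hB
    exact Groth.Agent.Lib.Helper21.QCohKernel.isQuasicoherent_kernel f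
  coker f hA hB := by
    have := hA
    have := hB
    exact Groth.Agent.Lib.Helper21.QCohKernel.isQuasicoherent_cokernel f
  ext T hT h1 h3 := by
    have := h1
    have := h3
    exact Groth.Agent.S2384.isQuasicoherent_of_shortExact T hT

lemma enoughInjectives_modules (X : Scheme.{u}) : EnoughInjectives X.Modules :=
  Groth.Agent.S11319.enoughInjectives_modules X

lemma hasInjectiveResolutions_modules (X : Scheme.{u}) : HasInjectiveResolutions X.Modules := by
  have := enoughInjectives_modules X
  infer_instance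

section precomp
variable {X : Scheme.{u}} {C : Type*} [Category C] [Abelian C]

/-- derived functors of `res_U ⋙ F` are derived functors of `F` at the restriction -/
theorem nonempty_rightDerived_restrict_comp_iso [HasInjectiveResolutions X.Modules]
    (U : X.Opens) [HasInjectiveResolutions (U : Scheme.{u}).Modules]
    (F : (U : Scheme.{u}).Modules ⥤ C) [F.Additive] [PreservesFiniteLimits F]
    [(restrictFunctor U.ι ⋙ F).Additive] (M : X.Modules) (p : ℕ) :
    Nonempty (((restrictFunctor U.ι ⋙ F).rightDerived p).obj M ≅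
      (F.rightDerived p).obj ((restrictFunctor U.ι).obj M)) := by
  have := enoughInjectives_modules X
  have hra := restrictFunctor_additive U.ι
  apply DegComposite.nonempty_iso (restrictFunctor U.ι) F
  · intro I hI q
    have : Injective ((restrictFunctor U.ι).obj I) := ExtZeroSch.injective_restrict U I
    exact Functor.isZero_rightDerived_obj_injective_succ F q _
  · intro q
    exact DerivedExactComp.isZero_rightDerived_succ_of_exact (restrictFunctor U.ι) M q

end precomp

section base
variable {X S : Scheme.{u}}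

/-- a module whose underlying abelian sheaf is zero is zero -/
lemma isZero_of_isZero_toAb (N : S.Modules) (h : IsZero (Coh.toAb N)) : IsZero N := by
  have hf : (toAbF S).Faithful := faithful_toAbF S
  rw [IsZero.iff_id_eq_zero]
  apply (toAbF S).map_injective
  exact h.eq_of_src _ _

/-- higher direct images of quasi-coherent modules along affine morphisms vanish (module level) -/
theorem isZero_Rpush_succ_of_isAffineHom (g : X ⟶ S) [IsAffineHom g]
    [HasInjectiveResolutions X.Modules] (N : X.Modules) [N.IsQuasicoherent] (p : ℕ) :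
    IsZero (((pushforward g).rightDerived (p + 1)).obj N) := by
  apply isZero_of_isZero_toAb
  obtain ⟨e⟩ := Groth.Agent.S11319.result g N (p + 1)
  exact (Groth.Agent.S0028.result g N (p + 1) (Nat.succ_pos p)).of_iso e

lemma QClosed.of_isZero {D : Type*} [Category D] [Abelian D] {Q : D → Prop} (hQ : QClosed Q)
    {A N : D} (hA : Q A) (hN : IsZero N) : Q N := by
  have hk : IsZero (kernel (𝟙 A)) := by
    rw [IsZero.iff_id_eq_zero, ← cancel_mono (kernel.ι (𝟙 A))]
    have := kernel.condition (𝟙 A)
    rw [Category.comp_id] at this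
    rw [this]; simp
  exact hQ.iso (hk.iso hN) (hQ.ker (𝟙 A) hA hA)

end base

section P
variable {X S : Scheme.{u}} (f : X ⟶ S) [HasInjectiveResolutions X.Modules]

/-- the property to be proven, for an open `W` of `X` -/
def P (W : X.Opens) : Prop :=
  ∀ (M : X.Modules), M.IsQuasicoherent → ∀ p : ℕ,
    (((G f W).rightDerived p).obj M).IsQuasicoherent

theorem P_of_isAffineHom (U : X.Opens) [IsAffineHom (U.ι ≫ f)] : P f U := by
  intro M hM p
  have := hasInjectiveResolutions_modules (U : Scheme.{u})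
  have hra := restrictFunctor_additive U.ι
  let e₀ : G f U ≅ restrictFunctor U.ι ⋙ pushforward (U.ι ≫ f) :=
    Functor.isoWhiskerLeft (restrictFunctor U.ι) (pushforwardComp U.ι f)
  have hadd : (restrictFunctor U.ι ⋙ pushforward (U.ι ≫ f)).Additive := inferInstance
  let e₁ := (DegComposite.rightDerivedMapIso e₀ p).app M
  obtain ⟨e₂⟩ := nonempty_rightDerived_restrict_comp_iso U (pushforward (U.ι ≫ f)) M p
  have hN : ((restrictFunctor U.ι).obj M).IsQuasicoherent := inferInstance
  have h0 : ((pushforward (U.ι ≫ f)).obj ((restrictFunctor U.ι).obj M)).IsQuasicoherent :=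
    Groth.Agent.S2249.result (U.ι ≫ f) ((restrictFunctor U.ι).obj M)
  apply (qClosed_isQCoh S).iso (e₁ ≪≫ e₂).symm
  cases p with
  | zero =>
    exact (qClosed_isQCoh S).iso
      ((pushforward (U.ι ≫ f)).rightDerivedZeroIsoSelf.app ((restrictFunctor U.ι).obj M)).symm h0
  | succ p =>
    exact QClosed.of_isZero (qClosed_isQCoh S) h0
      (isZero_Rpush_succ_of_isAffineHom (U.ι ≫ f) ((restrictFunctor U.ι).obj M) p)

theorem P_mv (U V : X.Opens) (hU : P f U) (hV : P f V) (hUV : P f (U ⊓ V)) : P f (U ⊔ V) := by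
  intro M hM p
  exact Q_rightDerived_of_mv (qClosed_isQCoh S) (mvExactG f U V) M (hU M hM) (hV M hM)
    (hUV M hM) p

/-- MV induction over a finite union of members of a class stable under intersections -/
theorem P_biSup (Pc : X.Opens → Prop) (hinf : ∀ U V, Pc U → Pc V → Pc (U ⊓ V))
    (hP : ∀ U, Pc U → P f U) (hbot : P f ⊥) {ι : Type*} [DecidableEq ι] (s : Finset ι) :
    ∀ (V : ι → X.Opens), (∀ i ∈ s, Pc (V i)) → P f (⨆ i ∈ s, V i) := by
  induction s using Finset.induction_on with
  | empty =>
    intro V _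
    simp only [Finset.notMem_empty, iSup_false, iSup_bot]
    exact hbot
  | insert a s ha ih =>
    intro V hV
    rw [Finset.iSup_insert]
    have hPa : Pc (V a) := hV a (Finset.mem_insert_self a s)
    have hPs : ∀ i ∈ s, Pc (V i) := fun i hi => hV i (Finset.mem_insert_of_mem hi)
    apply P_mv f _ _ (hP _ hPa) (ih V hPs)
    rw [inf_iSup₂_eq]
    exact ih (fun i => V a ⊓ V i) (fun i hi => hinf _ _ hPa (hPs i hi))

variable [IsAffine S]

theorem P_of_isAffineOpen (U : X.Opens) (hU : IsAffineOpen U) : P f U := by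
  have : IsAffine (U : Scheme.{u}) := hU
  have : IsAffineHom (U.ι ≫ f) := inferInstance
  exact P_of_isAffineHom f U

/-- quasi-compact opens of an affine open -/
theorem P_qa {A : X.Opens} (hA : IsAffineOpen A) (V : X.Opens) (hVA : V ≤ A)
    (hV : IsCompact (V : Set X)) : P f V := by
  classical
  choose g hg1 hg2 using fun x : V => hA.exists_basicOpen_le (V := V) x (hVA x.2)
  obtain ⟨t, ht⟩ := hV.elim_finite_subcover (fun x : V => (X.basicOpen (g x) : Set X))
    (fun x => (X.basicOpen (g x)).isOpen)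
    (fun x hx => Set.mem_iUnion.2 ⟨⟨x, hx⟩, hg2 ⟨x, hx⟩⟩)
  have hVeq : V = ⨆ y ∈ t, X.basicOpen (g y) := by
    apply le_antisymm
    · intro x hx
      obtain ⟨y, hy⟩ := Set.mem_iUnion.1 (ht hx)
      obtain ⟨hyt, hxy⟩ := Set.mem_iUnion.1 hy
      exact Opens.mem_iSup.2 ⟨y, Opens.mem_iSup.2 ⟨hyt, hxy⟩⟩
    · exact iSup₂_le fun y _ => hg1 y
  rw [hVeq]
  exact P_biSup f (fun W : X.Opens => ∃ h : Γ(X, A), W = X.basicOpen h)
    (by
      rintro _ _ ⟨h, rfl⟩ ⟨h', rfl⟩
      exact ⟨h * h', (X.basicOpen_mul h h').symm⟩)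
    (by
      rintro _ ⟨h, rfl⟩
      exact P_of_isAffineOpen f _ (hA.basicOpen h))
    (P_of_isAffineOpen f ⊥ (isAffineOpen_bot X))
    t (fun y => X.basicOpen (g y)) (fun y _ => ⟨g y, rfl⟩)

theorem P_main {Z : X.Opens} (hZ : IsQuasiSeparated (Z : Set X))
    {ι : Type*} [DecidableEq ι] (s : Finset ι) :
    ∀ (U : ι → X.Opens), (∀ i ∈ s, IsAffineOpen (U i) ∧ U i ≤ Z) → P f (⨆ i ∈ s, U i) := by
  induction s using Finset.induction_on with
  | empty =>
    intro U _
    simp only [Finset.notMem_empty, iSup_false, iSup_bot]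
    exact P_of_isAffineOpen f ⊥ (isAffineOpen_bot X)
  | insert a s ha ih =>
    intro U hU
    have hUa : IsAffineOpen (U a) := (hU a (Finset.mem_insert_self a s)).1
    have hUaZ : U a ≤ Z := (hU a (Finset.mem_insert_self a s)).2
    have hUs : ∀ i ∈ s, IsAffineOpen (U i) ∧ U i ≤ Z :=
      fun i hi => hU i (Finset.mem_insert_of_mem hi)
    have hcomp : IsCompact ((U a ⊓ ⨆ i ∈ s, U i : X.Opens) : Set X) := by
      rw [inf_iSup₂_eq]
      simp only [Opens.coe_iSup]
      exact s.isCompact_biUnion fun i hi =>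
        hZ _ _ hUaZ (U a).isOpen hUa.isCompact (hUs i hi).2 (U i).isOpen (hUs i hi).1.isCompact
    rw [Finset.iSup_insert]
    exact P_mv f _ _ (P_of_isAffineOpen f _ hUa) (ih U hUs)
      (P_qa f hUa (U a ⊓ ⨆ i ∈ s, U i) inf_le_left hcomp)

theorem P_top [CompactSpace X] [QuasiSeparatedSpace X] : P f ⊤ := by
  classical
  obtain ⟨s, hs, hcov⟩ := (isCompact_iff_finite_and_eq_biUnion_affineOpens (X := X) (U := ⊤)).mp
    (by simpa using isCompact_univ)
  have h1 := P_main f (Z := ⊤) (by simpa using isQuasiSeparated_univ (α := X)) hs.toFinset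
    (fun i : X.affineOpens => (i : X.Opens)) (fun i _ => ⟨i.2, le_top⟩)
  have h2 : (⨆ i ∈ hs.toFinset, (i : X.Opens)) = ⊤ := by
    rw [hcov]
    simp only [Set.Finite.mem_toFinset]
  rw [h2] at h1
  exact h1

end P

section top
variable {X S : Scheme.{u}} (f : X ⟶ S)

/-- the unit `M ⟶ (j_⊤)_* (M|_⊤)` is an isomorphism -/
lemma isIso_unit_top (M : X.Modules) :
    IsIso ((restrictAdjunction (⊤ : X.Opens).ι).unit.app M) := by
  rw [Hom.isIso_iff_isIso_app]
  intro T
  rw [restrictAdjunction_unit_app_app]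
  have hle : T ≤ (⊤ : X.Opens).ι ''ᵁ ((⊤ : X.Opens).ι ⁻¹ᵁ T) := by
    intro x hx
    exact ⟨⟨x, trivial⟩, hx, rfl⟩
  have h1 : IsIso (homOfLE ((⊤ : X.Opens).ι.image_preimage_le T)) :=
    ⟨homOfLE hle, Subsingleton.elim _ _, Subsingleton.elim _ _⟩
  have h2 : IsIso (homOfLE ((⊤ : X.Opens).ι.image_preimage_le T)).op := inferInstance
  exact Functor.map_isIso M.presheaf _

/-- `G f ⊤` is `f_*` -/
noncomputable def GTopIso : pushforward f ≅ G f ⊤ := by
  have : IsIso (restrictAdjunction (⊤ : X.Opens).ι).unit := by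
    have := fun M => isIso_unit_top (X := X) M
    exact NatIso.isIso_of_isIso_app _
  exact Functor.isoWhiskerRight (asIso (restrictAdjunction (⊤ : X.Opens).ι).unit) (pushforward f)

end top


section bc
variable {X S : Scheme.{u}}

lemma isIso_unit_app_of_le (W : X.Opens) (M : X.Modules) (T : X.Opens) (hT : T ≤ W) :
    IsIso (((restrictAdjunction W.ι).unit.app M).app T) := by
  rw [restrictAdjunction_unit_app_app]
  have hle : T ≤ W.ι ''ᵁ (W.ι ⁻¹ᵁ T) := by
    intro x hx
    exact ⟨⟨x, hT hx⟩, hx, rfl⟩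
  have h1 : IsIso (homOfLE (W.ι.image_preimage_le T)) :=
    ⟨homOfLE hle, Subsingleton.elim _ _, Subsingleton.elim _ _⟩
  have h2 : IsIso (homOfLE (W.ι.image_preimage_le T)).op := inferInstance
  exact Functor.map_isIso M.presheaf _

lemma restrictFunctor_map_app {Y Z : Scheme.{u}} (j : Y ⟶ Z) [IsOpenImmersion j] {M N : Z.Modules}
    (φ : M ⟶ N) (T : Y.Opens) : ((restrictFunctor j).map φ).app T = φ.app (j ''ᵁ T) := rfl

variable (f : X ⟶ S) (S' : S.Opens)

/-- first step of the base change isomorphism -/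
noncomputable def bcIso₁ :
    pushforward f ⋙ restrictFunctor S'.ι ≅ G f (f ⁻¹ᵁ S') ⋙ restrictFunctor S'.ι := by
  let τ : pushforward f ⋙ restrictFunctor S'.ι ⟶ G f (f ⁻¹ᵁ S') ⋙ restrictFunctor S'.ι :=
    Functor.whiskerRight (Functor.whiskerRight (restrictAdjunction (f ⁻¹ᵁ S').ι).unit
      (pushforward f)) (restrictFunctor S'.ι)
  have : IsIso τ := by
    have : ∀ M, IsIso (τ.app M) := by
      intro M
      rw [Hom.isIso_iff_isIso_app]
      intro T
      have hT : f ⁻¹ᵁ (S'.ι ''ᵁ T) ≤ f ⁻¹ᵁ S' := by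
        intro x hx
        obtain ⟨y, -, hy⟩ := hx
        change f.base x ∈ S'
        rw [← hy]
        exact y.2
      exact isIso_unit_app_of_le (f ⁻¹ᵁ S') M (f ⁻¹ᵁ (S'.ι ''ᵁ T)) hT
    exact NatIso.isIso_of_isIso_app _
  exact asIso τ

/-- second step of the base change isomorphism -/
noncomputable def bcIso₂ :
    G f (f ⁻¹ᵁ S') ⋙ restrictFunctor S'.ι ≅
      restrictFunctor (f ⁻¹ᵁ S').ι ⋙ pushforward (f ∣_ S') := by
  let e : (pushforward (f ⁻¹ᵁ S').ι ⋙ pushforward f) ⋙ restrictFunctor S'.ι ≅
      pushforward (f ∣_ S') :=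
    Functor.isoWhiskerRight (pushforwardComp (f ⁻¹ᵁ S').ι f ≪≫
        pushforwardCongr (morphismRestrict_ι f S').symm ≪≫
        (pushforwardComp (f ∣_ S') S'.ι).symm) (restrictFunctor S'.ι) ≪≫
      Functor.associator _ _ _ ≪≫
      Functor.isoWhiskerLeft (pushforward (f ∣_ S')) (restrictFunctorAdjCounitIso S'.ι) ≪≫
      Functor.rightUnitor _
  exact Functor.isoWhiskerLeft (restrictFunctor (f ⁻¹ᵁ S').ι) e

/-- restriction to an open of the base commutes with direct image -/
noncomputable def bcIso :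
    pushforward f ⋙ restrictFunctor S'.ι ≅
      restrictFunctor (f ⁻¹ᵁ S').ι ⋙ pushforward (f ∣_ S') :=
  bcIso₁ f S' ≪≫ bcIso₂ f S'


end bc

section main
variable {X S : Scheme.{u}}

/-- affine base -/
theorem isQuasicoherent_rightDerived_pushforward_of_isAffine (f : X ⟶ S) [QuasiCompact f]
    [QuasiSeparated f] [IsAffine S] [HasInjectiveResolutions X.Modules] (M : X.Modules)
    (hM : M.IsQuasicoherent) (p : ℕ) :
    (((pushforward f).rightDerived p).obj M).IsQuasicoherent := by
  have : CompactSpace X := QuasiCompact.compactSpace_of_compactSpace f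
  have : QuasiSeparatedSpace X := quasiSeparatedSpace_of_quasiSeparated f
  have h := P_top f M hM p
  exact (qClosed_isQCoh S).iso ((DegComposite.rightDerivedMapIso (GTopIso f) p).app M).symm h

/-- **Higher direct images of quasi-coherent modules along qcqs morphisms are quasi-coherent.** -/
theorem isQuasicoherent_rightDerived_pushforward (f : X ⟶ S) [QuasiCompact f]
    [QuasiSeparated f] [HasInjectiveResolutions X.Modules] (M : X.Modules)
    (hM : M.IsQuasicoherent) (p : ℕ) :
    (((pushforward f).rightDerived p).obj M).IsQuasicoherent := by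
  apply Groth.Agent.Lib.Lead.QCohLocal.isQuasicoherent_of_forall_affine
  intro x
  obtain ⟨_, ⟨S'', hS'', rfl⟩, hxS'', -⟩ :=
    S.isBasis_affineOpens.exists_subset_of_mem_open (Set.mem_univ x) isOpen_univ
  obtain ⟨S', hS', hxS'⟩ : ∃ S' : S.Opens, IsAffineOpen S' ∧ x ∈ S' := ⟨S'', hS'', hxS''⟩
  refine ⟨S', hS', hxS', ?_⟩
  have hraS := restrictFunctor_additive S'.ι
  have hraX := restrictFunctor_additive (f ⁻¹ᵁ S').ι
  have hirX' := hasInjectiveResolutions_modules ((f ⁻¹ᵁ S' : X.Opens) : Scheme.{u})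
  have h1 : (((restrictFunctor S'.ι).obj (((pushforward f).rightDerived p).obj M))).IsQuasicoherent := by
    obtain ⟨e₁⟩ := DerivedExactComp.nonempty_rightDerived_comp_exact_iso (pushforward f)
      (restrictFunctor S'.ι) M p
    let e₂ := (DegComposite.rightDerivedMapIso (bcIso f S') p).app M
    obtain ⟨e₃⟩ := nonempty_rightDerived_restrict_comp_iso (f ⁻¹ᵁ S') (pushforward (f ∣_ S')) M p
    have : IsAffine (S' : Scheme.{u}) := hS'
    have hMr : ((restrictFunctor (f ⁻¹ᵁ S').ι).obj M).IsQuasicoherent := by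
      have := hM
      infer_instance
    have hq := isQuasicoherent_rightDerived_pushforward_of_isAffine (f ∣_ S')
      ((restrictFunctor (f ⁻¹ᵁ S').ι).obj M) hMr p
    exact (qClosed_isQCoh _).iso (e₁.symm ≪≫ e₂ ≪≫ e₃).symm hq
  let e : restrictFunctor hS'.fromSpec ≅ restrictFunctor S'.ι ⋙ restrictFunctor hS'.isoSpec.inv :=
    restrictFunctorCongr (hS'.isoSpec_inv_ι).symm ≪≫ restrictFunctorComp _ _
  have h2 : ((restrictFunctor hS'.isoSpec.inv).obj
      ((restrictFunctor S'.ι).obj (((pushforward f).rightDerived p).obj M))).IsQuasicoherent := by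
    have := h1
    infer_instance
  exact (qClosed_isQCoh _).iso (e.app _).symm h2


end main

end Groth.Agent.Lib.Helper26.QCohRpush
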