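import Groth.Agent.Lib.Helper26.ExtZeroSch
import Groth.Agent.Lib.Helper42.ExtZero

set_option autoImplicit false
universe u
open CategoryTheory MonoidalCategory Limits Opposite ModSite
open Groth.Agent.Lib.Helper42.TensorSheaf Groth.Agent.Lib.Helper42.RestrTensor
open Groth.Agent.Lib.Helper42.ExtPre Groth.Agent.Lib.Helper42.ExtZero

/-!
# The counit `j_!(K|_V) ⟶ K` is an epimorphism for `K` a subobject of some `j_! N`
(uses helper42's concrete description of extension by zero).
-/

namespace Groth.Agent.Lib.Helper26.ExtZeroEpi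

section Site
variable {C : Type u} [SmallCategory C] {J : GrothendieckTopology C} (O : Sheaf J CommRingCat.{u})
  (U : C)

lemma extObj_eq_zero_of_isEmpty (G : PMod (O.over U)) {V : C} (hV : IsEmpty (V ⟶ U))
    (e : (extObj G).obj (op V)) : e = 0 := by
  induction e using ext_induction with
  | h0 => rfl
  | h1 φ x => exact (hV.false φ).elim
  | h2 a b ha hb => rw [ha, hb, add_zero]

theorem eq_zero_of_restr_eq_zero (G : Mod (O.over U)) {K T : Mod O}
    (m : K ⟶ (L O U).obj G) [Mono m] (h : K ⟶ T) (h0 : (restr O U).map h = 0) : h = 0 := by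
  apply SheafOfModules.hom_ext
  apply PresheafOfModules.hom_ext
  intro X
  ext k
  let G₀ := (fgt (O.over U)).obj G
  let un := (adjS O).unit.app (extObj G₀)
  have hsurj : Presheaf.IsLocallySurjective J ((PresheafOfModules.toPresheaf _).map un) :=
    ((W_iff _).mp (W_unit (extObj G₀))).2
  let s := m.val.app X k
  have hS := Presheaf.imageSieve_mem J ((PresheafOfModules.toPresheaf _).map un) s
  refine T.isSheaf.isSeparated _ _ hS _ _ ?_
  intro Z a ha
  obtain ⟨e, he⟩ := ha
  have nat : ∀ k : K.val.obj X, T.val.presheaf.map a.op (h.val.app X k) =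
      h.val.app (op Z) (K.val.presheaf.map a.op k) := fun k =>
    (PresheafOfModules.naturality_apply h.val a.op k).symm
  have natm : ∀ k : K.val.obj X, ((L O U).obj G).val.presheaf.map a.op (m.val.app X k) =
      m.val.app (op Z) (K.val.presheaf.map a.op k) := fun k =>
    (PresheafOfModules.naturality_apply m.val a.op k).symm
  have rhs : (ConcreteCategory.hom (T.val.presheaf.map a.op))
      ((ModuleCat.Hom.hom ((SheafOfModules.Hom.val (0 : K ⟶ T)).app X)) k) = 0 :=
    map_zero _
  refine (nat k).trans (Eq.trans ?_ rhs.symm)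
  by_cases hZ : Nonempty (Z ⟶ U)
  · obtain ⟨φ⟩ := hZ
    have hz : h.val.app (op Z) = 0 := congrArg (fun t => t.val.app (op (Over.mk φ))) h0
    rw [hz]
    rfl
  · rw [not_nonempty_iff] at hZ
    have e0 : e = 0 := extObj_eq_zero_of_isEmpty O U G₀ hZ e
    rw [e0, map_zero] at he
    have hk : K.val.presheaf.map a.op k = 0 := by
      have h2 : PreservesFiniteLimits (fgt O) :=
        inferInstanceAs (PreservesFiniteLimits (SheafOfModules.forget (ringSh O)))
      have m1 : Mono ((fgt O).map m) := inferInstance
      apply PresheafOfModules.injective_of_mono ((fgt O).map m) (op Z)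
      refine (natm k).symm.trans (he.symm.trans (map_zero _).symm)
    refine (congrArg (fun t => (ConcreteCategory.hom (h.val.app (op Z))) t) hk).trans ?_
    exact map_zero (h.val.app (op Z)).hom

end Site

section Sch
open AlgebraicGeometry

theorem epi_counit_of_mono {X : Scheme.{u}} (V : X.Opens) (N : V.toScheme.Modules) {K : X.Modules}
    (m : K ⟶ (CxOX.extZero V.ι).obj N) [Mono m] :
    Epi ((CxOX.extZeroAdj V.ι).counit.app K) := by
  apply Preadditive.epi_of_cancel_zero
  intro T h hh
  have h1 : (Scheme.Modules.restrictFunctor V.ι).map h = 0 := by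
    have := congrArg ((CxOX.extZeroAdj V.ι).homEquiv _ _) hh
    rw [Adjunction.homEquiv_apply, Functor.map_comp, Adjunction.right_triangle_components_assoc,
      Adjunction.homEquiv_apply, Functor.map_zero, comp_zero] at this
    exact this
  have h2 : (ModSite.restr X.sheaf V).map h = 0 := by
    have nat := (Scheme.Modules.overFunctorEquiv V).hom.naturality h
    rw [h1, comp_zero] at nat
    have key : (Scheme.Modules.overEquiv V).functor.map ((ModSite.restr X.sheaf V).map h) = 0 := by
      rw [← cancel_mono ((Scheme.Modules.overFunctorEquiv V).hom.app T), zero_comp]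
      exact nat
    exact ((Scheme.Modules.overEquiv V).functor.map_eq_zero_iff).mp key
  have m2 : Mono ((CxOX.extZeroIsoSite V).hom.app N ≫ (extZeroIso X.sheaf V).hom.app _) :=
    inferInstance
  have : Mono (m ≫ (CxOX.extZeroIsoSite V).hom.app N ≫ (extZeroIso X.sheaf V).hom.app _) :=
    mono_comp m _
  exact @eq_zero_of_restr_eq_zero _ _ _ X.sheaf V _ K T
    (m ≫ (CxOX.extZeroIsoSite V).hom.app N ≫ (extZeroIso X.sheaf V).hom.app _) this h h2

end Sch
end Groth.Agent.Lib.Helper26.ExtZeroEpi
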