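import Mathlib
import Groth.Agent.Lib.Helper26.DegComposite

set_option autoImplicit false
universe w w' v v' u u'

open CategoryTheory CategoryTheory.Limits Abelian

namespace Groth.Agent.Lib.Helper26.ExtEdge

variable {𝒜 : Type u} [Category.{v} 𝒜] [Abelian 𝒜] [HasExt.{w} 𝒜]
variable {ℬ : Type u'} [Category.{v'} ℬ] [Abelian ℬ] [HasExt.{w'} ℬ]
variable {L : ℬ ⥤ 𝒜} {R : 𝒜 ⥤ ℬ} (adj : L ⊣ R)
variable [L.Additive] [PreservesFiniteLimits L] [PreservesFiniteColimits L]
variable {P : ℬ} {P' : 𝒜} (o : P' ⟶ L.obj P)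

/-- the edge map `Ext^p(P, R A) → Ext^p(P', A)`: apply the exact left adjoint `L`, compose with the
counit and precompose with `o : P' ⟶ L P`. -/
noncomputable def edge (A : 𝒜) (p : ℕ) (x : Ext.{w'} P (R.obj A) p) : Ext.{w} P' A p :=
  (Ext.mk₀ o).comp ((x.mapExactFunctor L).comp (Ext.mk₀ (adj.counit.app A)) (add_zero p))
    (zero_add p)

lemma edge_add (A : 𝒜) (p : ℕ) (x y : Ext.{w'} P (R.obj A) p) :
    edge adj o A p (x + y) = edge adj o A p x + edge adj o A p y := by
  unfold edge
  rw [Ext.mapExactFunctor_add, Ext.add_comp, Ext.comp_add]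

lemma edge_zero (A : 𝒜) (p : ℕ) : edge adj o A p (0 : Ext.{w'} P (R.obj A) p) = 0 := by
  unfold edge
  rw [Ext.mapExactFunctor_zero, Ext.zero_comp, Ext.comp_zero]

lemma edge_neg (A : 𝒜) (p : ℕ) (x : Ext.{w'} P (R.obj A) p) :
    edge adj o A p (-x) = -edge adj o A p x := by
  have h := edge_add adj o A p x (-x)
  rw [add_neg_cancel, edge_zero] at h
  exact (neg_eq_of_add_eq_zero_right h.symm).symm

/-- naturality of the edge map in the coefficient object -/
lemma edge_naturality {A B : 𝒜} (g : A ⟶ B) (p : ℕ) (x : Ext.{w'} P (R.obj A) p) :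
    edge adj o B p (x.comp (Ext.mk₀ (R.map g)) (add_zero p)) =
      (edge adj o A p x).comp (Ext.mk₀ g) (add_zero p) := by
  unfold edge
  rw [Ext.mapExactFunctor_comp, Ext.mapExactFunctor_mk₀]
  rw [Ext.comp_assoc_of_third_deg_zero, Ext.comp_assoc_of_third_deg_zero,
    Ext.comp_assoc_of_third_deg_zero, Ext.mk₀_comp_mk₀, Ext.mk₀_comp_mk₀]
  congr 3
  exact adj.counit.naturality g

/-- compatibility of the edge map with Yoneda products by compatible classes -/
lemma edge_comp_class {A₁ A₃ : 𝒜} (e : Ext.{w} A₃ A₁ 1) (e' : Ext.{w'} (R.obj A₃) (R.obj A₁) 1)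
    (hc : (e'.mapExactFunctor L).comp (Ext.mk₀ (adj.counit.app A₁)) (add_zero 1) =
      (Ext.mk₀ (adj.counit.app A₃)).comp e (zero_add 1))
    (p : ℕ) (x : Ext.{w'} P (R.obj A₃) p) {q : ℕ} (h : p + 1 = q) :
    edge adj o A₁ q (x.comp e' h) = (edge adj o A₃ p x).comp e h := by
  unfold edge
  rw [Ext.mapExactFunctor_comp]
  rw [Ext.comp_assoc_of_third_deg_zero, hc]
  rw [← Ext.comp_assoc_of_second_deg_zero]
  rw [Ext.comp_assoc (Ext.mk₀ o) _ e (zero_add p) h (by omega)]

variable [R.Additive]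

/-- the counit as a morphism of short complexes -/
noncomputable def counitSC (S : ShortComplex 𝒜) : (S.map R).map L ⟶ S where
  τ₁ := adj.counit.app S.X₁
  τ₂ := adj.counit.app S.X₂
  τ₃ := adj.counit.app S.X₃
  comm₁₂ := (adj.counit.naturality S.f).symm
  comm₂₃ := (adj.counit.naturality S.g).symm

lemma extClass_compat {S : ShortComplex 𝒜} (hS : S.ShortExact) (hS' : (S.map R).ShortExact) :
    ((hS'.extClass : Ext.{w'} (R.obj S.X₃) (R.obj S.X₁) 1).mapExactFunctor L).comp
        (Ext.mk₀ (adj.counit.app S.X₁)) (add_zero 1) =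
      (Ext.mk₀ (adj.counit.app S.X₃)).comp hS.extClass (zero_add 1) := by
  have hnat := ShortComplex.ShortExact.extClass_naturality (hS'.map_of_exact L) hS (counitSC adj S)
  rw [← Ext.mapExactFunctor_extClass] at hnat
  exact hnat


/-- the inductive step: dimension shifting along a short exact sequence with injective middle term -/
lemma edge_bijective_step {S : ShortComplex 𝒜} (hS : S.ShortExact) (hS' : (S.map R).ShortExact)
    [Injective S.X₂] (hRI : Injective (R.obj S.X₂)) (p : ℕ)
    (ih₂ : Function.Bijective (edge adj o S.X₂ p))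
    (ih₃ : Function.Bijective (edge adj o S.X₃ p)) :
    Function.Bijective (edge adj o S.X₁ (p + 1)) := by
  have hc := extClass_compat adj hS hS'
  have hδ := fun (x : Ext.{w'} P (R.obj S.X₃) p) =>
    edge_comp_class adj o hS.extClass hS'.extClass hc p x (rfl : p + 1 = p + 1)
  constructor
  · -- injectivity
    intro x₁ x₂ h12
    have hx : edge adj o S.X₁ (p + 1) (x₁ - x₂) = 0 := by
      rw [sub_eq_add_neg, edge_add, edge_neg, h12, add_neg_cancel]
    suffices x₁ - x₂ = 0 from sub_eq_zero.1 this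
    generalize x₁ - x₂ = x at hx
    have hx0 : x.comp (Ext.mk₀ (R.map S.f)) (add_zero (p + 1)) = 0 :=
      Ext.eq_zero_of_injective _
    obtain ⟨w, hw⟩ := Ext.covariant_sequence_exact₁ P hS' x hx0 (rfl : p + 1 = p + 1)
    have h1 : (edge adj o S.X₃ p w).comp hS.extClass (rfl : p + 1 = p + 1) = 0 :=
      (hδ w).symm.trans ((congrArg (edge adj o S.X₁ (p + 1)) hw).trans hx)
    obtain ⟨v, hv⟩ := Ext.covariant_sequence_exact₃ P' hS _ (rfl : p + 1 = p + 1) h1
    obtain ⟨u, hu⟩ := ih₂.2 v
    have h2 : edge adj o S.X₃ p (u.comp (Ext.mk₀ (R.map S.g)) (add_zero p)) =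
        edge adj o S.X₃ p w :=
      (edge_naturality adj o S.g p u).trans
        ((congrArg (fun t => t.comp (Ext.mk₀ S.g) (add_zero p)) hu).trans hv)
    have h3 := ih₃.1 h2
    have h4 : (Ext.mk₀ (R.map S.g)).comp hS'.extClass (zero_add 1) = 0 := hS'.comp_extClass
    have h5 : (u.comp (Ext.mk₀ (R.map S.g)) (add_zero p)).comp hS'.extClass
        (rfl : p + 1 = p + 1) = 0 := by
      rw [Ext.comp_assoc_of_second_deg_zero, h4, Ext.comp_zero]
    exact hw.symm.trans ((congrArg (fun t => t.comp hS'.extClass (rfl : p + 1 = p + 1))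
      h3.symm).trans h5)
  · -- surjectivity
    intro y
    have hy0 : y.comp (Ext.mk₀ S.f) (add_zero (p + 1)) = 0 :=
      Ext.eq_zero_of_injective _
    obtain ⟨z, hz⟩ := Ext.covariant_sequence_exact₁ P' hS y hy0 (rfl : p + 1 = p + 1)
    obtain ⟨w, hw⟩ := ih₃.2 z
    exact ⟨w.comp hS'.extClass rfl, (hδ w).trans
      ((congrArg (fun t => t.comp hS.extClass (rfl : p + 1 = p + 1)) hw).trans hz)⟩

open Groth.Agent.Lib.Helper26.DegComposite in
/-- **The Leray edge map is bijective on acyclic objects.** Let `L ⊣ R` with `L` exact, `o : P' ⟶ L P`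
such that the edge map is bijective in degree `0`. If `R^q R (A) = 0` for all `q > 0`, then the
edge map `Ext^p(P, R A) → Ext^p(P', A)` is bijective for all `p`. -/
theorem edge_bijective [EnoughInjectives 𝒜] [PreservesFiniteLimits R]
    (H0 : ∀ A : 𝒜, Function.Bijective (edge adj o A 0)) :
    ∀ (p : ℕ) (A : 𝒜), (∀ q : ℕ, IsZero ((R.rightDerived (q + 1)).obj A)) →
      Function.Bijective (edge adj o A p) := by
  intro p
  induction p with
  | zero => intro A _; exact H0 A
  | succ p ih =>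
    intro A hA
    have hS := injSeq_shortExact A
    have hS' := injSeq_map_shortExact R A (hA 0)
    have hQ := isZero_rightDerived_injSeq_X₃ R A hA
    have hI : ∀ q : ℕ, IsZero ((R.rightDerived (q + 1)).obj (injSeq A).X₂) :=
      fun q => Functor.isZero_rightDerived_obj_injective_succ R q _
    have hRI : Injective (R.obj (injSeq A).X₂) := Injective.injective_of_adjoint adj _
    exact edge_bijective_step adj o hS hS' hRI p (ih _ hI) (ih _ hQ)

end Groth.Agent.Lib.Helper26.ExtEdge
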