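import Groth.Agent.Lib.Helper26.ProjFormula
import Groth.Agent.Lib.Helper60.TensorRestrict
import Groth.Agent.Lib.Helper42.Flat2
import Groth.Agent.Lib.Helper26.QCohRpush
import Groth.Agent.S11156

set_option autoImplicit false
universe u
open CategoryTheory AlgebraicGeometry TopologicalSpace Opposite TensorProduct

namespace Groth.Agent.Lib.Helper26.ProjFormula

open Groth.Agent.Lib.Helper35.Gen Groth.Agent.Lib.Helper35.AbSheaf Groth.Agent.Lib.Helper35.PbInv
open Groth.Agent.Lib.Helper60.TensorLib Groth.Agent.Lib.Helper60.TensorRestrict Scheme.Modules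

section Restr
variable {X Y : Scheme.{u}} (j : Y ⟶ X) [IsOpenImmersion j] (M : X.Modules)

theorem restrictTensorHom_tm (N : X.Modules) (V : Y.Opens) (m : Γ(M.restrict j, V))
    (n : Γ(N.restrict j, V)) :
    ((restrictTensorHom j M N).app V).hom (tm (M.restrict j) (N.restrict j) m n) =
      ofX j (CohB1.tensorMod M N) (tm M N (toX j M m) (toX j N n)) :=
  liftHom_tm (M.restrict j) (N.restrict j) ((CohB1.tensorMod M N).restrict j) (bR j M N)
    (fun i m n => bR_natural j M N i m n) V m n

theorem restrictTensorHom_natural {N N' : X.Modules} (α : N ⟶ N') :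
    restrictTensorHom j M N ≫ (restrictFunctor j).map ((tL M).map α) =
      (tL (M.restrict j)).map ((restrictFunctor j).map α) ≫ restrictTensorHom j M N' := by
  apply tensorMod_hom_ext
  intro V m n
  have l1 := congrArg (fun t : Γ(CohB1.tensorMod M N, j ''ᵁ V) =>
    (Scheme.Modules.Hom.app ((tL M).map α) (j ''ᵁ V)).hom t) (restrictTensorHom_tm j M N V m n)
  have l2 := tL_map_tm M α (j ''ᵁ V) (toX j M m) (toX j N n)
  have r1 := congrArg (fun t => ((restrictTensorHom j M N').app V).hom t)
    (tL_map_tm (M.restrict j) ((restrictFunctor j).map α) V m n)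
  have r2 := restrictTensorHom_tm j M N' V m ((((restrictFunctor j).map α).app V).hom n)
  exact (l1.trans l2).trans (r1.trans r2).symm

/-- `(M ⊗ α)|_U` is an isomorphism as soon as `α|_U` is -/
theorem isIso_restrict_tL_map {N N' : X.Modules} (α : N ⟶ N')
    (h : IsIso ((restrictFunctor j).map α)) : IsIso ((restrictFunctor j).map ((tL M).map α)) := by
  have h1 : IsIso ((tL (M.restrict j)).map ((restrictFunctor j).map α)) := inferInstance
  have h2 : IsIso (restrictTensorHom j M N ≫ (restrictFunctor j).map ((tL M).map α)) := by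
    rw [restrictTensorHom_natural]
    have h3 : IsIso (restrictTensorHom j M N') := inferInstance
    exact @IsIso.comp_isIso _ _ _ _ _ _ _ h1 h3
  have h4 : IsIso (restrictTensorHom j M N) := inferInstance
  exact @IsIso.of_isIso_comp_left _ _ _ _ _ (restrictTensorHom j M N) _ h4 h2

end Restr

section Sq
variable {A A' X Y : Scheme.{u}} (j : A ⟶ Y) (j' : A' ⟶ X) [IsOpenImmersion j] [IsOpenImmersion j']
  (b : A' ⟶ A) (g : X ⟶ Y) (hsq : b ≫ j = j' ≫ g)

/-- restriction commutes with pullback around a commutative square, as a natural isomorphism -/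
noncomputable def sqNatIso :
    restrictFunctor j ⋙ Scheme.Modules.pullback b ≅ Scheme.Modules.pullback g ⋙ restrictFunctor j' :=
  Functor.isoWhiskerRight (restrictFunctorIsoPullback j) (Scheme.Modules.pullback b) ≪≫
    pullbackComp b j ≪≫ pullbackCongr hsq ≪≫ (pullbackComp j' g).symm ≪≫
    Functor.isoWhiskerLeft (Scheme.Modules.pullback g) (restrictFunctorIsoPullback j').symm

include hsq in
theorem isIso_restrict_pullback_map {F F' : Y.Modules} (α : F ⟶ F')
    (h : IsIso ((restrictFunctor j).map α)) :
    IsIso ((restrictFunctor j').map ((Scheme.Modules.pullback g).map α)) := by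
  have h1 : IsIso ((restrictFunctor j ⋙ Scheme.Modules.pullback b).map α) := by
    rw [Functor.comp_map]; infer_instance
  exact (NatIso.isIso_map_iff (sqNatIso j j' b g hsq) α).mp h1

end Sq

section Iso
variable {X Y : Scheme.{u}} (f : X ⟶ Y) (G : X.Modules)

/-- `E ↦ f_*G ⊗ E` -/
noncomputable abbrev AG : Y.Modules ⥤ Y.Modules := tL ((pushforward f).obj G)
/-- `E ↦ f_*(G ⊗ f^*E)` -/
noncomputable abbrev BG : Y.Modules ⥤ Y.Modules :=
  Scheme.Modules.pullback f ⋙ tL G ⋙ pushforward f

/-- the projection formula map as a natural transformation in `E` -/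
noncomputable def ThetaE : AG f G ⟶ BG f G where
  app E := theta f G E
  naturality _ _ α := theta_natural_right f G α

variable (U : Y.Opens)

theorem isIso_restrict_AG_map {E E' : Y.Modules} (α : E ⟶ E')
    (h : IsIso ((restrictFunctor U.ι).map α)) :
    IsIso ((restrictFunctor U.ι).map ((AG f G).map α)) :=
  isIso_restrict_tL_map U.ι _ α h

theorem isIso_restrict_BG_map {E E' : Y.Modules} (α : E ⟶ E')
    (h : IsIso ((restrictFunctor U.ι).map α)) :
    IsIso ((restrictFunctor U.ι).map ((BG f G).map α)) := by
  have h1 : IsIso ((restrictFunctor (f ⁻¹ᵁ U).ι).map ((Scheme.Modules.pullback f).map α)) :=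
    isIso_restrict_pullback_map U.ι (f ⁻¹ᵁ U).ι (f ∣_ U) f (morphismRestrict_ι f U) α h
  have h2 : IsIso ((restrictFunctor (f ⁻¹ᵁ U).ι).map
      ((tL G).map ((Scheme.Modules.pullback f).map α))) :=
    isIso_restrict_tL_map (f ⁻¹ᵁ U).ι G _ h1
  have h3 : IsIso ((restrictFunctor (f ⁻¹ᵁ U).ι ⋙ pushforward (f ∣_ U)).map
      ((tL G).map ((Scheme.Modules.pullback f).map α))) := by
    rw [Functor.comp_map]; infer_instance
  exact (NatIso.isIso_map_iff (Groth.Agent.Lib.Helper26.QCohRpush.bcIso f U)
    ((tL G).map ((Scheme.Modules.pullback f).map α))).mpr h3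

/-- the property "the projection formula map is an isomorphism over `U`" -/
def PU (E : Y.Modules) : Prop := IsIso ((restrictFunctor U.ι).map ((ThetaE f G).app E))

theorem PU_of_map {E E' : Y.Modules} (α : E ⟶ E') (h : IsIso ((restrictFunctor U.ι).map α)) :
    PU f G U E ↔ PU f G U E' := by
  have ha := isIso_restrict_AG_map f G U α h
  have hb := isIso_restrict_BG_map f G U α h
  have nat := congrArg (restrictFunctor U.ι).map ((ThetaE f G).naturality α)
  rw [Functor.map_comp, Functor.map_comp] at nat
  unfold PU
  constructor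
  · intro h1
    have : IsIso ((restrictFunctor U.ι).map ((AG f G).map α) ≫
        (restrictFunctor U.ι).map ((ThetaE f G).app E')) := by
      rw [nat]; infer_instance
    exact IsIso.of_isIso_comp_left ((restrictFunctor U.ι).map ((AG f G).map α)) _
  · intro h1
    have : IsIso ((restrictFunctor U.ι).map ((ThetaE f G).app E) ≫
        (restrictFunctor U.ι).map ((BG f G).map α)) := by
      rw [← nat]; infer_instance
    exact IsIso.of_isIso_comp_right _ ((restrictFunctor U.ι).map ((BG f G).map α))

/-- rank one -/
theorem theta_app_bijective_of_isGen (E : Y.Modules) (e : Γ(E, U)) (he : IsGen E U e)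
    (W : Y.Opens) (hW : W ≤ U) : Function.Bijective ((theta f G E).app W).hom := by
  have b1 := tm_right_bijective ((pushforward f).obj G) E e he W hW
  have he' := isGen_pbSec f E U e he
  have b2 := tm_right_bijective G ((Scheme.Modules.pullback f).obj E) (pbSec f E U e) he'
    (f ⁻¹ᵁ W) (f.preimage_mono hW)
  have key : (fun g : Γ(G, f ⁻¹ᵁ W) => tm G ((Scheme.Modules.pullback f).obj E) g
      (rs ((Scheme.Modules.pullback f).obj E) (f.preimage_mono hW) (pbSec f E U e))) =
      ((theta f G E).app W).hom ∘
        (fun m : Γ((pushforward f).obj G, W) => tm ((pushforward f).obj G) E m (rs E hW e)) := by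
    funext g
    rw [pbSec_rs]
    exact (theta_tm f G E W g (rs E hW e)).symm
  rw [key] at b2
  exact (Function.Bijective.of_comp_iff _ b1).mp b2

theorem PU_of_isGen (E : Y.Modules) (e : Γ(E, U)) (he : IsGen E U e) : PU f G U E := by
  unfold PU
  apply Groth.Agent.Lib.Helper60.TensorLib.isIso_of_app_bijective
  intro W'
  exact theta_app_bijective_of_isGen f G U E e he (U.ι ''ᵁ W') (Scheme.Opens.ι_image_le U W')

end Iso

section Add
open CategoryTheory.Limits

/-- a natural transformation between additive functors which is invertible on each summand is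
invertible on a finite biproduct -/
theorem isIso_app_biproduct {C D : Type*} [Category C] [Category D] [Preadditive C] [Preadditive D]
    {F F' : C ⥤ D} [F.Additive] [F'.Additive] (τ : F ⟶ F') {k : ℕ} (c : Fin k → C)
    [HasBiproduct c] (h : ∀ i, IsIso (τ.app (c i))) : IsIso (τ.app (⨁ c)) := by
  refine ⟨∑ i, F'.map (biproduct.π c i) ≫ inv (τ.app (c i)) ≫ F.map (biproduct.ι c i), ?_, ?_⟩
  · rw [Preadditive.comp_sum]
    have : ∀ i, τ.app (⨁ c) ≫ F'.map (biproduct.π c i) ≫ inv (τ.app (c i)) ≫
        F.map (biproduct.ι c i) = F.map (biproduct.π c i ≫ biproduct.ι c i) := by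
      intro i
      rw [← Category.assoc, ← τ.naturality, Category.assoc, IsIso.hom_inv_id_assoc, F.map_comp]
    rw [Finset.sum_congr rfl (fun i _ => this i), ← F.map_sum, biproduct.total, F.map_id]
  · rw [Preadditive.sum_comp]
    have : ∀ i, (F'.map (biproduct.π c i) ≫ inv (τ.app (c i)) ≫ F.map (biproduct.ι c i)) ≫
        τ.app (⨁ c) = F'.map (biproduct.π c i ≫ biproduct.ι c i) := by
      intro i
      rw [Category.assoc, Category.assoc, τ.naturality, IsIso.inv_hom_id_assoc, F'.map_comp]
    rw [Finset.sum_congr rfl (fun i _ => this i), ← F'.map_sum, biproduct.total, F'.map_id]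

end Add

section Main
open CategoryTheory.Limits
variable {X Y : Scheme.{u}} (f : X ⟶ Y) (G : X.Modules)

theorem PU_extZero_unit (U : Y.Opens) :
    PU f G U ((CxOX.extZero U.ι).obj (Coh.structureModule (U : Scheme.{u}))) := by
  have hu : IsIso (CxOX.extZeroAdj U.ι).unit := Groth.Agent.S11156.isIso_unit_extZero U
  obtain ⟨e, he⟩ := exists_isGen_of_iso (L := (CxOX.extZero U.ι).obj
    (Coh.structureModule (U : Scheme.{u}))) U
    (asIso ((CxOX.extZeroAdj U.ι).unit.app (Coh.structureModule (U : Scheme.{u})))).symm
  exact PU_of_isGen f G U _ e he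

theorem PU_of_free (U : Y.Opens) (E : Y.Modules) (k : ℕ)
    (φ : E.restrict U.ι ≅ FlatMod.freeMod (U : Scheme.{u}) k) : PU f G U E := by
  have hu : IsIso (CxOX.extZeroAdj U.ι).unit := Groth.Agent.S11156.isIso_unit_extZero U
  have : HasFiniteBiproducts Y.Modules := HasFiniteBiproducts.of_hasFiniteCoproducts
  have hraU := Groth.Agent.Lib.Helper26.ModMV.restrictFunctor_additive U.ι
  -- step 1: biproduct of copies of `j_! O_U`
  have h1 : PU f G U (⨁ fun _ : Fin k => (CxOX.extZero U.ι).obj
      (Coh.structureModule (U : Scheme.{u}))) := by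
    unfold PU
    have ia : (AG f G).Additive :=
      inferInstanceAs (Groth.Agent.Lib.Helper42.Flat.tensL Y.sheaf ((pushforward f).obj G)).Additive
    have ib : (tL G).Additive :=
      inferInstanceAs (Groth.Agent.Lib.Helper42.Flat.tensL X.sheaf G).Additive
    have ic : (Scheme.Modules.pullback f).Additive :=
      (pullbackPushforwardAdjunction f).left_adjoint_additive
    have id' : (BG f G).Additive := inferInstance
    exact isIso_app_biproduct (Functor.whiskerRight (ThetaE f G) (restrictFunctor U.ι))
      (fun _ : Fin k => (CxOX.extZero U.ι).obj (Coh.structureModule (U : Scheme.{u})))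
      (fun _ => PU_extZero_unit f G U)
  -- step 2: coproduct
  have h2 : PU f G U (∐ fun _ : Fin k => (CxOX.extZero U.ι).obj
      (Coh.structureModule (U : Scheme.{u}))) :=
    (PU_of_map f G U (biproduct.isoCoproduct _).hom inferInstance).mp h1
  -- step 3: `j_!` of the free module
  have h3 : PU f G U ((CxOX.extZero U.ι).obj (FlatMod.freeMod (U : Scheme.{u}) k)) :=
    (PU_of_map f G U (PreservesCoproduct.iso (CxOX.extZero U.ι)
      (fun _ : Fin k => Coh.structureModule (U : Scheme.{u}))).hom inferInstance).mpr h2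
  -- step 4: `E`
  have h4 : IsIso ((restrictFunctor U.ι).map ((CxOX.extZeroAdj U.ι).counit.app E)) := by
    have tri := (CxOX.extZeroAdj U.ι).right_triangle_components E
    have : IsIso ((CxOX.extZeroAdj U.ι).unit.app ((restrictFunctor U.ι).obj E)) := inferInstance
    exact IsIso.of_isIso_fac_left tri
  have h5 : IsIso ((restrictFunctor U.ι).map ((CxOX.extZero U.ι).map φ.inv ≫
      (CxOX.extZeroAdj U.ι).counit.app E)) := by
    rw [Functor.map_comp]; infer_instance
  exact (PU_of_map f G U _ h5).mp h3

/-- **Projection formula**: `f_*G ⊗ E ⟶ f_*(G ⊗ f^*E)` is an isomorphism for `E` finite locally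
free. -/
theorem isIso_theta (E : Y.Modules) (hE : FlatMod.IsFinLocFree E) : IsIso (theta f G E) := by
  apply Groth.Agent.S13626.isIso_of_locally_isIso
  intro y
  obtain ⟨U, k, hyU, ⟨φ⟩⟩ := hE y
  exact ⟨U, hyU, PU_of_free f G U E k φ⟩

/-- the projection formula as a natural isomorphism in `G` -/
noncomputable def projIso (E : Y.Modules) (hE : FlatMod.IsFinLocFree E) :
    pushforward f ⋙ tR E ≅ tR ((Scheme.Modules.pullback f).obj E) ⋙ pushforward f :=
  NatIso.ofComponents (fun G => @asIso _ _ _ _ (theta f G E) (isIso_theta f G E hE))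
    (fun s => theta_natural_left f E s)

end Main

end Groth.Agent.Lib.Helper26.ProjFormula
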