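import Mathlib

/-!
# Sheaves and closed embeddings (helper26)

* Part A: for an inducing map `i : Z ⟶ X`, `i_*` on sheaves (any value category) is full and faithful.
* Part B: for a closed embedding, stalks of `i_* G` off the range are trivial.
* Part C: an abelian sheaf with zero stalks off the range of a closed embedding `i` is `i_*` of
  something (the unit of `i⁻¹ ⊣ i_*` is an isomorphism).
* Part D: `H_Z(I) = i⁻¹ ker(I ⟶ j_* j⁻¹ I)` is injective for injective `I`
  (`injective_pull_kernel_unit`).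
* Part E: `Γ_Z(I) = ker(I ⟶ j_* j⁻¹ I)` itself is injective (`injective_kernel_unit`).
-/

set_option autoImplicit false
universe v u w

open CategoryTheory TopologicalSpace Opposite CategoryTheory.Limits

namespace Groth.Agent.Lib.Helper26.ClosedEmbSh

section partA

variable {Z X : TopCat.{u}} (i : Z ⟶ X) {A : Type w} [Category.{v} A]

lemma exists_ex (hi : Topology.IsInducing i) (W : Opens Z) :
    ∃ V : Opens X, (Opens.map i).obj V = W := by
  obtain ⟨t, ht, hW⟩ := hi.isOpen_iff.1 W.isOpen
  exact ⟨⟨t, ht⟩, Opens.ext hW⟩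

/-- a chosen open of `X` with preimage `W` -/
noncomputable def ex (hi : Topology.IsInducing i) (W : Opens Z) : Opens X :=
  (exists_ex i hi W).choose

lemma map_ex (hi : Topology.IsInducing i) (W : Opens Z) : (Opens.map i).obj (ex i hi W) = W :=
  (exists_ex i hi W).choose_spec

variable {i}
variable {P Q : (Opens Z)ᵒᵖ ⥤ A} (φ : (Opens.map i).op ⋙ P ⟶ (Opens.map i).op ⋙ Q)

/-- `φ` at `V` is determined by `φ` at a smaller open with the same preimage -/
lemma L1 (V V' : Opens X) (hle : V' ≤ V) (heq : (Opens.map i).obj V ≤ (Opens.map i).obj V') :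
    φ.app (op V) =
      P.map (homOfLE ((Opens.map i).monotone hle)).op ≫ φ.app (op V') ≫
        Q.map (homOfLE heq).op := by
  have nat := φ.naturality (homOfLE hle).op
  simp only [Functor.comp_map] at nat
  have h0 : ((Opens.map i).op.map (homOfLE hle).op) = (homOfLE ((Opens.map i).monotone hle)).op :=
    rfl
  rw [h0] at nat
  rw [← Category.assoc, nat, Category.assoc, ← Q.map_comp]
  have : (homOfLE ((Opens.map i).monotone hle)).op ≫ (homOfLE heq).op =
      𝟙 (op ((Opens.map i).obj V)) := Subsingleton.elim _ _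
  rw [this]
  erw [Q.map_id]
  exact (Category.comp_id _).symm

/-- general form: `φ` at any `V` with preimage `W`, conjugated, does not depend on `V` -/
lemma L2 (V V' : Opens X) (W : Opens Z) (h1 : (Opens.map i).obj V ≤ W) (h2 : W ≤ (Opens.map i).obj V)
    (h1' : (Opens.map i).obj V' ≤ W) (h2' : W ≤ (Opens.map i).obj V') :
    P.map (homOfLE h1).op ≫ φ.app (op V) ≫ Q.map (homOfLE h2).op =
      P.map (homOfLE h1').op ≫ φ.app (op V') ≫ Q.map (homOfLE h2').op := by
  have e1 : (Opens.map i).obj V ≤ (Opens.map i).obj (V ⊓ V') := by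
    intro z hz
    exact ⟨hz, h2' (h1 hz)⟩
  have e2 : (Opens.map i).obj V' ≤ (Opens.map i).obj (V ⊓ V') := by
    intro z hz
    exact ⟨h2 (h1' hz), hz⟩
  rw [L1 φ V (V ⊓ V') inf_le_left e1, L1 φ V' (V ⊓ V') inf_le_right e2]
  simp only [Category.assoc, ← Q.map_comp]
  simp only [← Category.assoc, ← P.map_comp]
  rfl

variable (hi : Topology.IsInducing i)

/-- the preimage of `φ` under whiskering with `(Opens.map i).op` -/
noncomputable def desc : P ⟶ Q where
  app W := P.map (homOfLE (map_ex i hi W.unop).le).op ≫ φ.app (op (ex i hi W.unop)) ≫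
      Q.map (homOfLE (map_ex i hi W.unop).ge).op
  naturality W W' f := by
    have hle : W'.unop ≤ W.unop := leOfHom f.unop
    -- use V := ex W ⊓ ex W' for W'
    have a1 : (Opens.map i).obj (ex i hi W.unop ⊓ ex i hi W'.unop) ≤ W'.unop := by
      intro z hz
      exact (map_ex i hi W'.unop).le hz.2
    have a2 : W'.unop ≤ (Opens.map i).obj (ex i hi W.unop ⊓ ex i hi W'.unop) := by
      intro z hz
      exact ⟨(map_ex i hi W.unop).ge (hle hz), (map_ex i hi W'.unop).ge hz⟩
    rw [L2 φ (ex i hi W'.unop) (ex i hi W.unop ⊓ ex i hi W'.unop) W'.unop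
      (map_ex i hi W'.unop).le (map_ex i hi W'.unop).ge a1 a2]
    have nat := φ.naturality (homOfLE (inf_le_left :
      ex i hi W.unop ⊓ ex i hi W'.unop ≤ ex i hi W.unop)).op
    simp only [Functor.comp_map] at nat
    simp only [Category.assoc]
    rw [← Q.map_comp]
    have hq : (homOfLE (map_ex i hi W.unop).ge).op ≫ f =
        ((Opens.map i).op.map (homOfLE (inf_le_left :
          ex i hi W.unop ⊓ ex i hi W'.unop ≤ ex i hi W.unop)).op) ≫ (homOfLE a2).op :=
      Subsingleton.elim _ _
    rw [hq, Q.map_comp, ← Category.assoc (φ.app _), ← nat]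
    simp only [← Category.assoc, ← P.map_comp]
    rfl

lemma whisker_desc : Functor.whiskerLeft (Opens.map i).op (desc φ hi) = φ := by
  ext V
  induction V using Opposite.rec with | _ V => ?_
  have := L2 φ (ex i hi ((Opens.map i).obj V)) V ((Opens.map i).obj V)
    (map_ex i hi _).le (map_ex i hi _).ge le_rfl le_rfl
  refine Eq.trans ?_ (this.trans ?_)
  · rfl
  have e1 : (homOfLE (le_refl ((Opens.map i).obj V))).op = 𝟙 _ := Subsingleton.elim _ _
  rw [e1]
  erw [P.map_id, Q.map_id]
  simp

lemma desc_whisker (ψ : P ⟶ Q) : desc (Functor.whiskerLeft (Opens.map i).op ψ) hi = ψ := by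
  ext W
  induction W using Opposite.rec with | _ W => ?_
  refine Eq.trans (?_ : _ = P.map (homOfLE (map_ex i hi W).le).op ≫ ψ.app (op ((Opens.map i).obj (ex i hi W))) ≫
      Q.map (homOfLE (map_ex i hi W).ge).op) ?_
  · rfl
  rw [← Category.assoc, ψ.naturality, Category.assoc, ← Q.map_comp]
  have : (homOfLE (map_ex i hi W).le).op ≫ (homOfLE (map_ex i hi W).ge).op = 𝟙 _ :=
    Subsingleton.elim _ _
  erw [this, Q.map_id]
  simp

section sheaf
variable (A)

lemma push_obj_obj (F : TopCat.Sheaf A Z) :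
    ((TopCat.Sheaf.pushforward A i).obj F).obj = (Opens.map i).op ⋙ F.obj := rfl

lemma push_map_hom {F G : TopCat.Sheaf A Z} (α : F ⟶ G) :
    ((TopCat.Sheaf.pushforward A i).map α).hom = Functor.whiskerLeft (Opens.map i).op α.hom := rfl

include hi in
lemma push_full : (TopCat.Sheaf.pushforward A i).Full where
  map_surjective {F G} β := by
    refine ⟨⟨desc (P := F.obj) (Q := G.obj) β.hom hi⟩, ?_⟩
    apply Sheaf.hom_ext
    exact whisker_desc (P := F.obj) (Q := G.obj) β.hom hi

include hi in
lemma push_faithful : (TopCat.Sheaf.pushforward A i).Faithful where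
  map_injective {F G} α β h := by
    apply Sheaf.hom_ext
    have h' := congrArg (fun γ => γ.hom) h
    simp only [push_map_hom] at h'
    rw [← desc_whisker hi α.hom, ← desc_whisker hi β.hom, h']

end sheaf


end partA

section partB

variable {Z X : TopCat.{u}} (i : Z ⟶ X)


/-- the open complement of the range of a closed embedding -/
def compl (hi : Topology.IsClosedEmbedding i) : Opens X :=
  ⟨(Set.range i)ᶜ, hi.isClosed_range.isOpen_compl⟩

lemma map_compl (hi : Topology.IsClosedEmbedding i) : (Opens.map i).obj (compl i hi) = ⊥ := by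
  ext z
  simp only [Opens.map_coe, Set.mem_preimage, SetLike.mem_coe, Opens.coe_bot, Set.mem_empty_iff_false,
    iff_false]
  intro hz
  exact hz ⟨z, rfl⟩

lemma map_inf_compl (hi : Topology.IsClosedEmbedding i) (U : Opens X) :
    (Opens.map i).obj (U ⊓ compl i hi) = ⊥ := by
  apply le_antisymm _ bot_le
  intro z hz
  have : z ∈ (Opens.map i).obj (compl i hi) := hz.2
  rw [map_compl] at this
  exact this

/-- stalks of `i_* G` vanish off the range -/
lemma isZero_stalk_push (hi : Topology.IsClosedEmbedding i) (G : TopCat.Sheaf AddCommGrpCat.{u} Z)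
    (x : X) (hx : x ∉ Set.range i) :
    IsZero (TopCat.Presheaf.stalk ((TopCat.Sheaf.pushforward AddCommGrpCat.{u} i).obj G).obj x) := by
  rw [IsZero.iff_id_eq_zero]
  apply TopCat.Presheaf.stalk_hom_ext
  intro U hxU
  have hxV : x ∈ U ⊓ compl i hi := ⟨hxU, hx⟩
  rw [← TopCat.Presheaf.germ_res _ (homOfLE (inf_le_left : U ⊓ compl i hi ≤ U)) x hxV]
  have hT : IsTerminal (G.obj.obj (op ((Opens.map i).obj (U ⊓ compl i hi)))) :=
    G.isTerminalOfEqEmpty (map_inf_compl i hi U)
  have hZ : IsZero (G.obj.obj (op ((Opens.map i).obj (U ⊓ compl i hi)))) :=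
    (isZero_zero _).of_iso (hT.uniqueUpToIso (isZero_zero _).isTerminal)
  simp only [Category.assoc]
  have h0 : TopCat.Presheaf.germ ((TopCat.Sheaf.pushforward AddCommGrpCat.{u} i).obj G).obj
      (U ⊓ compl i hi) x hxV = 0 := hZ.eq_of_src _ _
  rw [h0]
  simp only [zero_comp, comp_zero]

/-- stalks of `i_* F` for sheaves of sets are singletons off the range -/
lemma unique_stalk_push (hi : Topology.IsClosedEmbedding i) (F : TopCat.Sheaf (Type u) Z)
    (x : X) (hx : x ∉ Set.range i) :
    Nonempty (Unique (((TopCat.Sheaf.pushforward (Type u) i).obj F).presheaf.stalk x)) := by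
  have hT : ∀ U : Opens X, Unique (F.obj.obj (op ((Opens.map i).obj (U ⊓ compl i hi)))) := fun U =>
    (Types.isTerminalEquivUnique _) (F.isTerminalOfEqEmpty (map_inf_compl i hi U))
  have hxV : x ∈ (⊤ : Opens X) ⊓ compl i hi := ⟨trivial, hx⟩
  refine ⟨⟨⟨TopCat.Presheaf.germ ((TopCat.Sheaf.pushforward (Type u) i).obj F).obj
    (⊤ ⊓ compl i hi) x hxV (hT ⊤).default⟩, ?_⟩⟩
  intro t
  obtain ⟨U, hxU, s, rfl⟩ := TopCat.Presheaf.exists_germ_eq
    ((TopCat.Sheaf.pushforward (Type u) i).obj F).presheaf (x := x) t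
  have hxW : x ∈ (U ⊓ (⊤ ⊓ compl i hi)) ⊓ compl i hi := ⟨⟨hxU, hxV⟩, hx⟩
  apply TopCat.Presheaf.germ_ext _ ((U ⊓ (⊤ ⊓ compl i hi)) ⊓ compl i hi) hxW
    (homOfLE (inf_le_left.trans inf_le_left)) (homOfLE (inf_le_left.trans inf_le_right))
  exact (hT _).instSubsingleton.elim _ _


end partB

section adj
variable {C : Type*} [Category C] {D : Type*} [Category D] {L : C ⥤ D} {R : D ⥤ C}
  (adj : L ⊣ R)

lemma unit_precomp_bijective [R.Full] [R.Faithful] (F : C) (S : D) :
    Function.Bijective (fun g : R.obj (L.obj F) ⟶ R.obj S => adj.unit.app F ≫ g) := by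
  constructor
  · intro g g' h
    obtain ⟨a, rfl⟩ := R.map_surjective g
    obtain ⟨a', rfl⟩ := R.map_surjective g'
    have h' : adj.homEquiv F S a = adj.homEquiv F S a' := by
      rw [Adjunction.homEquiv_unit, Adjunction.homEquiv_unit]
      exact h
    rw [(adj.homEquiv F S).injective h']
  · intro ψ
    refine ⟨R.map ((adj.homEquiv F S).symm ψ), ?_⟩
    exact (Adjunction.homEquiv_unit adj _ _ _).symm.trans (Equiv.apply_symm_apply _ _)

lemma unit_precomp_bijective' [R.Full] [R.Faithful] (F : C) (S : D) (T : C) (e : T ≅ R.obj S) :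
    Function.Bijective (fun g : R.obj (L.obj F) ⟶ T => adj.unit.app F ≫ g) := by
  have h := unit_precomp_bijective adj F S
  constructor
  · intro g g' hg
    have : g ≫ e.hom = g' ≫ e.hom := h.1 (by
      change adj.unit.app F ≫ g ≫ e.hom = adj.unit.app F ≫ g' ≫ e.hom
      rw [← Category.assoc, ← Category.assoc]
      exact congrArg (· ≫ e.hom) hg)
    exact (cancel_mono e.hom).1 this
  · intro ψ
    obtain ⟨g, hg⟩ := h.2 (ψ ≫ e.hom)
    refine ⟨g ≫ e.inv, ?_⟩
    change adj.unit.app F ≫ g ≫ e.inv = ψ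
    have hg' : adj.unit.app F ≫ g = ψ ≫ e.hom := hg
    rw [← Category.assoc, hg', Category.assoc, e.hom_inv_id, Category.comp_id]

end adj

section sky
variable {Z X : TopCat.{u}} (i : Z ⟶ X) {A : Type w} [Category.{u} A] [HasTerminal A]

open Classical in
/-- the skyscraper at `i z` is the pushforward of the skyscraper at `z` -/
noncomputable def skyIso (z : Z) (M : A) :
    skyscraperSheaf (i z) M ≅ (TopCat.Sheaf.pushforward A i).obj (skyscraperSheaf z M) :=
  Iso.refl _

end sky

section stalkiso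
variable {X : TopCat.{u}} {A : Type w} [Category.{u} A] [HasTerminal A] [HasColimits A]

open Classical in
/-- a map of sheaves inducing bijections on homs into skyscrapers at `x` is a stalk iso at `x` -/
lemma isIso_stalk_of_sky_bijective {G G' : TopCat.Sheaf A X} (f : G ⟶ G') (x : X)
    (h : ∀ M : A, Function.Bijective (fun g : G' ⟶ skyscraperSheaf x M => f ≫ g)) :
    IsIso ((TopCat.Presheaf.stalkFunctor A x).map f.hom) := by
  apply isIso_of_coyoneda_map_bijective
  intro M
  let adjS := stalkSkyscraperSheafAdjunction (C := A) x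
  have key : ∀ g : (TopCat.Presheaf.stalkFunctor A x).obj G'.obj ⟶ M,
      adjS.homEquiv G M ((TopCat.Presheaf.stalkFunctor A x).map f.hom ≫ g) =
        f ≫ adjS.homEquiv G' M g := fun g =>
    Adjunction.homEquiv_naturality_left adjS f g
  constructor
  · intro g g' hg
    apply (adjS.homEquiv G' M).injective
    apply (h M).1
    change f ≫ adjS.homEquiv G' M g = f ≫ adjS.homEquiv G' M g'
    rw [← key, ← key]
    exact congrArg _ hg
  · intro ψ
    obtain ⟨g, hg⟩ := (h M).2 (adjS.homEquiv G M ψ)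
    refine ⟨(adjS.homEquiv G' M).symm g, ?_⟩
    apply (adjS.homEquiv G M).injective
    change adjS.homEquiv G M ((TopCat.Presheaf.stalkFunctor A x).map f.hom ≫ _) = _
    rw [key, Equiv.apply_symm_apply]
    exact hg

end stalkiso

section partC
variable {Z X : TopCat.{u}} (i : Z ⟶ X)

open Classical in
lemma isIso_unit_of_stalks (hi : Topology.IsClosedEmbedding i)
    (F : TopCat.Sheaf AddCommGrpCat.{u} X)
    (hF : ∀ x : X, x ∉ Set.range i → IsZero (TopCat.Presheaf.stalk F.obj x)) :
    IsIso ((TopCat.Sheaf.pullbackPushforwardAdjunction AddCommGrpCat.{u} i).unit.app F) := by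
  have := push_full AddCommGrpCat.{u} (i := i) hi.toIsInducing
  have := push_faithful AddCommGrpCat.{u} (i := i) hi.toIsInducing
  let adj := TopCat.Sheaf.pullbackPushforwardAdjunction AddCommGrpCat.{u} i
  have : ∀ x : X, IsIso ((TopCat.Presheaf.stalkFunctor AddCommGrpCat.{u} x).map
      (adj.unit.app F).hom) := by
    intro x
    by_cases hx : x ∈ Set.range i
    · obtain ⟨z, rfl⟩ := hx
      apply isIso_stalk_of_sky_bijective
      intro M
      exact unit_precomp_bijective' adj F (skyscraperSheaf z M) _ (skyIso i z M)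
    · -- both zero
      have h1 : IsZero (TopCat.Presheaf.stalk F.obj x) := hF x hx
      have h2 := isZero_stalk_push i hi ((TopCat.Sheaf.pullback _ i).obj F) x hx
      exact ⟨⟨0, h1.eq_of_src _ _, h2.eq_of_src _ _⟩⟩
  exact TopCat.Presheaf.isIso_of_stalkFunctor_map_iso (adj.unit.app F)

lemma essImage_push_iff (hi : Topology.IsClosedEmbedding i)
    (F : TopCat.Sheaf AddCommGrpCat.{u} X) :
    (TopCat.Sheaf.pushforward AddCommGrpCat.{u} i).essImage F ↔
      ∀ x : X, x ∉ Set.range i → IsZero (TopCat.Presheaf.stalk F.obj x) := by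
  constructor
  · rintro ⟨G, ⟨e⟩⟩ x hx
    refine (isZero_stalk_push i hi G x hx).of_iso ?_
    exact ((TopCat.Sheaf.forget _ X ⋙ TopCat.Presheaf.stalkFunctor AddCommGrpCat.{u} x).mapIso e).symm
  · intro hF
    have := isIso_unit_of_stalks i hi F hF
    exact ⟨_, ⟨(asIso ((TopCat.Sheaf.pullbackPushforwardAdjunction AddCommGrpCat.{u} i).unit.app F)).symm⟩⟩

end partC

section abstract
variable {C : Type*} [Category C] {D : Type*} [Category D] {L : C ⥤ D} {R : D ⥤ C}
  (adj : L ⊣ R)

/-- abstract injectivity transfer -/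
lemma injective_L_of [R.Full] [R.Faithful] [R.PreservesMonomorphisms] (I K : C) [Injective I]
    (ι : K ⟶ I) [Mono ι] [IsIso (adj.unit.app K)]
    (hfac : ∀ (B : D) (h : R.obj B ⟶ I), ∃ h' : R.obj B ⟶ K, h' ≫ ι = h) :
    Injective (L.obj K) where
  factors {A B} g m _ := by
    obtain ⟨h', hh'⟩ := Injective.factors (R.map g ≫ inv (adj.unit.app K) ≫ ι) (R.map m)
    obtain ⟨h'', hh''⟩ := hfac B h'
    obtain ⟨h, hh⟩ := R.map_surjective (h'' ≫ adj.unit.app K)
    refine ⟨h, R.map_injective ?_⟩
    rw [R.map_comp, hh]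
    have e1 : (R.map m ≫ h'') ≫ ι = (R.map g ≫ inv (adj.unit.app K)) ≫ ι := by
      rw [Category.assoc, hh'', hh', Category.assoc]
    have e2 := (cancel_mono ι).1 e1
    rw [← Category.assoc, e2, Category.assoc, IsIso.inv_hom_id, Category.comp_id]

end abstract

section stalkunit
variable {Z X : TopCat.{u}} (i : Z ⟶ X)

open Classical in
/-- for an inducing map `i`, the unit `F ⟶ i_* i⁻¹ F` is an isomorphism on stalks at points
of the range of `i` -/
lemma isIso_stalk_unit_of_isInducing (hi : Topology.IsInducing i)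
    (F : TopCat.Sheaf AddCommGrpCat.{u} X) (z : Z) :
    IsIso ((TopCat.Presheaf.stalkFunctor AddCommGrpCat.{u} (i z)).map
      ((TopCat.Sheaf.pullbackPushforwardAdjunction AddCommGrpCat.{u} i).unit.app F).hom) := by
  have := push_full AddCommGrpCat.{u} (i := i) hi
  have := push_faithful AddCommGrpCat.{u} (i := i) hi
  apply isIso_stalk_of_sky_bijective
  intro M
  exact unit_precomp_bijective' (TopCat.Sheaf.pullbackPushforwardAdjunction AddCommGrpCat.{u} i)
    F (skyscraperSheaf z M) _ (skyIso i z M)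

/-- the kernel of the unit `F ⟶ j_* j⁻¹ F` has zero stalks on the range of an inducing `j` -/
lemma isZero_stalk_kernel_unit (hi : Topology.IsInducing i)
    (F : TopCat.Sheaf AddCommGrpCat.{u} X) (z : Z) :
    IsZero (TopCat.Presheaf.stalk
      (kernel ((TopCat.Sheaf.pullbackPushforwardAdjunction AddCommGrpCat.{u} i).unit.app F)).obj
      (i z)) := by
  set un := (TopCat.Sheaf.pullbackPushforwardAdjunction AddCommGrpCat.{u} i).unit.app F with hun
  have h1 : Mono ((TopCat.Presheaf.stalkFunctor AddCommGrpCat.{u} (i z)).map (kernel.ι un).hom) :=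
    TopCat.Presheaf.stalk_mono_of_mono (kernel.ι un) (i z)
  have h2 := isIso_stalk_unit_of_isInducing i hi F z
  have h3 : (TopCat.Presheaf.stalkFunctor AddCommGrpCat.{u} (i z)).map (kernel.ι un).hom ≫
      (TopCat.Presheaf.stalkFunctor AddCommGrpCat.{u} (i z)).map un.hom = 0 := by
    rw [← Functor.map_comp]
    have : (kernel.ι un).hom ≫ un.hom = 0 := by
      have := congrArg (fun f => f.hom) (kernel.condition un)
      exact this
    rw [this, Functor.map_zero]
  have h4 : (TopCat.Presheaf.stalkFunctor AddCommGrpCat.{u} (i z)).map (kernel.ι un).hom = 0 := by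
    have := h3
    rw [← cancel_mono ((TopCat.Presheaf.stalkFunctor AddCommGrpCat.{u} (i z)).map un.hom)]
    rw [this, zero_comp]
  exact @IsZero.of_mono_eq_zero _ _ _ _ _ _ h1 h4

end stalkunit

section vanish
variable {Y Z X : TopCat.{u}} (j : Y ⟶ X) (i : Z ⟶ X)

/-- maps from `i_* B` to `j_* H` vanish when `j` has open range disjoint from the range of `i` -/
lemma hom_push_push_eq_zero (hj : IsOpen (Set.range j)) (hd : Disjoint (Set.range i) (Set.range j))
    (B : TopCat.Sheaf AddCommGrpCat.{u} Z) (H : TopCat.Sheaf AddCommGrpCat.{u} Y)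
    (φ : (TopCat.Sheaf.pushforward AddCommGrpCat.{u} i).obj B ⟶
      (TopCat.Sheaf.pushforward AddCommGrpCat.{u} j).obj H) : φ = 0 := by
  apply Sheaf.hom_ext
  ext V : 2
  induction V using Opposite.rec with | _ V => ?_
  let R : Opens X := ⟨Set.range j, hj⟩
  have hle : V ⊓ R ≤ V := inf_le_left
  have hbot : (Opens.map i).obj (V ⊓ R) = ⊥ := by
    apply le_antisymm _ bot_le
    intro z hz
    exact (Set.disjoint_left.1 hd ⟨z, rfl⟩ hz.2).elim
  have hge : (Opens.map j).obj V ≤ (Opens.map j).obj (V ⊓ R) := by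
    intro y hy
    exact ⟨hy, ⟨y, rfl⟩⟩
  have nat := φ.hom.naturality (homOfLE hle).op
  have hT : IsTerminal (B.obj.obj (op ((Opens.map i).obj (V ⊓ R)))) := B.isTerminalOfEqEmpty hbot
  have hZ : IsZero (B.obj.obj (op ((Opens.map i).obj (V ⊓ R)))) :=
    (isZero_zero _).of_iso (hT.uniqueUpToIso (isZero_zero _).isTerminal)
  have h0 : φ.hom.app (op (V ⊓ R)) = 0 := hZ.eq_of_src _ _
  rw [h0, comp_zero] at nat
  -- the restriction map of `j_* H` is invertible
  have hinv : ((TopCat.Sheaf.pushforward AddCommGrpCat.{u} j).obj H).obj.map (homOfLE hle).op ≫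
      H.obj.map (homOfLE hge).op = 𝟙 _ := by
    change H.obj.map _ ≫ H.obj.map _ = 𝟙 _
    rw [← H.obj.map_comp]
    have : ((Opens.map j).op.map (homOfLE hle).op) ≫ (homOfLE hge).op = 𝟙 _ := Subsingleton.elim _ _
    erw [this, H.obj.map_id]
  have : φ.hom.app (op V) = φ.hom.app (op V) ≫
      (((TopCat.Sheaf.pushforward AddCommGrpCat.{u} j).obj H).obj.map (homOfLE hle).op ≫
      H.obj.map (homOfLE hge).op) := by
    rw [hinv]; exact (Category.comp_id _).symm
  rw [this, ← Category.assoc, ← nat, zero_comp]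
  rfl

end vanish

section final
variable {Y Z X : TopCat.{u}} (j : Y ⟶ X) (i : Z ⟶ X)

/-- `H_Z(I)` is injective for injective `I` -/
theorem injective_pull_kernel_unit (hj : Topology.IsOpenEmbedding j)
    (hi : Topology.IsClosedEmbedding i) (hc : Set.range i = (Set.range j)ᶜ)
    (I : TopCat.Sheaf AddCommGrpCat.{u} X) [Injective I] :
    Injective ((TopCat.Sheaf.pullback AddCommGrpCat.{u} i).obj
      (kernel ((TopCat.Sheaf.pullbackPushforwardAdjunction AddCommGrpCat.{u} j).unit.app I))) := by
  have hfull := push_full AddCommGrpCat.{u} (i := i) hi.toIsInducing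
  have hfaith := push_faithful AddCommGrpCat.{u} (i := i) hi.toIsInducing
  have hK : ∀ x : X, x ∉ Set.range i → IsZero (TopCat.Presheaf.stalk
      (kernel ((TopCat.Sheaf.pullbackPushforwardAdjunction AddCommGrpCat.{u} j).unit.app I)).obj
        x) := by
    intro x hx
    rw [hc] at hx
    obtain ⟨y, rfl⟩ := not_not.1 hx
    exact isZero_stalk_kernel_unit j hj.toIsInducing I y
  have hiso := isIso_unit_of_stalks i hi _ hK
  have hmono : (TopCat.Sheaf.pushforward AddCommGrpCat.{u} i).PreservesMonomorphisms :=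
    inferInstance
  apply injective_L_of (TopCat.Sheaf.pullbackPushforwardAdjunction AddCommGrpCat.{u} i) I
    (kernel ((TopCat.Sheaf.pullbackPushforwardAdjunction AddCommGrpCat.{u} j).unit.app I))
    (kernel.ι _)
  intro B h
  have h0 : h ≫ (TopCat.Sheaf.pullbackPushforwardAdjunction AddCommGrpCat.{u} j).unit.app I = 0 :=
    hom_push_push_eq_zero j i hj.isOpen_range (by rw [hc]; exact disjoint_compl_left) B _ _
  exact ⟨kernel.lift _ h h0, kernel.lift_ι _ _ _⟩

end final

section partE
variable {Y Z X : TopCat.{u}} (j : Y ⟶ X) (i : Z ⟶ X)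

/-- the kernel of `F ⟶ j_* j⁻¹ F` is supported on the closed complement: the unit of `i⁻¹ ⊣ i_*`
is an isomorphism on it -/
theorem isIso_unit_kernel_unit (hj : Topology.IsInducing j)
    (hi : Topology.IsClosedEmbedding i) (hc : Set.range i = (Set.range j)ᶜ)
    (F : TopCat.Sheaf AddCommGrpCat.{u} X) :
    IsIso ((TopCat.Sheaf.pullbackPushforwardAdjunction AddCommGrpCat.{u} i).unit.app
      (kernel ((TopCat.Sheaf.pullbackPushforwardAdjunction AddCommGrpCat.{u} j).unit.app F))) := by
  apply isIso_unit_of_stalks i hi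
  intro x hx
  rw [hc] at hx
  obtain ⟨y, rfl⟩ := not_not.1 hx
  exact isZero_stalk_kernel_unit j hj F y

/-- `Γ_Z(I) = ker(I ⟶ j_* j⁻¹ I)` is injective for injective `I` -/
theorem injective_kernel_unit (hj : Topology.IsOpenEmbedding j)
    (hi : Topology.IsClosedEmbedding i) (hc : Set.range i = (Set.range j)ᶜ)
    [(TopCat.Sheaf.pullback AddCommGrpCat.{u} i).PreservesMonomorphisms]
    (I : TopCat.Sheaf AddCommGrpCat.{u} X) [Injective I] :
    Injective (kernel ((TopCat.Sheaf.pullbackPushforwardAdjunction AddCommGrpCat.{u} j).unit.app I)) := by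
  have h1 := injective_pull_kernel_unit j i hj hi hc I
  have h2 := isIso_unit_kernel_unit j i hj.toIsInducing hi hc I
  have h3 := Injective.injective_of_adjoint
    (TopCat.Sheaf.pullbackPushforwardAdjunction AddCommGrpCat.{u} i) ((TopCat.Sheaf.pullback AddCommGrpCat.{u} i).obj
      (kernel ((TopCat.Sheaf.pullbackPushforwardAdjunction AddCommGrpCat.{u} j).unit.app I)))
  exact Injective.of_iso (asIso ((TopCat.Sheaf.pullbackPushforwardAdjunction AddCommGrpCat.{u} i).unit.app
      (kernel ((TopCat.Sheaf.pullbackPushforwardAdjunction AddCommGrpCat.{u} j).unit.app I)))).symm h3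

end partE




end Groth.Agent.Lib.Helper26.ClosedEmbSh
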