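import Mathlib

/-!
# `Ext(P, -)`-acyclic objects in an abelian category

`Acyc P A` : `Ext^{j+1}(P, A) = 0` for all `j`.  Two-out-of-three along short exact sequences,
lifting of `Ext^0` classes, and a four term exact sequence `0 → A → B → C → D → 0`.
-/

set_option autoImplicit false
universe w v u

open CategoryTheory Limits Abelian

namespace Groth.Agent.Lib.Helper26.AcycExt

variable {C : Type u} [Category.{v} C] [Abelian C] [HasExt.{w} C] (P : C)

/-- all higher `Ext(P, -)` vanish -/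
def Acyc (A : C) : Prop := ∀ j : ℕ, Subsingleton (Ext.{w} P A (j + 1))

variable {P}

lemma subsingleton_of_iso {A B : C} (e : A ≅ B) (n : ℕ) (h : Subsingleton (Ext.{w} P A n)) :
    Subsingleton (Ext.{w} P B n) := by
  refine ⟨fun x y => ?_⟩
  have hx : ∀ z : Ext.{w} P B n,
      z = (z.comp (Ext.mk₀ e.inv) (add_zero _)).comp (Ext.mk₀ e.hom) (add_zero _) := by
    intro z
    rw [Ext.comp_assoc_of_third_deg_zero, Ext.mk₀_comp_mk₀, e.inv_hom_id, Ext.comp_mk₀_id]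
  rw [hx x, hx y, h.elim (x.comp (Ext.mk₀ e.inv) (add_zero _)) (y.comp (Ext.mk₀ e.inv) (add_zero _))]

lemma Acyc.of_iso {A B : C} (e : A ≅ B) (h : Acyc P A) : Acyc P B :=
  fun j => subsingleton_of_iso e (j + 1) (h j)

lemma subsingleton_of_isZero {A : C} (h : IsZero A) (n : ℕ) : Subsingleton (Ext.{w} P A n) := by
  refine ⟨fun x y => ?_⟩
  have hx : ∀ z : Ext.{w} P A n, z = 0 := by
    intro z
    rw [← Ext.comp_mk₀_id z, h.eq_of_src (𝟙 A) 0, Ext.mk₀_zero, Ext.comp_zero]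
  rw [hx x, hx y]

lemma acyc_of_isZero {A : C} (h : IsZero A) : Acyc P A :=
  fun j => subsingleton_of_isZero h (j + 1)

section ses

variable {S : ShortComplex C} (hS : S.ShortExact)
include hS

lemma subsingleton_X₃ (n : ℕ) (h₂ : Subsingleton (Ext.{w} P S.X₂ n))
    (h₁ : Subsingleton (Ext.{w} P S.X₁ (n + 1))) : Subsingleton (Ext.{w} P S.X₃ n) := by
  refine ⟨fun x y => ?_⟩
  have hx : ∀ z : Ext.{w} P S.X₃ n, z = 0 := by
    intro z
    obtain ⟨x₂, hx₂⟩ := Ext.covariant_sequence_exact₃ P hS z rfl (h₁.elim _ _)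
    rw [← hx₂, h₂.elim x₂ 0, Ext.zero_comp]
  rw [hx x, hx y]

lemma subsingleton_X₂ (n : ℕ) (h₁ : Subsingleton (Ext.{w} P S.X₁ n))
    (h₃ : Subsingleton (Ext.{w} P S.X₃ n)) : Subsingleton (Ext.{w} P S.X₂ n) := by
  refine ⟨fun x y => ?_⟩
  have hx : ∀ z : Ext.{w} P S.X₂ n, z = 0 := by
    intro z
    obtain ⟨x₁, hx₁⟩ := Ext.covariant_sequence_exact₂ P hS z (h₃.elim _ _)
    rw [← hx₁, h₁.elim x₁ 0, Ext.zero_comp]
  rw [hx x, hx y]

lemma acyc_X₃ (h₁ : Acyc P S.X₁) (h₂ : Acyc P S.X₂) : Acyc P S.X₃ :=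
  fun j => subsingleton_X₃ hS (j + 1) (h₂ j) (h₁ (j + 1))

lemma acyc_X₂ (h₁ : Acyc P S.X₁) (h₃ : Acyc P S.X₃) : Acyc P S.X₂ :=
  fun j => subsingleton_X₂ hS (j + 1) (h₁ j) (h₃ j)

lemma exists_lift₀ (h : Subsingleton (Ext.{w} P S.X₁ 1)) (x₃ : Ext.{w} P S.X₃ 0) :
    ∃ x₂ : Ext.{w} P S.X₂ 0, x₂.comp (Ext.mk₀ S.g) (add_zero 0) = x₃ :=
  Ext.covariant_sequence_exact₃ P hS x₃ rfl (h.elim _ _)

end ses

section four

variable {A B C' D : C} (a : A ⟶ B) (b : B ⟶ C') (c : C' ⟶ D) [Mono a] [Epi c]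
  (wab : a ≫ b = 0) (wbc : b ≫ c = 0)
  (hab : (ShortComplex.mk a b wab).Exact) (hbc : (ShortComplex.mk b c wbc).Exact)

/-- the short complex `A → B → ker c` -/
noncomputable abbrev sc₁ : ShortComplex C :=
  ShortComplex.mk a (kernel.lift c b wbc) (by
    rw [← cancel_mono (kernel.ι c), Category.assoc, kernel.lift_ι, zero_comp, wab])

/-- the short complex `ker c → C' → D` -/
noncomputable abbrev sc₂ : ShortComplex C :=
  ShortComplex.mk (kernel.ι c) c (kernel.condition c)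

include hab hbc in
lemma sc₁_shortExact : (sc₁ a b c wab wbc).ShortExact := by
  have hepi : Epi (kernel.lift c b wbc) := hbc.epi_kernelLift
  refine ShortComplex.ShortExact.mk' ?_ inferInstance hepi
  let φ : sc₁ a b c wab wbc ⟶ ShortComplex.mk a b wab :=
    { τ₁ := 𝟙 _
      τ₂ := 𝟙 _
      τ₃ := kernel.ι c
      comm₁₂ := by simp
      comm₂₃ := by simp }
  have : Epi φ.τ₁ := by dsimp [φ]; infer_instance
  have : IsIso φ.τ₂ := by dsimp [φ]; infer_instance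
  have : Mono φ.τ₃ := by dsimp [φ]; infer_instance
  exact (ShortComplex.exact_iff_of_epi_of_isIso_of_mono φ).2 hab

lemma sc₂_shortExact : (sc₂ c).ShortExact :=
  ShortComplex.ShortExact.mk' (ShortComplex.exact_of_f_is_kernel _ (kernelIsKernel c))
    inferInstance inferInstance

include hab hbc in
lemma four_term_acyc (hA : Acyc P A) (hB : Acyc P B) (hD : Acyc P D) : Acyc P C' := by
  have hK : Acyc P (kernel c) := acyc_X₃ (sc₁_shortExact a b c wab wbc hab hbc) hA hB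
  exact acyc_X₂ (sc₂_shortExact c) hK hD

include hab hbc in
lemma four_term_surj (hA2 : Subsingleton (Ext.{w} P A 2)) (hB1 : Subsingleton (Ext.{w} P B 1))
    (d : Ext.{w} P D 0) : ∃ t : Ext.{w} P C' 0, t.comp (Ext.mk₀ c) (add_zero 0) = d := by
  have hK : Subsingleton (Ext.{w} P (kernel c) 1) :=
    subsingleton_X₃ (sc₁_shortExact a b c wab wbc hab hbc) 1 hB1 hA2
  exact exists_lift₀ (sc₂_shortExact c) hK d

include hab hbc in
lemma four_term_exact (hA1 : Subsingleton (Ext.{w} P A 1)) (t : Ext.{w} P C' 0)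
    (ht : t.comp (Ext.mk₀ c) (add_zero 0) = 0) :
    ∃ s : Ext.{w} P B 0, s.comp (Ext.mk₀ b) (add_zero 0) = t := by
  obtain ⟨x₁, hx₁⟩ := Ext.covariant_sequence_exact₂ P (sc₂_shortExact c) t ht
  obtain ⟨s, hs⟩ := exists_lift₀ (sc₁_shortExact a b c wab wbc hab hbc) hA1 x₁
  refine ⟨s, ?_⟩
  rw [← hx₁, ← hs, Ext.comp_assoc_of_third_deg_zero, Ext.mk₀_comp_mk₀]
  simp

end four

end Groth.Agent.Lib.Helper26.AcycExt
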