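import Groth.Prelude.Def_W4stkadequateTF
import Mathlib.Tactic
import Mathlib.Algebra.Homology.ShortComplex.ModuleCat
import Mathlib.Algebra.Homology.ShortComplex.ExactFunctor

set_option autoImplicit false
set_option maxHeartbeats 4000000
set_option synthInstance.maxHeartbeats 400000
set_option backward.isDefEq.respectTransparency.types false

universe u v v₁ u₁
open CategoryTheory Limits
open AdeqTF

namespace Groth.Agent.Lib.Helper26.AdeqTF

section gen
variable {C : Type u₁} [Category.{v₁} C] {R : Cᵒᵖ ⥤ RingCat.{u}}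

theorem gen_exact (S : ShortComplex (PresheafOfModules.{v} R)) (hS : S.ShortExact) (X : Cᵒᵖ)
    (y : S.X₂.obj X) (hy : S.g.app X y = 0) : ∃ x : S.X₁.obj X, S.f.app X x = y := by
  have h1 : (S.map (PresheafOfModules.evaluation R X)).Exact := hS.exact.map _
  rw [ShortComplex.moduleCat_exact_iff] at h1
  exact h1 y hy

theorem gen_inj (S : ShortComplex (PresheafOfModules.{v} R)) (hS : S.ShortExact) (X : Cᵒᵖ) :
    Function.Injective (S.f.app X) := by
  have := hS.mono_f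
  exact PresheafOfModules.injective_of_mono S.f X

theorem gen_surj (S : ShortComplex (PresheafOfModules.{v} R)) (hS : S.ShortExact) (X : Cᵒᵖ) :
    Function.Surjective (S.g.app X) := by
  have := hS.epi_g
  exact PresheafOfModules.surjective_of_epi S.g X

theorem gen_zero (S : ShortComplex (PresheafOfModules.{v} R)) (X : Cᵒᵖ) (x : S.X₁.obj X) :
    S.g.app X (S.f.app X x) = 0 := by
  have h := S.zero
  have h2 : (S.f ≫ S.g).app X x = 0 := by rw [h]; rfl
  exact h2

end gen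

variable {A : Type u} [CommRing A]

noncomputable def fm (F : Adeq.MVF A) {B B' : Adeq.Alg A} (f : B ⟶ B') :
    F.obj (Adeq.pt B) →+ F.obj (Adeq.pt B') :=
  (F.presheaf.map (Adeq.ptHom f)).hom

theorem fm_id (F : Adeq.MVF A) (B : Adeq.Alg A) (x : F.obj (Adeq.pt B)) : fm F (𝟙 B) x = x := by
  have : Adeq.ptHom (𝟙 B) = 𝟙 (Adeq.pt B) := rfl
  unfold fm
  rw [this, F.presheaf.map_id]
  rfl

theorem fm_comp (F : Adeq.MVF A) {B B' B'' : Adeq.Alg A} (f : B ⟶ B') (g : B' ⟶ B'')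
    (x : F.obj (Adeq.pt B)) : fm F (f ≫ g) x = fm F g (fm F f x) := by
  have : Adeq.ptHom (f ≫ g) = Adeq.ptHom f ≫ Adeq.ptHom g := rfl
  unfold fm
  rw [this, F.presheaf.map_comp]
  rfl

noncomputable def ap {F G : Adeq.MVF A} (φ : F ⟶ G) (B : Adeq.Alg A) :
    F.obj (Adeq.pt B) →+ G.obj (Adeq.pt B) :=
  (φ.app (Adeq.pt B)).hom.toAddMonoidHom

theorem ap_fm {F G : Adeq.MVF A} (φ : F ⟶ G) {B B' : Adeq.Alg A} (f : B ⟶ B')
    (x : F.obj (Adeq.pt B)) : ap φ B' (fm F f x) = fm G f (ap φ B x) :=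
  PresheafOfModules.naturality_apply φ (Adeq.ptHom f) x

theorem ap_inj (C : ShortComplex (Adeq.MVF A)) (hC : C.ShortExact) (B : Adeq.Alg A) :
    Function.Injective (ap C.f B) := gen_inj C hC (Adeq.pt B)

theorem ap_surj (C : ShortComplex (Adeq.MVF A)) (hC : C.ShortExact) (B : Adeq.Alg A) :
    Function.Surjective (ap C.g B) := gen_surj C hC (Adeq.pt B)

theorem ap_exact (C : ShortComplex (Adeq.MVF A)) (hC : C.ShortExact) (B : Adeq.Alg A)
    (y : C.X₂.obj (Adeq.pt B)) (hy : ap C.g B y = 0) : ∃ x, ap C.f B x = y :=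
  gen_exact C hC (Adeq.pt B) y hy

theorem ap_zero (C : ShortComplex (Adeq.MVF A)) (B : Adeq.Alg A) (x : C.X₁.obj (Adeq.pt B)) :
    ap C.g B (ap C.f B x) = 0 := gen_zero C (Adeq.pt B) x

variable (B : Adeq.Alg A)

theorem map_id' (N : ModuleCat.{u} B) : AdeqTF.map B (𝟙 N) = 𝟙 (ext B N) := by
  apply CommAlgCat.hom_ext
  refine AlgHom.ext fun x => ?_
  show TrivSqZeroExt.map (𝟙 N : N ⟶ N).hom x = x
  rw [ModuleCat.hom_id, TrivSqZeroExt.map_id]
  rfl

theorem map_comp' {N N' N'' : ModuleCat.{u} B} (g : N ⟶ N') (h : N' ⟶ N'') :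
    AdeqTF.map B (g ≫ h) = AdeqTF.map B g ≫ AdeqTF.map B h := by
  apply CommAlgCat.hom_ext
  refine AlgHom.ext fun x => ?_
  show TrivSqZeroExt.map (g ≫ h).hom x = TrivSqZeroExt.map h.hom (TrivSqZeroExt.map g.hom x)
  rw [ModuleCat.hom_comp, TrivSqZeroExt.map_comp_map]
  rfl

theorem map_zero' (N N' : ModuleCat.{u} B) :
    AdeqTF.map B (0 : N ⟶ N') = AdeqTF.fst B N ≫ AdeqTF.inl B N' := by
  apply CommAlgCat.hom_ext
  refine AlgHom.ext fun x => ?_
  show TrivSqZeroExt.map (0 : N ⟶ N').hom x = TrivSqZeroExt.inl (TrivSqZeroExt.fst x)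
  ext
  · simp
  · simp

theorem inl_fst (N : ModuleCat.{u} B) : AdeqTF.inl B N ≫ AdeqTF.fst B N = 𝟙 B := by
  apply CommAlgCat.hom_ext
  refine AlgHom.ext fun x => ?_
  show TrivSqZeroExt.fst (TrivSqZeroExt.inl x : TrivSqZeroExt (B : Type u) N) = x
  simp

theorem inl_map {N N' : ModuleCat.{u} B} (g : N ⟶ N') :
    AdeqTF.inl B N ≫ AdeqTF.map B g = AdeqTF.inl B N' := by
  apply CommAlgCat.hom_ext
  refine AlgHom.ext fun x => ?_
  show TrivSqZeroExt.map g.hom (TrivSqZeroExt.inl x) = TrivSqZeroExt.inl x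
  simp

theorem mem_tangent (F : Adeq.MVF A) (N : ModuleCat.{u} B) (x : F.obj (Adeq.pt (ext B N))) :
    x ∈ tangent B N F ↔ fm F (fst B N) x = 0 := Iff.rfl

theorem tangentMap_coe (F : Adeq.MVF A) {N N' : ModuleCat.{u} B} (g : N ⟶ N')
    (x : tangent B N F) :
    ((tangentMap B F g x : tangent B N' F) : F.obj (Adeq.pt (ext B N'))) =
      fm F (AdeqTF.map B g) x.1 :=
  rfl

theorem tangentMap_id (F : Adeq.MVF A) (N : ModuleCat.{u} B) (x : tangent B N F) :
    tangentMap B F (𝟙 N) x = x := by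
  apply Subtype.ext
  rw [tangentMap_coe, map_id', fm_id]

theorem tangentMap_comp (F : Adeq.MVF A) {N N' N'' : ModuleCat.{u} B} (g : N ⟶ N') (h : N' ⟶ N'')
    (x : tangent B N F) :
    tangentMap B F (g ≫ h) x = tangentMap B F h (tangentMap B F g x) := by
  apply Subtype.ext
  rw [tangentMap_coe, tangentMap_coe, tangentMap_coe, map_comp', fm_comp]

theorem tangentMap_zero (F : Adeq.MVF A) (N N' : ModuleCat.{u} B) (x : tangent B N F) :
    tangentMap B F (0 : N ⟶ N') x = 0 := by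
  apply Subtype.ext
  rw [tangentMap_coe, map_zero', fm_comp, (mem_tangent B F N x.1).1 x.2, map_zero]
  rfl

noncomputable def tnat {F G : Adeq.MVF A} (φ : F ⟶ G) (N : ModuleCat.{u} B) :
    tangent B N F →+ tangent B N G :=
  ((ap φ (ext B N)).comp (tangent B N F).subtype).codRestrict (tangent B N G)
    (fun x => by
      rw [mem_tangent]
      show fm G (fst B N) (ap φ (ext B N) x.1) = 0
      rw [← ap_fm, (mem_tangent B F N x.1).1 x.2, map_zero])

theorem tnat_coe {F G : Adeq.MVF A} (φ : F ⟶ G) (N : ModuleCat.{u} B) (x : tangent B N F) :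
    ((tnat B φ N x : tangent B N G) : G.obj (Adeq.pt (ext B N))) = ap φ (ext B N) x.1 := rfl

theorem tnat_tangentMap {F G : Adeq.MVF A} (φ : F ⟶ G) {N N' : ModuleCat.{u} B} (g : N ⟶ N')
    (x : tangent B N F) :
    tnat B φ N' (tangentMap B F g x) = tangentMap B G g (tnat B φ N x) := by
  apply Subtype.ext
  rw [tnat_coe, tangentMap_coe, tangentMap_coe, tnat_coe, ap_fm]

theorem tnat_inj (C : ShortComplex (Adeq.MVF A)) (hC : C.ShortExact) (N : ModuleCat.{u} B) :
    Function.Injective (tnat B C.f N) := by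
  intro x y hxy
  apply Subtype.ext
  apply ap_inj C hC (ext B N)
  exact congrArg Subtype.val hxy

theorem tnat_zero (C : ShortComplex (Adeq.MVF A)) (N : ModuleCat.{u} B) (x : tangent B N C.X₁) :
    tnat B C.g N (tnat B C.f N x) = 0 := by
  apply Subtype.ext
  exact ap_zero C (ext B N) x.1

theorem tnat_exact (C : ShortComplex (Adeq.MVF A)) (hC : C.ShortExact) (N : ModuleCat.{u} B)
    (y : tangent B N C.X₂) (hy : tnat B C.g N y = 0) : ∃ x, tnat B C.f N x = y := by
  obtain ⟨x, hx⟩ := ap_exact C hC (ext B N) y.1 (congrArg Subtype.val hy)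
  have hxT : x ∈ tangent B N C.X₁ := by
    rw [mem_tangent]
    apply ap_inj C hC B
    rw [ap_fm, hx, (mem_tangent B C.X₂ N y.1).1 y.2, map_zero]
  exact ⟨⟨x, hxT⟩, Subtype.ext hx⟩

theorem tnat_surj (C : ShortComplex (Adeq.MVF A)) (hC : C.ShortExact) (N : ModuleCat.{u} B) :
    Function.Surjective (tnat B C.g N) := by
  intro z
  obtain ⟨y, hy⟩ := ap_surj C hC (ext B N) z.1
  have hz : fm C.X₃ (fst B N) z.1 = 0 := (mem_tangent B C.X₃ N z.1).1 z.2
  have hy'T : y - fm C.X₂ (inl B N) (fm C.X₂ (fst B N) y) ∈ tangent B N C.X₂ := by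
    rw [mem_tangent, map_sub, ← fm_comp C.X₂ (inl B N) (fst B N), inl_fst, fm_id, sub_self]
  refine ⟨⟨_, hy'T⟩, Subtype.ext ?_⟩
  rw [tnat_coe]
  show ap C.g (ext B N) (y - fm C.X₂ (inl B N) (fm C.X₂ (fst B N) y)) = z.1
  rw [map_sub, ap_fm, ap_fm, hy, hz, map_zero, sub_zero]

end Groth.Agent.Lib.Helper26.AdeqTF
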