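import Groth.Agent.Lib.Helper28.CechTop
import Groth.Agent.Lib.Helper28.CechTop2
import Groth.Agent.Lib.Helper53.Flasque
import Groth.Agent.Lib.Helper53.HomCx

/-!
# Čech cohomology vanishes for sheaves which are acyclic on all finite intersections

If `H^{q+1}(V, F) = 0` for all `q` and all `V` in a class `𝒞` of opens containing the finite
intersections of the members of a family `W` and its union, then the Čech cohomology of `F` with
respect to `W` vanishes in positive degrees (built on helper28's topological Čech engine).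
-/

universe u

open CategoryTheory TopologicalSpace Opposite CategoryTheory.Limits

namespace Groth.Agent.Lib.Helper26.CechVanish

open Groth.Agent.Lib.Helper53 Groth.Agent.Lib.Helper28

variable {X : TopCat.{u}}

open Abelian in
/-- sections of the quotient lift over `V` if `H^1(V, kernel) = 0` -/
theorem surjective_g_of_HU {S : ShortComplex (CohTop.Ab X)} (hS : S.ShortExact) (V : Opens X)
    (h : Subsingleton (CohTop.HU S.X₁ 1 V)) : Function.Surjective (S.g.hom.app (op V)) := by
  intro s
  obtain ⟨g, hg⟩ := HomCx.exists_lift_of_ext_one_eq_zero hS (freeSheaf V)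
    (fun x => @Subsingleton.elim (CohTop.HU S.X₁ 1 V) h x 0) ((freeSheafHomEquiv V S.X₃).symm s)
  refine ⟨freeSheafHomEquiv V S.X₂ g, ?_⟩
  rw [← freeSheafHomEquiv_naturality_right, hg, Equiv.apply_symm_apply]

open Abelian in
/-- dimension shifting along `0 → F → I → Q → 0` with `I` injective -/
theorem subsingleton_HU_injSeq_X₃ (F : CohTop.Ab X) (V : Opens X) (q : ℕ)
    (h : Subsingleton (CohTop.HU F (q + 2) V)) :
    Subsingleton (CohTop.HU (injSeq F).X₃ (q + 1) V) := by
  refine ⟨fun a b => ?_⟩
  suffices h0 : ∀ y : Ext (freeSheaf V) (injSeq F).X₃ (q + 1), y = 0 from (h0 a).trans (h0 b).symm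
  intro y
  have h1 : y.comp (injSeq_shortExact F).extClass (rfl : q + 1 + 1 = q + 2) = 0 :=
    @Subsingleton.elim (CohTop.HU F (q + 2) V) h _ _
  obtain ⟨x₂, rfl⟩ := Ext.covariant_sequence_exact₃ (freeSheaf V) (injSeq_shortExact F) y rfl h1
  rw [Ext.eq_zero_of_injective x₂, Ext.zero_comp]

/-- Čech cohomology of `F` for the family `W` vanishes in positive degrees, if `F` is acyclic on
a class of opens containing the finite intersections of members of `W` and the union of `W`. -/
theorem isZero_cechH_succ {κ : Type u} (W : κ → Opens X) (𝒞 : Set (Opens X))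
    (hinf : ∀ (n : ℕ) (a : Fin (n + 1) → κ), (iInf fun k => W (a k)) ∈ 𝒞) (hsup : iSup W ∈ 𝒞)
    (p : ℕ) : ∀ (F : CohTop.Ab X),
      (∀ V ∈ 𝒞, ∀ q : ℕ, Subsingleton (CohTop.HU F (q + 1) V)) →
      IsZero (CohTop.cechH F.obj W (p + 1)) := by
  induction p with
  | zero =>
    intro F hF
    exact CechTop.isZero_cechH_one_X₁ (injSeq_shortExact F) W
      (surjective_g_of_HU (injSeq_shortExact F) _ (hF _ hsup 0))
      (CechTop.isZero_cechH_of_injective (injSeq F).X₂ W 0)
  | succ p ih =>
    intro F hF
    exact CechTop.isZero_cechH_X₁ (injSeq_shortExact F) W p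
      (fun a => surjective_g_of_HU (injSeq_shortExact F) _ (hF _ (hinf p a) 0))
      (CechTop.isZero_cechH_of_injective (injSeq F).X₂ W (p + 1))
      (ih (injSeq F).X₃ (fun V hV q => subsingleton_HU_injSeq_X₃ F V q (hF V hV (q + 1))))

end Groth.Agent.Lib.Helper26.CechVanish
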