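import Groth.Prelude.Def_CohTop
import Groth.Agent.Lib.Helper26.CechVanish
import Groth.Agent.Lib.Helper26.MVTop
import Groth.Agent.Lib.Helper53.ExtCompare
import Mathlib.CategoryTheory.Limits.Shapes.ConcreteCategory
import Mathlib.Algebra.Homology.HomologicalComplexAbelian
import Mathlib.Algebra.Homology.HomologySequence
import Mathlib.Algebra.Homology.ShortComplex.Ab
import Mathlib.Algebra.Category.Grp.Limits
import Mathlib.GroupTheory.QuotientGroup.Basic
import Mathlib.Topology.Sheaves.SheafCondition.UniqueGluing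

/-!
# The long exact sequence of Čech cohomology and the Leray comparison

* `cechSC_shortExact`: a short exact sequence of abelian sheaves whose sections over all finite
  intersections of the family are right exact induces a short exact sequence of Čech complexes.
* `augEquiv`: `Ȟ^0(U, G) = G(⋃ U)` for a sheaf `G`, naturally in `G`.
* `leray`: if `F` is acyclic on all finite intersections of the family `U`, then
  `Ȟ^p(U, F) ≃ H^p(⋃ U, F)`.
-/

universe u
open CategoryTheory TopologicalSpace Opposite Limits Simplicial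
open Groth.Agent.Lib.Helper28

namespace Groth.Agent.Lib.Helper26.CechLES



section Pi

variable {J : Type u} {A B C : J → AddCommGrpCat.{u}}

lemma pi_ext {A : J → AddCommGrpCat.{u}} (x y : (∏ᶜ A : AddCommGrpCat.{u}))
    (h : ∀ j, Pi.π A j x = Pi.π A j y) : x = y := by
  apply (Concrete.productEquiv A).injective
  funext j
  rw [Concrete.productEquiv_apply_apply, Concrete.productEquiv_apply_apply]
  exact h j

lemma pi_map_apply (f : ∀ j, A j ⟶ B j) (x : (∏ᶜ A : AddCommGrpCat.{u})) (j : J) :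
    Pi.π B j (Limits.Pi.map f x) = f j (Pi.π A j x) := by
  rw [← ConcreteCategory.comp_apply, ← ConcreteCategory.comp_apply, Limits.Pi.map_π]

lemma pi_exists {A : J → AddCommGrpCat.{u}} (x : ∀ j, A j) :
    ∃ y : (∏ᶜ A : AddCommGrpCat.{u}), ∀ j, Pi.π A j y = x j :=
  ⟨(Concrete.productEquiv A).symm x, fun j => Concrete.productEquiv_symm_apply_π A x j⟩

lemma pi_shortExact (f : ∀ j, A j ⟶ B j) (g : ∀ j, B j ⟶ C j) (w : ∀ j, f j ≫ g j = 0)
    (hf : ∀ j, Function.Injective (f j)) (hg : ∀ j, Function.Surjective (g j))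
    (hfg : ∀ j (y : B j), g j y = 0 → ∃ x, f j x = y) :
    (ShortComplex.mk (Limits.Pi.map f) (Limits.Pi.map g)
      (by rw [Limits.Pi.map_comp_map]; apply Limits.Pi.hom_ext; intro j; simp [w])).ShortExact := by
  refine ShortComplex.ShortExact.mk' ?_ ?_ ?_
  · rw [ShortComplex.ab_exact_iff]
    intro y hy
    change Limits.Pi.map g y = 0 at hy
    have h1 : ∀ j, ∃ x : A j, f j x = Pi.π B j y := by
      intro j
      apply hfg
      rw [← pi_map_apply, hy, map_zero]
    choose x hx using h1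
    obtain ⟨z, hz⟩ := pi_exists x
    refine ⟨z, ?_⟩
    apply pi_ext
    intro j
    change Pi.π B j (Limits.Pi.map f z) = _
    rw [pi_map_apply, hz, hx]
  · rw [AddCommGrpCat.mono_iff_injective, injective_iff_map_eq_zero]
    intro x hx
    change Limits.Pi.map f x = 0 at hx
    apply pi_ext
    intro j
    rw [map_zero]
    apply hf j
    rw [← pi_map_apply, hx, map_zero, map_zero]
  · rw [AddCommGrpCat.epi_iff_surjective]
    intro z
    have h1 : ∀ j, ∃ y : B j, g j y = Pi.π C j z := fun j => hg j _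
    choose y hy using h1
    obtain ⟨t, ht⟩ := pi_exists y
    refine ⟨t, ?_⟩
    apply pi_ext
    intro j
    change Pi.π C j (Limits.Pi.map g t) = _
    rw [pi_map_apply, ht, hy]

end Pi



variable {X : TopCat.{u}} {ι : Type u} (U : ι → Opens X)

lemma cech_map_zero (P Q : (Opens X)ᵒᵖ ⥤ AddCommGrpCat.{u}) :
    (cechComplexFunctor U).map (0 : P ⟶ Q) = 0 := by
  ext n : 1
  change Limits.Pi.map (fun a : Fin (n+1) → ι => (0 : P ⟶ Q).app (op (∏ᶜ (U ∘ a)))) = 0
  apply Limits.Pi.hom_ext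
  intro j
  simp

/-- the short complex of Čech complexes attached to a short complex of sheaves -/
noncomputable def cechSC (S : ShortComplex (CohTop.Ab X)) :
    ShortComplex (CochainComplex AddCommGrpCat.{u} ℕ) :=
  ShortComplex.mk ((cechComplexFunctor U).map S.f.hom) ((cechComplexFunctor U).map S.g.hom)
    (by
      rw [← Functor.map_comp]
      have : S.f.hom ≫ S.g.hom = 0 := congrArg (fun k => k.hom) S.zero
      rw [this, cech_map_zero])

lemma sections_left_exact {S : ShortComplex (CohTop.Ab X)} (hS : S.ShortExact) (V : Opens X) :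
    Function.Injective (S.f.hom.app (op V)) ∧
      ∀ y : S.X₂.obj.obj (op V), S.g.hom.app (op V) y = 0 → ∃ x, S.f.hom.app (op V) x = y := by
  have := hS.mono_f
  have hSp : (S.map (sheafToPresheaf _ AddCommGrpCat.{u})).Exact :=
    hS.exact.map_of_mono_of_preservesKernel (sheafToPresheaf _ AddCommGrpCat.{u}) inferInstance
      inferInstance
  have hmono : Mono (S.map (sheafToPresheaf _ AddCommGrpCat.{u})).f :=
    inferInstanceAs (Mono ((sheafToPresheaf _ AddCommGrpCat.{u}).map S.f))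
  have hE : ((S.map (sheafToPresheaf _ AddCommGrpCat.{u})).map
      ((evaluation _ AddCommGrpCat.{u}).obj (op V))).Exact := hSp.map _
  have hm : Mono (((evaluation _ AddCommGrpCat.{u}).obj (op V)).map
      (S.map (sheafToPresheaf _ AddCommGrpCat.{u})).f) := inferInstance
  constructor
  · exact (AddCommGrpCat.mono_iff_injective _).1 hm
  · rw [ShortComplex.ab_exact_iff] at hE
    exact hE


lemma cechSC_shortExact {S : ShortComplex (CohTop.Ab X)} (hS : S.ShortExact)
    (hsurj : ∀ (n : ℕ) (a : Fin (n + 1) → ι),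
      Function.Surjective (S.g.hom.app (op (∏ᶜ (U ∘ a))))) :
    (cechSC U S).ShortExact := by
  apply HomologicalComplex.shortExact_of_degreewise_shortExact
  intro n
  exact pi_shortExact (fun a : Fin (n + 1) → ι => S.f.hom.app (op (∏ᶜ (U ∘ a))))
    (fun a : Fin (n + 1) → ι => S.g.hom.app (op (∏ᶜ (U ∘ a))))
    (fun a => by
      have : S.f.hom ≫ S.g.hom = 0 := congrArg (fun k => k.hom) S.zero
      rw [← NatTrans.comp_app, this]; rfl)
    (fun a => (sections_left_exact hS _).1)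
    (fun a => hsurj n a)
    (fun a => (sections_left_exact hS _).2)



section LES

variable {T : ShortComplex (CochainComplex AddCommGrpCat.{u} ℕ)} (hT : T.ShortExact)
  (h₂ : ∀ n : ℕ, IsZero (T.X₂.homology (n + 1)))

include hT h₂ in
/-- dimension shifting for the homology of a short exact sequence of cochain complexes -/
lemma nonempty_shift (n : ℕ) :
    Nonempty (T.X₃.homology (n + 1) ≃+ T.X₁.homology (n + 2)) :=
  ⟨(hT.δIso (n + 1) (n + 2) rfl (h₂ n) (h₂ (n + 1))).addCommGroupIsoToAddEquiv⟩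

include hT h₂ in
lemma δ_zero_surjective : Function.Surjective (hT.δ 0 1 rfl) := by
  have := hT.epi_δ 0 1 rfl (h₂ 0)
  exact (AddCommGrpCat.epi_iff_surjective _).1 this

include hT in
lemma δ_zero_ker : (hT.δ 0 1 rfl).hom.ker =
    (HomologicalComplex.homologyMap T.g 0).hom.range := by
  have := hT.homology_exact₃ 0 1 rfl
  rw [ShortComplex.ab_exact_iff_range_eq_ker] at this
  exact this.symm

/-- `H^1(X₁)` is the cokernel of `H^0(X₂) → H^0(X₃)` -/
noncomputable def oneEquiv :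
    (T.X₃.homology 0 ⧸ (HomologicalComplex.homologyMap T.g 0).hom.range) ≃+ T.X₁.homology 1 :=
  (QuotientAddGroup.quotientAddEquivOfEq (δ_zero_ker hT).symm).trans
    (QuotientAddGroup.quotientKerEquivOfSurjective _ (δ_zero_surjective hT h₂))

end LES



section Aug

variable {X : TopCat.{u}} {ι : Type u} (U : ι → Opens X) (P : (Opens X)ᵒᵖ ⥤ AddCommGrpCat.{u})

lemma sum_evalMap_apply (E : SimplicialObject (FormalCoproduct.{u} (Opens X)))
    (x : ↑(∏ᶜ fun i : (E.obj (op ⦋0⦌)).I => ((𝟭 (Opens X)).op ⋙ P).obj (op ((E.obj (op ⦋0⦌)).obj i))))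
    (b : (E.obj (op ⦋0 + 1⦌)).I) :
    Pi.π (fun i : (E.obj (op ⦋0 + 1⦌)).I => ((𝟭 (Opens X)).op ⋙ P).obj (op ((E.obj (op ⦋0 + 1⦌)).obj i))) b
      ((∑ i : Fin 2, (-1 : ℤ) ^ (i : ℕ) • CechY.evalMap (𝟭 (Opens X)) P (E.δ i)) x) =
    P.map ((E.δ (0 : Fin 2)).φ b).op (Pi.π (fun i : (E.obj (op ⦋0⦌)).I =>
        ((𝟭 (Opens X)).op ⋙ P).obj (op ((E.obj (op ⦋0⦌)).obj i))) ((E.δ (0 : Fin 2)).f b) x) -
      P.map ((E.δ (1 : Fin 2)).φ b).op (Pi.π (fun i : (E.obj (op ⦋0⦌)).I =>
        ((𝟭 (Opens X)).op ⋙ P).obj (op ((E.obj (op ⦋0⦌)).obj i))) ((E.δ (1 : Fin 2)).f b) x) := by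
  rw [CechA.sum_apply, Fin.sum_univ_two, map_add, CechA.zsmul_apply, CechA.zsmul_apply]
  simp only [Fin.val_zero, pow_zero, one_smul, Fin.val_one, pow_one, neg_smul, map_neg]
  rw [← sub_eq_add_neg, CechY.π_evalMap, CechY.π_evalMap]
  rfl

lemma d_zero_apply (x : ((cechComplexFunctor U).obj P).X 0) (b : Fin 2 → ι) :
    Pi.π (fun a : Fin 2 → ι => P.obj (op (∏ᶜ (U ∘ a)))) b
      (((cechComplexFunctor U).obj P).d 0 1 x) =
    P.map (((CechT.cechE U).δ (0 : Fin 2)).φ b).op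
      (Pi.π (fun a : Fin 1 → ι => P.obj (op (∏ᶜ (U ∘ a)))) (((CechT.cechE U).δ (0 : Fin 2)).f b) x) -
    P.map (((CechT.cechE U).δ (1 : Fin 2)).φ b).op
      (Pi.π (fun a : Fin 1 → ι => P.obj (op (∏ᶜ (U ∘ a)))) (((CechT.cechE U).δ (1 : Fin 2)).f b) x) := by
  have h := CechA.K_d (𝟭 (Opens X)) (CechT.cechE U) P 0
  have h2 := ConcreteCategory.congr_hom h x
  refine (congrArg (fun t => Pi.π (fun a : Fin 2 → ι => P.obj (op (∏ᶜ (U ∘ a)))) b t) h2).trans ?_
  exact sum_evalMap_apply P (CechT.cechE U) x b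


lemma δ0_f (b : Fin 2 → ι) : (((CechT.cechE U).δ (0 : Fin 2)).f b) = fun _ => b 1 := by
  funext k
  obtain rfl : k = (0 : Fin 1) := Subsingleton.elim (α := Fin 1) _ _
  rfl

lemma δ1_f (b : Fin 2 → ι) : (((CechT.cechE U).δ (1 : Fin 2)).f b) = fun _ => b 0 := by
  funext k
  obtain rfl : k = (0 : Fin 1) := Subsingleton.elim (α := Fin 1) _ _
  rfl

/-- restrictions of components only depend on the index up to equality -/
lemma res_congr {n : ℕ} (x : ((cechComplexFunctor U).obj P).X n) {c c' : Fin (n + 1) → ι}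
    (h : c = c') {V : Opens X} (f : V ⟶ ∏ᶜ (U ∘ c)) (f' : V ⟶ ∏ᶜ (U ∘ c')) :
    P.map f.op (Pi.π (fun a : Fin (n + 1) → ι => P.obj (op (∏ᶜ (U ∘ a)))) c x) =
      P.map f'.op (Pi.π (fun a : Fin (n + 1) → ι => P.obj (op (∏ᶜ (U ∘ a)))) c' x) := by
  subst h
  obtain rfl : f = f' := Subsingleton.elim _ _
  rfl

lemma prod_le_iSup (n : ℕ) (a : Fin (n + 1) → ι) : (∏ᶜ (U ∘ a) : Opens X) ≤ iSup U :=
  (leOfHom (Pi.π (U ∘ a) 0)).trans (le_iSup U (a 0))

/-- the augmentation `P(⋃ U) ⟶ C^0(U, P)` -/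
noncomputable def aug₀ : P.obj (op (iSup U)) ⟶
    ∏ᶜ (fun a : Fin 1 → ι => P.obj (op (∏ᶜ (U ∘ a)))) :=
  Pi.lift (fun a : Fin 1 → ι => P.map (homOfLE (prod_le_iSup U 0 a)).op)

lemma π_aug₀ (a : Fin 1 → ι) (s : P.obj (op (iSup U))) :
    Pi.π (fun a : Fin 1 → ι => P.obj (op (∏ᶜ (U ∘ a)))) a (aug₀ U P s) =
      P.map (homOfLE (prod_le_iSup U 0 a)).op s := by
  have h : aug₀ U P ≫ Pi.π (fun a : Fin 1 → ι => P.obj (op (∏ᶜ (U ∘ a)))) a =
      P.map (homOfLE (prod_le_iSup U 0 a)).op := Pi.lift_π _ _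
  exact ConcreteCategory.congr_hom h s

lemma map_map_apply {V₁ V₂ V₃ : Opens X} (f : V₂ ⟶ V₁) (g : V₃ ⟶ V₂) (h : V₃ ⟶ V₁)
    (s : P.obj (op V₁)) : P.map g.op (P.map f.op s) = P.map h.op s := by
  rw [← ConcreteCategory.comp_apply, ← Functor.map_comp, ← op_comp]
  obtain rfl : g ≫ f = h := Subsingleton.elim _ _
  rfl

lemma aug₀_d_apply (s : P.obj (op (iSup U))) :
    ((cechComplexFunctor U).obj P).d 0 1 (aug₀ U P s) = 0 := by
  apply CechY.prod_ext (fun a : Fin 2 → ι => P.obj (op (∏ᶜ (U ∘ a))))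
  intro b
  have e0 : P.map (((CechT.cechE U).δ (0 : Fin 2)).φ b).op
      (Pi.π (fun a : Fin 1 → ι => P.obj (op (∏ᶜ (U ∘ a)))) (((CechT.cechE U).δ (0 : Fin 2)).f b)
        (aug₀ U P s)) = P.map (homOfLE (prod_le_iSup U 1 b)).op s :=
    (congrArg (fun t => P.map (((CechT.cechE U).δ (0 : Fin 2)).φ b).op t) (π_aug₀ U P _ s)).trans
      (map_map_apply P _ _ _ s)
  have e1 : P.map (((CechT.cechE U).δ (1 : Fin 2)).φ b).op
      (Pi.π (fun a : Fin 1 → ι => P.obj (op (∏ᶜ (U ∘ a)))) (((CechT.cechE U).δ (1 : Fin 2)).f b)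
        (aug₀ U P s)) = P.map (homOfLE (prod_le_iSup U 1 b)).op s :=
    (congrArg (fun t => P.map (((CechT.cechE U).δ (1 : Fin 2)).φ b).op t) (π_aug₀ U P _ s)).trans
      (map_map_apply P _ _ _ s)
  exact (d_zero_apply U P (aug₀ U P s) b).trans ((congrArg₂ (fun a b => a - b) e0 e1).trans
    ((sub_self _).trans (map_zero _).symm))

lemma aug₀_d : aug₀ U P ≫ ((cechComplexFunctor U).obj P).d 0 1 = 0 := by
  apply AddCommGrpCat.hom_ext
  ext s
  exact aug₀_d_apply U P s


/-- the augmentation `P(⋃ U) ⟶ Ȟ^0(U, P)` -/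
noncomputable def augH : P.obj (op (iSup U)) ⟶ ((cechComplexFunctor U).obj P).homology 0 :=
  ((cechComplexFunctor U).obj P).liftCycles (aug₀ U P) 1 (by simp) (aug₀_d U P) ≫
    ((cechComplexFunctor U).obj P).homologyπ 0

lemma iCycles_lift_apply (s : P.obj (op (iSup U))) :
    ((cechComplexFunctor U).obj P).iCycles 0
      (((cechComplexFunctor U).obj P).liftCycles (aug₀ U P) 1 (by simp) (aug₀_d U P) s) =
      aug₀ U P s := by
  rw [← ConcreteCategory.comp_apply, HomologicalComplex.liftCycles_i]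
  rfl

lemma iSup_le_iSup_prod : iSup U ≤ iSup fun a : Fin 1 → ι => (∏ᶜ (U ∘ a) : Opens X) := by
  apply iSup_le
  intro i
  refine le_trans ?_ (le_iSup (fun a : Fin 1 → ι => (∏ᶜ (U ∘ a) : Opens X)) (fun _ => i))
  exact leOfHom (Pi.lift (fun _ => 𝟙 (U i)) : U i ⟶ ∏ᶜ (U ∘ fun _ : Fin 1 => i))

lemma augH_injective (G : CohTop.Ab X) : Function.Injective (augH U G.obj) := by
  rw [injective_iff_map_eq_zero]
  intro s hs
  have h1 : ((cechComplexFunctor U).obj G.obj).liftCycles (aug₀ U G.obj) 1 (by simp)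
      (aug₀_d U G.obj) s = 0 := by
    have hm : Function.Injective (((cechComplexFunctor U).obj G.obj).homologyπ 0) :=
      (AddCommGrpCat.mono_iff_injective _).1 inferInstance
    apply hm
    rw [map_zero]
    exact hs
  have h2 : aug₀ U G.obj s = 0 := by
    rw [← iCycles_lift_apply, h1, map_zero]
    rfl
  apply TopCat.Sheaf.eq_of_locally_eq' G (fun a : Fin 1 → ι => (∏ᶜ (U ∘ a) : Opens X)) (iSup U)
    (fun a => homOfLE (prod_le_iSup U 0 a)) (iSup_le_iSup_prod U)
  intro a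
  rw [map_zero]
  exact (π_aug₀ U G.obj a s).symm.trans ((congrArg (fun t =>
    Pi.π (fun a : Fin 1 → ι => G.obj.obj (op (∏ᶜ (U ∘ a)))) a t) h2).trans (map_zero _))


lemma inf_le_prod (a a' : Fin 1 → ι) (b : Fin 2 → ι) (h0 : b 0 = a 0) (h1 : b 1 = a' 0) :
    (∏ᶜ (U ∘ a) : Opens X) ⊓ (∏ᶜ (U ∘ a') : Opens X) ≤ (∏ᶜ (U ∘ b) : Opens X) := by
  refine le_trans ?_ (le_of_eq (CechTop.cechE_obj_eq U 1 b).symm)
  apply le_iInf
  intro k
  fin_cases k
  · exact inf_le_left.trans ((leOfHom (Pi.π (U ∘ a) 0)).trans (le_of_eq (congrArg U h0.symm)))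
  · exact inf_le_right.trans ((leOfHom (Pi.π (U ∘ a') 0)).trans (le_of_eq (congrArg U h1.symm)))

lemma cocycle_compat (x : ((cechComplexFunctor U).obj P).X 0)
    (hx : ((cechComplexFunctor U).obj P).d 0 1 x = 0) (a a' : Fin 1 → ι) :
    P.map (Opens.infLELeft (∏ᶜ (U ∘ a)) (∏ᶜ (U ∘ a'))).op
      (Pi.π (fun a : Fin 1 → ι => P.obj (op (∏ᶜ (U ∘ a)))) a x) =
    P.map (Opens.infLERight (∏ᶜ (U ∘ a)) (∏ᶜ (U ∘ a'))).op
      (Pi.π (fun a : Fin 1 → ι => P.obj (op (∏ᶜ (U ∘ a)))) a' x) := by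
  let b : Fin 2 → ι := ![a 0, a' 0]
  have hb0 : (((CechT.cechE U).δ (0 : Fin 2)).f b) = a' := by
    rw [δ0_f]
    funext k
    obtain rfl : k = (0 : Fin 1) := Subsingleton.elim (α := Fin 1) _ _
    rfl
  have hb1 : (((CechT.cechE U).δ (1 : Fin 2)).f b) = a := by
    rw [δ1_f]
    funext k
    obtain rfl : k = (0 : Fin 1) := Subsingleton.elim (α := Fin 1) _ _
    rfl
  have key := (d_zero_apply U P x b).symm.trans ((congrArg (fun t =>
    Pi.π (fun a : Fin 2 → ι => P.obj (op (∏ᶜ (U ∘ a)))) b t) hx).trans (map_zero _))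
  have key' := sub_eq_zero.1 key
  have hle := inf_le_prod U a a' b rfl rfl
  have key2 := congrArg (fun t => P.map (homOfLE hle).op t) key'
  have e0 := (map_map_apply P (((CechT.cechE U).δ (0 : Fin 2)).φ b) (homOfLE hle)
    ((homOfLE hle) ≫ ((CechT.cechE U).δ (0 : Fin 2)).φ b)
    (Pi.π (fun a : Fin 1 → ι => P.obj (op (∏ᶜ (U ∘ a)))) (((CechT.cechE U).δ (0 : Fin 2)).f b) x)).trans
    (res_congr U P x hb0 _ (Opens.infLERight (∏ᶜ (U ∘ a)) (∏ᶜ (U ∘ a'))))
  have e1 := (map_map_apply P (((CechT.cechE U).δ (1 : Fin 2)).φ b) (homOfLE hle)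
    ((homOfLE hle) ≫ ((CechT.cechE U).δ (1 : Fin 2)).φ b)
    (Pi.π (fun a : Fin 1 → ι => P.obj (op (∏ᶜ (U ∘ a)))) (((CechT.cechE U).δ (1 : Fin 2)).f b) x)).trans
    (res_congr U P x hb1 _ (Opens.infLELeft (∏ᶜ (U ∘ a)) (∏ᶜ (U ∘ a'))))
  exact e1.symm.trans (key2.symm.trans e0)


lemma augH_surjective (G : CohTop.Ab X) : Function.Surjective (augH U G.obj) := by
  intro c
  have hπ : Function.Surjective (((cechComplexFunctor U).obj G.obj).homologyπ 0) :=
    (AddCommGrpCat.epi_iff_surjective _).1 inferInstance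
  obtain ⟨z, rfl⟩ := hπ c
  have hx : ((cechComplexFunctor U).obj G.obj).d 0 1
      (((cechComplexFunctor U).obj G.obj).iCycles 0 z) = 0 := by
    rw [← ConcreteCategory.comp_apply, HomologicalComplex.iCycles_d]
    rfl
  obtain ⟨s, hs, -⟩ := TopCat.Sheaf.existsUnique_gluing' G
    (fun a : Fin 1 → ι => (∏ᶜ (U ∘ a) : Opens X)) (iSup U)
    (fun a => homOfLE (prod_le_iSup U 0 a)) (iSup_le_iSup_prod U)
    (fun a => Pi.π (fun a : Fin 1 → ι => G.obj.obj (op (∏ᶜ (U ∘ a)))) a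
      (((cechComplexFunctor U).obj G.obj).iCycles 0 z))
    (fun a a' => cocycle_compat U G.obj _ hx a a')
  refine ⟨s, ?_⟩
  have h1 : aug₀ U G.obj s = ((cechComplexFunctor U).obj G.obj).iCycles 0 z := by
    apply CechY.prod_ext (fun a : Fin 1 → ι => G.obj.obj (op (∏ᶜ (U ∘ a))))
    intro a
    exact (π_aug₀ U G.obj a s).trans (hs a)
  have h2 : ((cechComplexFunctor U).obj G.obj).liftCycles (aug₀ U G.obj) 1 (by simp)
      (aug₀_d U G.obj) s = z := by
    have hm : Function.Injective (((cechComplexFunctor U).obj G.obj).iCycles 0) :=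
      (AddCommGrpCat.mono_iff_injective _).1 inferInstance
    apply hm
    rw [iCycles_lift_apply]
    exact h1
  exact congrArg (fun t => ((cechComplexFunctor U).obj G.obj).homologyπ 0 t) h2

/-- `Ȟ^0(U, G) = G(⋃ U)` for a sheaf `G` -/
noncomputable def augEquiv (G : CohTop.Ab X) :
    G.obj.obj (op (iSup U)) ≃+ CohTop.cechH G.obj U 0 :=
  AddEquiv.ofBijective (augH U G.obj).hom ⟨augH_injective U G, augH_surjective U G⟩

lemma aug₀_naturality {P Q : (Opens X)ᵒᵖ ⥤ AddCommGrpCat.{u}} (α : P ⟶ Q) :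
    aug₀ U P ≫ ((cechComplexFunctor U).map α).f 0 = α.app (op (iSup U)) ≫ aug₀ U Q := by
  have h1 : ∀ a : Fin 1 → ι, aug₀ U P ≫ Pi.π (fun a : Fin 1 → ι => P.obj (op (∏ᶜ (U ∘ a)))) a =
      P.map (homOfLE (prod_le_iSup U 0 a)).op := fun a => Pi.lift_π _ _
  have h2 : ∀ a : Fin 1 → ι, aug₀ U Q ≫ Pi.π (fun a : Fin 1 → ι => Q.obj (op (∏ᶜ (U ∘ a)))) a =
      Q.map (homOfLE (prod_le_iSup U 0 a)).op := fun a => Pi.lift_π _ _
  have key : ∀ a : Fin 1 → ι,
      (aug₀ U P ≫ Limits.Pi.map (fun a : Fin 1 → ι => α.app (op (∏ᶜ (U ∘ a))))) ≫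
        Pi.π (fun a : Fin 1 → ι => Q.obj (op (∏ᶜ (U ∘ a)))) a =
      (α.app (op (iSup U)) ≫ aug₀ U Q) ≫
        Pi.π (fun a : Fin 1 → ι => Q.obj (op (∏ᶜ (U ∘ a)))) a := by
    intro a
    rw [Category.assoc, Limits.Pi.map_π, Category.assoc, h2, ← Category.assoc, h1]
    exact α.naturality _
  exact Limits.Pi.hom_ext _ _ key

lemma augH_naturality {P Q : (Opens X)ᵒᵖ ⥤ AddCommGrpCat.{u}} (α : P ⟶ Q) :
    augH U P ≫ HomologicalComplex.homologyMap ((cechComplexFunctor U).map α) 0 =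
      α.app (op (iSup U)) ≫ augH U Q := by
  rw [augH, augH, Category.assoc, HomologicalComplex.homologyπ_naturality,
    ← Category.assoc, ← Category.assoc]
  congr 1
  rw [← cancel_mono (((cechComplexFunctor U).obj Q).iCycles 0)]
  simp only [Category.assoc, HomologicalComplex.cyclesMap_i, HomologicalComplex.liftCycles_i,
    HomologicalComplex.liftCycles_i_assoc]
  exact aug₀_naturality U α

end Aug

section Main

open Abelian Groth.Agent.Lib.Helper53 Groth.Agent.Lib.Helper26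

variable {X : TopCat.{u}} {ι : Type u} (U : ι → Opens X)

lemma cls_injective (G : CohTop.Ab X) (V : Opens X) : Function.Injective (MVTop.cls G V) := by
  intro s t h
  have h1 := (Ext.mk₀_bijective (freeSheaf V) G).1 h
  exact (freeSheafHomEquiv V G).symm.injective h1

/-- `G(V) ≃ H^0(V, G)` -/
noncomputable def clsEquiv (G : CohTop.Ab X) (V : Opens X) :
    G.obj.obj (op V) ≃+ CohTop.HU G 0 V :=
  AddEquiv.ofBijective (AddMonoidHom.ofMapSub (MVTop.cls G V) (MVTop.cls_sub G V))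
    ⟨cls_injective G V, MVTop.cls_surjective G V⟩

lemma cls_naturality {G G' : CohTop.Ab X} (φ : G ⟶ G') (V : Opens X) (s : G.obj.obj (op V)) :
    MVTop.cls G' V (φ.hom.app (op V) s) = (MVTop.cls G V s).comp (Ext.mk₀ φ) (add_zero 0) := by
  rw [MVTop.cls, MVTop.cls, Ext.mk₀_comp_mk₀]
  congr 1
  apply (freeSheafHomEquiv V G').injective
  rw [freeSheafHomEquiv_naturality_right, Equiv.apply_symm_apply, Equiv.apply_symm_apply]

/-- `Ȟ^0(U, G) ≃ H^0(⋃ U, G)` -/
noncomputable def θ (G : CohTop.Ab X) : CohTop.cechH G.obj U 0 ≃+ CohTop.HU G 0 (iSup U) :=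
  (augEquiv U G).symm.trans (clsEquiv G (iSup U))

lemma θ_aug (G : CohTop.Ab X) (s : G.obj.obj (op (iSup U))) :
    θ U G (augH U G.obj s) = MVTop.cls G (iSup U) s := by
  have : (augEquiv U G).symm (augH U G.obj s) = s := (augEquiv U G).symm_apply_apply s
  rw [θ, AddEquiv.trans_apply, this]
  rfl

lemma θ_naturality {G G' : CohTop.Ab X} (φ : G ⟶ G') (x : CohTop.cechH G.obj U 0) :
    θ U G' (HomologicalComplex.homologyMap ((cechComplexFunctor U).map φ.hom) 0 x) =
      (θ U G x).comp (Ext.mk₀ φ) (add_zero 0) := by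
  obtain ⟨s, rfl⟩ := augH_surjective U G x
  have h := ConcreteCategory.congr_hom (augH_naturality U φ.hom) s
  rw [ConcreteCategory.comp_apply, ConcreteCategory.comp_apply] at h
  rw [h, θ_aug, θ_aug, cls_naturality]

lemma subsingleton_HU_prod {F : CohTop.Ab X}
    (h : ∀ (n : ℕ) (a : Fin (n + 1) → ι) (q : ℕ),
      Subsingleton (CohTop.HU F (q + 1) (iInf fun k => U (a k))))
    (n : ℕ) (a : Fin (n + 1) → ι) (q : ℕ) :
    Subsingleton (CohTop.HU F (q + 1) (∏ᶜ (U ∘ a))) := by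
  have e : (∏ᶜ (U ∘ a) : Opens X) = iInf fun k => U (a k) := CechTop.cechE_obj_eq U n a
  rw [e]
  exact h n a q

lemma cechSC_injSeq_shortExact {F : CohTop.Ab X}
    (h : ∀ (n : ℕ) (a : Fin (n + 1) → ι) (q : ℕ),
      Subsingleton (CohTop.HU F (q + 1) (iInf fun k => U (a k)))) :
    (cechSC U (injSeq F)).ShortExact :=
  cechSC_shortExact U (injSeq_shortExact F) (fun n a =>
    CechVanish.surjective_g_of_HU (injSeq_shortExact F) _ (subsingleton_HU_prod U h n a 0))

lemma isZero_cechSC_injSeq_X₂ (F : CohTop.Ab X) (n : ℕ) :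
    IsZero ((cechSC U (injSeq F)).X₂.homology (n + 1)) :=
  CechTop.isZero_cechH_of_injective (injSeq F).X₂ U n

theorem leray_one (F : CohTop.Ab X)
    (h : ∀ (n : ℕ) (a : Fin (n + 1) → ι) (q : ℕ),
      Subsingleton (CohTop.HU F (q + 1) (iInf fun k => U (a k)))) :
    Nonempty (CohTop.cechH F.obj U 1 ≃+ CohTop.HU F 1 (iSup U)) := by
  have hS := injSeq_shortExact F
  have hT := cechSC_injSeq_shortExact U h
  have h₂ := isZero_cechSC_injSeq_X₂ U F
  have hE₂ : ∀ (n : ℕ) (x : Ext (freeSheaf (iSup U)) (injSeq F).X₂ (n + 1)), x = 0 :=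
    fun n x => Ext.eq_zero_of_injective x
  let e₃ : CohTop.cechH (injSeq F).X₃.obj U 0 ≃+ Ext (freeSheaf (iSup U)) (injSeq F).X₃ 0 :=
    θ U (injSeq F).X₃
  have he : AddSubgroup.map
      (e₃ : CohTop.cechH (injSeq F).X₃.obj U 0 →+ Ext (freeSheaf (iSup U)) (injSeq F).X₃ 0)
      (HomologicalComplex.homologyMap (cechSC U (injSeq F)).g 0).hom.range =
      ((Ext.mk₀ (injSeq F).g).postcomp (freeSheaf (iSup U)) (add_zero 0)).range := by
    ext y
    constructor
    · rintro ⟨_, ⟨x₂, rfl⟩, rfl⟩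
      exact ⟨θ U (injSeq F).X₂ x₂, (θ_naturality U (injSeq F).g x₂).symm⟩
    · rintro ⟨x₂', rfl⟩
      refine ⟨_, ⟨(θ U (injSeq F).X₂).symm x₂', rfl⟩, ?_⟩
      have := θ_naturality U (injSeq F).g ((θ U (injSeq F).X₂).symm x₂')
      rw [AddEquiv.apply_symm_apply] at this
      exact this
  exact ⟨((oneEquiv hT h₂).symm.trans (QuotientAddGroup.congr _ _ e₃ he)).trans
    (ExtCompare.extOneEquiv hS (freeSheaf (iSup U)) hE₂)⟩

theorem leray_succ (p : ℕ) : ∀ (F : CohTop.Ab X),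
    (∀ (n : ℕ) (a : Fin (n + 1) → ι) (q : ℕ),
      Subsingleton (CohTop.HU F (q + 1) (iInf fun k => U (a k)))) →
    Nonempty (CohTop.cechH F.obj U (p + 1) ≃+ CohTop.HU F (p + 1) (iSup U)) := by
  induction p with
  | zero => exact fun F h => leray_one U F h
  | succ p ih =>
    intro F h
    obtain ⟨e⟩ := ih (injSeq F).X₃
      (fun n a q => CechVanish.subsingleton_HU_injSeq_X₃ F _ q (h n a (q + 1)))
    have hS := injSeq_shortExact F
    have hT := cechSC_injSeq_shortExact U h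
    have h₂ := isZero_cechSC_injSeq_X₂ U F
    have hE₂ : ∀ (n : ℕ) (x : Ext (freeSheaf (iSup U)) (injSeq F).X₂ (n + 1)), x = 0 :=
      fun n x => Ext.eq_zero_of_injective x
    obtain ⟨e'⟩ := nonempty_shift hT h₂ p
    exact ⟨(e'.symm.trans e).trans (ExtCompare.extShiftEquiv hS (freeSheaf (iSup U)) hE₂ p)⟩

/-- **Leray's theorem**: if `F` is acyclic on all finite intersections of members of the family
`U`, then Čech cohomology of `F` for `U` is the cohomology of `F` over the union. -/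
theorem leray (F : CohTop.Ab X)
    (h : ∀ (n : ℕ) (a : Fin (n + 1) → ι) (q : ℕ),
      Subsingleton (CohTop.HU F (q + 1) (iInf fun k => U (a k)))) (p : ℕ) :
    Nonempty (CohTop.cechH F.obj U p ≃+ CohTop.HU F p (iSup U)) := by
  cases p with
  | zero => exact ⟨θ U F⟩
  | succ p => exact leray_succ U p F h

end Main

end Groth.Agent.Lib.Helper26.CechLES
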