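import Groth.Prelude.Def_LambdaSp
import Mathlib.Tactic

set_option autoImplicit false
set_option maxHeartbeats 4000000
set_option synthInstance.maxHeartbeats 400000
set_option backward.isDefEq.respectTransparency.types false

universe u
open PowerSeries LambdaRing Finset

namespace Groth.Agent.Lib.Helper26.LambdaAdams

section ode
variable {K : Type u} [CommRing K]

theorem natCast_succ_isUnit [Algebra ℚ K] (n : ℕ) : IsUnit (((n : K) + 1)) := by
  have h : ((n : K) + 1) = algebraMap ℚ K ((n : ℚ) + 1) := by
    rw [map_add, map_natCast, map_one]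
  rw [h]
  apply IsUnit.map
  exact isUnit_iff_ne_zero.2 (by positivity)

theorem ode_zero [Algebra ℚ K] (P H : K⟦X⟧) (hH : derivative K H = P * H)
    (h0 : constantCoeff H = 0) : H = 0 := by
  ext n
  rw [map_zero]
  induction n using Nat.strong_induction_on with
  | _ n ih =>
    cases n with
    | zero => rw [coeff_zero_eq_constantCoeff_apply, h0]
    | succ n =>
      have h1 := congrArg (coeff n) hH
      rw [coeff_derivative, coeff_mul] at h1
      have h2 : ∑ p ∈ antidiagonal n, coeff p.1 P * coeff p.2 H = 0 := by
        apply Finset.sum_eq_zero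
        intro p hp
        have : p.2 < n + 1 := by
          have := Finset.mem_antidiagonal.1 hp
          omega
        rw [ih p.2 this, mul_zero]
      rw [h2] at h1
      exact (natCast_succ_isUnit (K := K) n).mul_left_eq_zero.1 h1

theorem ode_unique [Algebra ℚ K] (P F G : K⟦X⟧) (hF : derivative K F = P * F)
    (hG : derivative K G = P * G) (h0 : constantCoeff F = constantCoeff G) : F = G := by
  have : F - G = 0 := by
    apply ode_zero P
    · rw [map_sub, hF, hG, mul_sub]
    · rw [map_sub, h0, sub_self]
  exact sub_eq_zero.1 this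

end ode

section lam
variable {K : Type u} [CommRing K] [LambdaOps K]

theorem coeff_lamSeries (n : ℕ) (x : K) : coeff n (lamSeries x) = LambdaOps.lam n x := by
  unfold lamSeries
  rw [coeff_mk]

theorem constantCoeff_lamSeries (x : K) : constantCoeff (lamSeries x) = ((1 : Kˣ) : K) := by
  rw [← coeff_zero_eq_constantCoeff_apply, coeff_lamSeries, LambdaOps.lam_zero, Units.val_one]

theorem deriv_lamSeries (x : K) :
    derivative K (lamSeries x) = logDerivSeries x * lamSeries x := by
  unfold logDerivSeries
  rw [mul_assoc, invOfUnit_mul _ _ (constantCoeff_lamSeries x), mul_one]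

theorem logDeriv_unique (x : K) (P : K⟦X⟧) (h : derivative K (lamSeries x) = P * lamSeries x) :
    P = logDerivSeries x := by
  unfold logDerivSeries
  rw [h, mul_assoc, mul_invOfUnit _ _ (constantCoeff_lamSeries x), mul_one]

theorem coeff_logDeriv (k : ℕ) (x : K) :
    coeff k (logDerivSeries x) = (-1) ^ k * adamsOp (k + 1) x := by
  show _ = (-1) ^ k * ((-1) ^ k * coeff k (logDerivSeries x))
  rw [← mul_assoc, ← pow_add, Even.neg_one_pow ⟨k, rfl⟩, one_mul]

theorem adamsOp_succ (k : ℕ) (x : K) :
    adamsOp (k + 1) x = (-1) ^ k * coeff k (logDerivSeries x) := rfl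

theorem newton (n : ℕ) (x : K) :
    LambdaOps.lam (n + 1) x * ((n : K) + 1) =
      ∑ p ∈ antidiagonal n, ((-1) ^ p.1 * adamsOp (p.1 + 1) x) * LambdaOps.lam p.2 x := by
  have h := congrArg (coeff n) (deriv_lamSeries x)
  rw [coeff_derivative, coeff_mul, coeff_lamSeries] at h
  rw [h]
  apply Finset.sum_congr rfl
  intro p _
  rw [coeff_logDeriv, coeff_lamSeries]

end lam

end Groth.Agent.Lib.Helper26.LambdaAdams
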