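import Groth.Prelude.Def_LambdaSp
import Mathlib.Tactic
import Mathlib.RingTheory.PowerSeries.Substitution
import Mathlib.RingTheory.PowerSeries.WellKnown

set_option autoImplicit false
set_option maxHeartbeats 4000000
set_option synthInstance.maxHeartbeats 400000
set_option backward.isDefEq.respectTransparency.types false

universe u
open PowerSeries LambdaRing Finset

namespace Groth.Agent.Lib.Helper26.LambdaGamma

variable {A : Type u} [CommRing A]

noncomputable def Y (A : Type u) [CommRing A] : A⟦X⟧ := X * PowerSeries.mk 1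

theorem hasSubst_Y : HasSubst (Y A) := by
  apply HasSubst.of_constantCoeff_zero'
  unfold Y
  rw [map_mul, constantCoeff_X, zero_mul]

theorem coeff_Y_pow_succ (k d : ℕ) :
    coeff k ((Y A) ^ (d + 1)) = if d + 1 ≤ k then ((Nat.choose (k - 1) d : ℕ) : A) else 0 := by
  unfold Y
  rw [mul_pow, mk_one_pow_eq_mk_choose_add, coeff_X_pow_mul']
  split_ifs with h
  · rw [coeff_mk]
    congr 2
    omega
  · rfl

theorem coeff_Y_pow_of_lt (k d : ℕ) (h : k < d) : coeff k ((Y A) ^ d) = 0 := by
  unfold Y
  rw [mul_pow, coeff_X_pow_mul', if_neg (by omega)]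

variable [LambdaOps A]

theorem lamSeries_add (x y : A) : lamSeries (x + y) = lamSeries x * lamSeries y := by
  ext k
  rw [coeff_mul, Finset.Nat.sum_antidiagonal_eq_sum_range_succ_mk]
  unfold lamSeries
  rw [coeff_mk, LambdaOps.lam_add]
  apply Finset.sum_congr rfl
  intro i _
  rw [coeff_mk, coeff_mk]

theorem constantCoeff_lamSeries (x : A) : constantCoeff (lamSeries x) = ((1 : Aˣ) : A) := by
  rw [← coeff_zero_eq_constantCoeff_apply]
  unfold lamSeries
  rw [coeff_mk, LambdaOps.lam_zero, Units.val_one]

theorem lamSeries_zero : lamSeries (0 : A) = 1 := by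
  have h : lamSeries (0 : A) = lamSeries (0 : A) * lamSeries (0 : A) := by
    conv_lhs => rw [← add_zero (0 : A)]
    exact lamSeries_add 0 0
  have h2 := mul_invOfUnit (lamSeries (0 : A)) 1 (constantCoeff_lamSeries 0)
  calc lamSeries (0 : A) = lamSeries (0 : A) * (lamSeries (0 : A) * invOfUnit (lamSeries (0 : A)) 1) := by
        rw [h2, mul_one]
    _ = (lamSeries (0 : A) * lamSeries (0 : A)) * invOfUnit (lamSeries (0 : A)) 1 := by ring
    _ = 1 := by rw [← h, h2]

noncomputable def gammaSeries (x : A) : A⟦X⟧ := (lamSeries x).subst (Y A)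

theorem gammaSeries_add (x y : A) : gammaSeries (x + y) = gammaSeries x * gammaSeries y := by
  unfold gammaSeries
  rw [lamSeries_add, subst_mul hasSubst_Y]

theorem gammaSeries_zero : gammaSeries (0 : A) = 1 := by
  unfold gammaSeries
  rw [lamSeries_zero, ← coe_substAlgHom hasSubst_Y, map_one]

theorem coeff_gammaSeries_eq_sum (k : ℕ) (x : A) :
    coeff k (gammaSeries x) = ∑ d ∈ range (k + 1), LambdaOps.lam d x * coeff k ((Y A) ^ d) := by
  unfold gammaSeries
  rw [coeff_subst' hasSubst_Y]
  rw [finsum_eq_sum_of_support_subset]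
  · apply Finset.sum_congr rfl
    intro d _
    unfold lamSeries
    rw [coeff_mk, smul_eq_mul]
  · intro d hd
    rw [Function.mem_support] at hd
    rw [Finset.coe_range, Set.mem_Iio]
    by_contra hlt
    apply hd
    rw [coeff_Y_pow_of_lt k d (by omega), smul_zero]

theorem coeff_gammaSeries (k : ℕ) (x : A) : coeff k (gammaSeries x) = gamma k x := by
  rw [coeff_gammaSeries_eq_sum]
  unfold gamma
  split_ifs with hk
  · subst hk
    rw [Finset.sum_range_one, pow_zero, LambdaOps.lam_zero, coeff_zero_eq_constantCoeff_apply,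
      map_one, mul_one]
  · apply Finset.sum_congr rfl
    intro j hj
    rw [Finset.mem_range] at hj
    cases j with
    | zero =>
      rw [pow_zero, coeff_one, if_neg hk, mul_zero, if_pos rfl, mul_zero]
    | succ d =>
      rw [coeff_Y_pow_succ, if_pos (by omega), if_neg (by omega), mul_comm]
      rfl

theorem gamma_add (k : ℕ) (x y : A) :
    gamma k (x + y) = ∑ p ∈ antidiagonal k, gamma p.1 x * gamma p.2 y := by
  rw [← coeff_gammaSeries, gammaSeries_add, coeff_mul]
  apply Finset.sum_congr rfl
  intro p _
  rw [coeff_gammaSeries, coeff_gammaSeries]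

theorem gamma_zero_right (k : ℕ) : gamma k (0 : A) = if k = 0 then 1 else 0 := by
  rw [← coeff_gammaSeries, gammaSeries_zero, coeff_one]

theorem gamma_zero_left (x : A) : gamma 0 x = 1 := by
  unfold gamma
  rw [if_pos rfl]

theorem gamma_one_left (x : A) : gamma 1 x = x := by
  unfold gamma
  rw [if_neg one_ne_zero]
  simp [Finset.sum_range_succ, LambdaOps.lam_one]

end Groth.Agent.Lib.Helper26.LambdaGamma
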