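import Groth.Agent.Lib.Helper26.MVTop

/-!
# Vanishing of cohomology above the number of members of a good cover
-/

set_option autoImplicit false
universe u

open CategoryTheory TopologicalSpace Opposite CategoryTheory.Limits

namespace Groth.Agent.Lib.Helper26.MVTop

variable {X : TopCat.{u}}

/-- If a class `P` of opens is stable under binary intersection and has no higher cohomology,
then a union of `t` members of `P` has no cohomology in degrees `≥ t`. -/
theorem subsingleton_HU_biSup (F : CohTop.Ab X) (P : Opens X → Prop)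
    (hinf : ∀ U V, P U → P V → P (U ⊓ V))
    (hvan : ∀ U, P U → ∀ n : ℕ, Subsingleton (CohTop.HU F (n + 1) U))
    {ι : Type*} [DecidableEq ι] (s : Finset ι) :
    ∀ (V : ι → Opens X), (∀ i ∈ s, P (V i)) → ∀ n : ℕ, s.card ≤ n →
      Subsingleton (CohTop.HU F n (⨆ i ∈ s, V i)) := by
  induction s using Finset.induction_on with
  | empty =>
    intro V _ n _
    simp only [Finset.notMem_empty, iSup_false, iSup_bot]
    exact subsingleton_HU_bot F n
  | insert a s ha ih =>
    intro V hV n hn
    rw [Finset.card_insert_of_notMem ha] at hn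
    obtain ⟨k, rfl⟩ : ∃ k, n = k + 1 := ⟨n - 1, by omega⟩
    have hk : s.card ≤ k := by omega
    rw [Finset.iSup_insert]
    have hPa : P (V a) := hV a (Finset.mem_insert_self a s)
    have hPs : ∀ i ∈ s, P (V i) := fun i hi => hV i (Finset.mem_insert_of_mem hi)
    have h1 : Subsingleton (CohTop.HU F (k + 1) (V a)) := hvan _ hPa k
    have h2 : Subsingleton (CohTop.HU F (k + 1) (⨆ i ∈ s, V i)) := ih V hPs (k + 1) (by omega)
    have h3 : Subsingleton (CohTop.HU F k (V a ⊓ ⨆ i ∈ s, V i)) := by
      rw [inf_iSup₂_eq]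
      exact ih (fun i => V a ⊓ V i) (fun i hi => hinf _ _ hPa (hPs i hi)) k hk
    refine ⟨fun x y => ?_⟩
    have key : ∀ α : CohTop.HU F (k + 1) (V a ⊔ ⨆ i ∈ s, V i), α = 0 := fun α =>
      eq_zero_of_sup F _ _ k (exists_sub_of_subsingleton F _ _ k) α
        (Subsingleton.elim _ _) (Subsingleton.elim _ _)
    exact (key x).trans (key y).symm

end Groth.Agent.Lib.Helper26.MVTop
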