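import Groth.Agent.Lib.Helper35.PbGen
import Groth.Agent.Lib.Helper35.Gen2
import Groth.Agent.Lib.Helper60.TensorMod
import Groth.Agent.Lib.Helper42.TensorColim

set_option autoImplicit false
universe u
open CategoryTheory AlgebraicGeometry TopologicalSpace Opposite TensorProduct

namespace Groth.Agent.Lib.Helper26.ProjFormula

open Groth.Agent.Lib.Helper35.Gen Groth.Agent.Lib.Helper35.AbSheaf Groth.Agent.Lib.Helper35.PbInv
open Groth.Agent.Lib.Helper60.TensorLib Scheme.Modules

section One
variable {X : Scheme.{u}}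

/-- `liftHom` on pure tensors (helper35) -/
theorem liftHom_tm (M N K : X.Modules)
    (b : ∀ U : X.Opens, Γ(M, U) →ₗ[Γ(X, U)] Γ(N, U) →ₗ[Γ(X, U)] Γ(K, U))
    (hb : ∀ {U V : X.Opens} (i : V ⟶ U) (m : Γ(M, U)) (n : Γ(N, U)),
      K.presheaf.map i.op (b U m n) = b V (M.presheaf.map i.op m) (N.presheaf.map i.op n))
    (U : X.Opens) (m : Γ(M, U)) (n : Γ(N, U)) :
    ((liftHom (CohB1.tensorPre M N) K (tensorPreHom M N K b hb)).app U).hom (tm M N m n) =
      b U m n := by
  have h1 : (PresheafOfModules.sheafificationHomEquiv (𝟙 X.ringCatSheaf.obj))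
      (liftHom (CohB1.tensorPre M N) K (tensorPreHom M N K b hb)) = tensorPreHom M N K b hb :=
    Equiv.apply_symm_apply _ _
  have h2 := (PresheafOfModules.sheafificationAdjunction (𝟙 X.ringCatSheaf.obj)).homEquiv_unit
    (X := (show X.PresheafOfModules from CohB1.tensorPre M N)) (Y := K)
    (f := liftHom (CohB1.tensorPre M N) K (tensorPreHom M N K b hb))
  rw [PresheafOfModules.sheafificationAdjunction_homEquiv_apply, h1] at h2
  have h3 := congrArg (fun ψ : (show X.PresheafOfModules from CohB1.tensorPre M N) ⟶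
      (PresheafOfModules.restrictScalars (𝟙 X.ringCatSheaf.obj)).obj K.val =>
    (PresheafOfModules.Hom.app ψ (op U)).hom
      ((show M.val.obj (op U) from m) ⊗ₜ (show N.val.obj (op U) from n))) h2
  exact h3.symm

/-- two morphisms out of a tensor product agreeing on pure tensors are equal -/
theorem tensorMod_hom_ext {M N K : X.Modules} (a b : CohB1.tensorMod M N ⟶ K)
    (h : ∀ (U : X.Opens) (m : Γ(M, U)) (n : Γ(N, U)),
      (a.app U).hom (tm M N m n) = (b.app U).hom (tm M N m n)) : a = b := by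
  apply (PresheafOfModules.sheafificationHomEquiv (𝟙 X.ringCatSheaf.obj)).injective
  apply PresheafOfModules.hom_ext
  intro U
  apply ModuleCat.MonoidalCategory.tensor_ext
  intro m n
  have ha := (PresheafOfModules.sheafificationAdjunction (𝟙 X.ringCatSheaf.obj)).homEquiv_unit
    (X := (show X.PresheafOfModules from CohB1.tensorPre M N)) (Y := K) (f := a)
  have hb := (PresheafOfModules.sheafificationAdjunction (𝟙 X.ringCatSheaf.obj)).homEquiv_unit
    (X := (show X.PresheafOfModules from CohB1.tensorPre M N)) (Y := K) (f := b)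
  rw [PresheafOfModules.sheafificationAdjunction_homEquiv_apply] at ha hb
  have ha' := congrArg (fun ψ : (show X.PresheafOfModules from CohB1.tensorPre M N) ⟶
      (PresheafOfModules.restrictScalars (𝟙 X.ringCatSheaf.obj)).obj K.val =>
    (PresheafOfModules.Hom.app ψ U).hom (m ⊗ₜ n)) ha
  have hb' := congrArg (fun ψ : (show X.PresheafOfModules from CohB1.tensorPre M N) ⟶
      (PresheafOfModules.restrictScalars (𝟙 X.ringCatSheaf.obj)).obj K.val =>
    (PresheafOfModules.Hom.app ψ U).hom (m ⊗ₜ n)) hb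
  exact ha'.trans ((h U.unop m n).trans hb'.symm)

/-- `A ⊗ -` -/
noncomputable def tL (A : X.Modules) : X.Modules ⥤ X.Modules := (ModSite.tensorBi X.sheaf).obj A
/-- `- ⊗ B` -/
noncomputable def tR (B : X.Modules) : X.Modules ⥤ X.Modules :=
  (ModSite.tensorBi X.sheaf).flip.obj B

lemma tL_obj (A B : X.Modules) : (tL A).obj B = CohB1.tensorMod A B := rfl
lemma tR_obj (B A : X.Modules) : (tR B).obj A = CohB1.tensorMod A B := rfl

/-- functoriality of `A ⊗ -` on pure tensors -/
theorem tL_map_tm (A : X.Modules) {B B' : X.Modules} (φ : B ⟶ B') (U : X.Opens)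
    (a : Γ(A, U)) (b : Γ(B, U)) :
    (Scheme.Modules.Hom.app ((tL A).map φ) U).hom (tm A B a b) =
      tm A B' a ((φ.app U).hom b) := by
  let ψ : (show X.PresheafOfModules from CohB1.tensorPre A B) ⟶
      (show X.PresheafOfModules from CohB1.tensorPre A B') :=
    MonoidalCategory.whiskerLeft (C := CohB1.PMod X) (CohB1.toPMod A)
      ((SheafOfModules.forget _).map φ)
  have nat := (PresheafOfModules.sheafificationAdjunction (𝟙 X.ringCatSheaf.obj)).unit.naturality ψ
  have h := congrArg (fun t : ((show X.PresheafOfModules from CohB1.tensorPre A B) ⟶ _) =>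
    (PresheafOfModules.Hom.app t (op U)).hom
    ((show A.val.obj (op U) from a) ⊗ₜ (show B.val.obj (op U) from b))) nat
  exact h.symm

/-- functoriality of `- ⊗ B` on pure tensors -/
theorem tR_map_tm (B : X.Modules) {A A' : X.Modules} (φ : A ⟶ A') (U : X.Opens)
    (a : Γ(A, U)) (b : Γ(B, U)) :
    (Scheme.Modules.Hom.app ((tR B).map φ) U).hom (tm A B a b) =
      tm A' B ((φ.app U).hom a) b := by
  let ψ : (show X.PresheafOfModules from CohB1.tensorPre A B) ⟶
      (show X.PresheafOfModules from CohB1.tensorPre A' B) :=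
    MonoidalCategory.whiskerRight (C := CohB1.PMod X)
      ((SheafOfModules.forget _).map φ) (CohB1.toPMod B)
  have nat := (PresheafOfModules.sheafificationAdjunction (𝟙 X.ringCatSheaf.obj)).unit.naturality ψ
  have h := congrArg (fun t : ((show X.PresheafOfModules from CohB1.tensorPre A B) ⟶ _) =>
    (PresheafOfModules.Hom.app t (op U)).hom
    ((show A.val.obj (op U) from a) ⊗ₜ (show B.val.obj (op U) from b))) nat
  exact h.symm

end One

section Two
variable {X Y : Scheme.{u}} (f : X ⟶ Y) (G : X.Modules) (E : Y.Modules)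

/-- the target `f_*(G ⊗ f^*E)` -/
noncomputable abbrev tgt : Y.Modules :=
  (pushforward f).obj (CohB1.tensorMod G ((Scheme.Modules.pullback f).obj E))

/-- the pairing `(g, e) ↦ g ⊗ f^*e` -/
noncomputable def pairing (V : Y.Opens) :
    Γ((pushforward f).obj G, V) →ₗ[Γ(Y, V)] Γ(E, V) →ₗ[Γ(Y, V)] Γ(tgt f G E, V) :=
  LinearMap.mk₂ Γ(Y, V)
    (fun g e => (show Γ(tgt f G E, V) from
      tm G ((Scheme.Modules.pullback f).obj E) (show Γ(G, f ⁻¹ᵁ V) from g) (pbSec f E V e)))
    (fun g₁ g₂ e => by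
      change tm _ _ ((show Γ(G, f ⁻¹ᵁ V) from g₁) + (show Γ(G, f ⁻¹ᵁ V) from g₂)) _ =
        tm _ _ _ _ + tm _ _ _ _
      rw [tm_add_left]
      rfl)
    (fun c g e => by
      change tm _ _ ((f.app V).hom c • (show Γ(G, f ⁻¹ᵁ V) from g)) (pbSec f E V e) =
        (f.app V).hom c • tm _ _ _ _
      rw [tm_smul_left])
    (fun g e₁ e₂ => by
      change tm _ _ _ (pbSec f E V (e₁ + e₂)) = tm _ _ _ _ + tm _ _ _ _
      rw [map_add, tm_add_right]
      rfl)
    (fun c g e => by
      change tm _ _ _ (pbSec f E V (c • e)) = (f.app V).hom c • tm _ _ _ _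
      rw [pbSec_smul, tm_smul_right])

lemma pairing_nat {U V : Y.Opens} (i : V ⟶ U) (g : Γ((pushforward f).obj G, U)) (e : Γ(E, U)) :
    (tgt f G E).presheaf.map i.op (pairing f G E U g e) =
      pairing f G E V (((pushforward f).obj G).presheaf.map i.op g) (E.presheaf.map i.op e) := by
  have hi : i = homOfLE i.le := Subsingleton.elim _ _
  rw [hi]
  change rs (CohB1.tensorMod G ((Scheme.Modules.pullback f).obj E)) (f.preimage_mono i.le)
      (tm _ _ (show Γ(G, f ⁻¹ᵁ U) from g) (pbSec f E U e)) =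
    tm _ _ (rs G (f.preimage_mono i.le) (show Γ(G, f ⁻¹ᵁ U) from g)) (pbSec f E V (rs E i.le e))
  rw [rs_tm, pbSec_rs]

/-- the projection formula map `f_*G ⊗ E ⟶ f_*(G ⊗ f^*E)` -/
noncomputable def theta : CohB1.tensorMod ((pushforward f).obj G) E ⟶ tgt f G E :=
  liftHom (CohB1.tensorPre ((pushforward f).obj G) E) _
    (tensorPreHom ((pushforward f).obj G) E _ (pairing f G E) (pairing_nat f G E))

theorem theta_tm (V : Y.Opens) (g : Γ((pushforward f).obj G, V)) (e : Γ(E, V)) :
    ((theta f G E).app V).hom (tm ((pushforward f).obj G) E g e) =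
      (show Γ(tgt f G E, V) from
        tm G ((Scheme.Modules.pullback f).obj E) (show Γ(G, f ⁻¹ᵁ V) from g) (pbSec f E V e)) :=
  liftHom_tm _ _ _ (pairing f G E) (pairing_nat f G E) V g e

lemma comp_app_apply {S : Scheme.{u}} {A B C : S.Modules} (a : A ⟶ B) (b : B ⟶ C) (V : S.Opens)
    (x : Γ(A, V)) : ((a ≫ b).app V).hom x = (b.app V).hom ((a.app V).hom x) := rfl

theorem theta_natural_left {G G' : X.Modules} (s : G ⟶ G') :
    (tR E).map ((pushforward f).map s) ≫ theta f G' E =
      theta f G E ≫ (pushforward f).map ((tR ((Scheme.Modules.pullback f).obj E)).map s) := by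
  apply tensorMod_hom_ext
  intro V g e
  have l1 := congrArg (fun t => ((theta f G' E).app V).hom t)
    (tR_map_tm E ((pushforward f).map s) V g e)
  have l2 := theta_tm f G' E V ((((pushforward f).map s).app V).hom g) e
  have r1 := congrArg (fun t : Γ(CohB1.tensorMod G ((Scheme.Modules.pullback f).obj E), f ⁻¹ᵁ V) =>
    (Scheme.Modules.Hom.app ((tR ((Scheme.Modules.pullback f).obj E)).map s) (f ⁻¹ᵁ V)).hom t)
    (theta_tm f G E V g e)
  have r2 := tR_map_tm ((Scheme.Modules.pullback f).obj E) s (f ⁻¹ᵁ V) (show Γ(G, f ⁻¹ᵁ V) from g)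
    (pbSec f E V e)
  exact (l1.trans l2).trans (r1.trans r2).symm

theorem theta_natural_right {E E' : Y.Modules} (α : E ⟶ E') :
    (tL ((pushforward f).obj G)).map α ≫ theta f G E' =
      theta f G E ≫ (pushforward f).map ((tL G).map ((Scheme.Modules.pullback f).map α)) := by
  apply tensorMod_hom_ext
  intro V g e
  have l1 := congrArg (fun t => ((theta f G E').app V).hom t)
    (tL_map_tm ((pushforward f).obj G) α V g e)
  have l2 := theta_tm f G E' V g ((α.app V).hom e)
  have r1 := congrArg (fun t : Γ(CohB1.tensorMod G ((Scheme.Modules.pullback f).obj E), f ⁻¹ᵁ V) =>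
    (Scheme.Modules.Hom.app ((tL G).map ((Scheme.Modules.pullback f).map α)) (f ⁻¹ᵁ V)).hom t)
    (theta_tm f G E V g e)
  have r2 := tL_map_tm G ((Scheme.Modules.pullback f).map α) (f ⁻¹ᵁ V)
    (show Γ(G, f ⁻¹ᵁ V) from g) (pbSec f E V e)
  have r3 := congrArg (fun t => tm G ((Scheme.Modules.pullback f).obj E')
    (show Γ(G, f ⁻¹ᵁ V) from g) t) (pbSec_nat f α V e)
  exact (l1.trans l2).trans ((r1.trans r2).trans r3).symm

end Two

end Groth.Agent.Lib.Helper26.ProjFormula
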