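import Groth.Agent.Lib.Helper26.AffineVanishing
import Groth.Agent.Lib.Helper26.MVCover
import Mathlib.AlgebraicGeometry.Morphisms.QuasiCompact
import Mathlib.AlgebraicGeometry.Morphisms.QuasiSeparated

/-!
# Uniform vanishing bounds for quasi-coherent cohomology of `W ⊓ D(h)`

For `Z` a quasi-separated open of a scheme `X` and `W ≤ Z` a finite union of affine opens, there
is `d` such that `H^n(W ⊓ D(h), M) = 0` for every `h ∈ Γ(X, Z)`, every quasi-coherent `M` and
every `n ≥ d`.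
-/

set_option autoImplicit false
universe u

open CategoryTheory AlgebraicGeometry TopologicalSpace Opposite

namespace Groth.Agent.Lib.Helper26.QcqsBound

open Groth.Agent.Lib.Helper26.MVTop Groth.Agent.Lib.Helper26.AffineVanishing

variable {X : Scheme.{u}}

theorem qa' {A : X.Opens} (hA : IsAffineOpen A) (V : X.Opens) (hVA : V ≤ A)
    (hV : IsCompact (V : Set X)) :
    ∃ d : ℕ, ∀ (h : Γ(X, A)) (M : X.Modules), Coh.IsQCoh M → ∀ n : ℕ, d ≤ n →
      Subsingleton (CohTop.HU (Coh.toAb M) n (V ⊓ X.basicOpen h)) := by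
  classical
  choose f hf1 hf2 using fun x : V => hA.exists_basicOpen_le (V := V) x (hVA x.2)
  obtain ⟨t, ht⟩ := hV.elim_finite_subcover (fun x : V => (X.basicOpen (f x) : Set X))
    (fun x => (X.basicOpen (f x)).isOpen)
    (fun x hx => Set.mem_iUnion.2 ⟨⟨x, hx⟩, hf2 ⟨x, hx⟩⟩)
  have hVeq : V = ⨆ y ∈ t, X.basicOpen (f y) := by
    apply le_antisymm
    · intro x hx
      obtain ⟨y, hy⟩ := Set.mem_iUnion.1 (ht hx)
      obtain ⟨hyt, hxy⟩ := Set.mem_iUnion.1 hy
      exact Opens.mem_iSup.2 ⟨y, Opens.mem_iSup.2 ⟨hyt, hxy⟩⟩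
    · exact iSup₂_le fun y _ => hf1 y
  refine ⟨t.card, fun h M hM n hn => ?_⟩
  have := hM
  have hVeq' : V ⊓ X.basicOpen h = ⨆ y ∈ t, X.basicOpen (f y * h) := by
    conv_lhs => rw [hVeq]
    rw [iSup₂_inf_eq]
    congr 1
    ext y : 1
    congr 1
    ext hy : 1
    rw [X.basicOpen_mul]
  rw [hVeq']
  exact subsingleton_HU_biSup (Coh.toAb M) (fun W : X.Opens => ∃ g : Γ(X, A), W = X.basicOpen g)
    (by
      rintro _ _ ⟨g, rfl⟩ ⟨g', rfl⟩
      exact ⟨g * g', (X.basicOpen_mul g g').symm⟩)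
    (by
      rintro _ ⟨g, rfl⟩ k
      exact subsingleton_HU_succ M k (hA.basicOpen g))
    t (fun y => X.basicOpen (f y * h)) (fun y _ => ⟨f y * h, rfl⟩) n hn

theorem mainT {Z : X.Opens} (hZ : IsQuasiSeparated (Z : Set X))
    {ι : Type*} [DecidableEq ι] (s : Finset ι) :
    ∀ (U : ι → X.Opens), (∀ i ∈ s, IsAffineOpen (U i) ∧ U i ≤ Z) →
      ∃ d : ℕ, ∀ (h : Γ(X, Z)) (M : X.Modules), Coh.IsQCoh M → ∀ n : ℕ, d ≤ n →
        Subsingleton (CohTop.HU (Coh.toAb M) n ((⨆ i ∈ s, U i) ⊓ X.basicOpen h)) := by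
  induction s using Finset.induction_on with
  | empty =>
    intro U _
    refine ⟨0, fun h M _ n _ => ?_⟩
    simp only [Finset.notMem_empty, iSup_false, iSup_bot, bot_inf_eq]
    exact subsingleton_HU_bot _ n
  | insert a s ha ih =>
    intro U hU
    have hUa : IsAffineOpen (U a) := (hU a (Finset.mem_insert_self a s)).1
    have hUaZ : U a ≤ Z := (hU a (Finset.mem_insert_self a s)).2
    have hUs : ∀ i ∈ s, IsAffineOpen (U i) ∧ U i ≤ Z :=
      fun i hi => hU i (Finset.mem_insert_of_mem hi)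
    obtain ⟨d', hd'⟩ := ih U hUs
    have hcomp : IsCompact ((U a ⊓ ⨆ i ∈ s, U i : X.Opens) : Set X) := by
      rw [inf_iSup₂_eq]
      simp only [Opens.coe_iSup]
      exact s.isCompact_biUnion fun i hi =>
        hZ _ _ hUaZ (U a).isOpen hUa.isCompact (hUs i hi).2 (U i).isOpen (hUs i hi).1.isCompact
    obtain ⟨d'', hd''⟩ := qa' hUa (U a ⊓ ⨆ i ∈ s, U i) inf_le_left hcomp
    refine ⟨max d' d'' + 1, fun h M hM n hn => ?_⟩
    obtain ⟨k, rfl⟩ : ∃ k, n = k + 1 := ⟨n - 1, by omega⟩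
    have hk1 : d' ≤ k + 1 := by omega
    have hk2 : d'' ≤ k := by omega
    rw [Finset.iSup_insert, inf_sup_right]
    have := hM
    set h' : Γ(X, U a) := X.presheaf.map (homOfLE hUaZ).op h with hh'
    have hb : X.basicOpen h' = U a ⊓ X.basicOpen h := X.basicOpen_res _ _
    have h1 : Subsingleton (CohTop.HU (Coh.toAb M) (k + 1) (U a ⊓ X.basicOpen h)) := by
      rw [← hb]
      exact subsingleton_HU_succ M k (hUa.basicOpen h')
    have h2 : Subsingleton (CohTop.HU (Coh.toAb M) (k + 1) ((⨆ i ∈ s, U i) ⊓ X.basicOpen h)) :=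
      hd' h M hM _ hk1
    have h3 : Subsingleton (CohTop.HU (Coh.toAb M) k
        ((U a ⊓ X.basicOpen h) ⊓ ((⨆ i ∈ s, U i) ⊓ X.basicOpen h))) := by
      have e : (U a ⊓ X.basicOpen h) ⊓ ((⨆ i ∈ s, U i) ⊓ X.basicOpen h) =
          (U a ⊓ ⨆ i ∈ s, U i) ⊓ X.basicOpen h' := by
        rw [hb]
        apply le_antisymm
        · exact le_inf (le_inf (inf_le_left.trans inf_le_left) (inf_le_right.trans inf_le_left))
            inf_le_left
        · exact le_inf inf_le_right (le_inf (inf_le_left.trans inf_le_right)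
            (inf_le_right.trans inf_le_right))
      rw [e]
      exact hd'' h' M hM _ hk2
    refine ⟨fun x y => ?_⟩
    have key : ∀ α : CohTop.HU (Coh.toAb M) (k + 1)
        ((U a ⊓ X.basicOpen h) ⊔ ((⨆ i ∈ s, U i) ⊓ X.basicOpen h)), α = 0 := fun α =>
      eq_zero_of_sup (Coh.toAb M) _ _ k (exists_sub_of_subsingleton _ _ _ k) α
        (Subsingleton.elim _ _) (Subsingleton.elim _ _)
    exact (key x).trans (key y).symm

end Groth.Agent.Lib.Helper26.QcqsBound
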