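import Groth.Agent.Lib.Helper22.IdealModAff
import Groth.Agent.Lib.Helper35.GlobGen
import Groth.Agent.Lib.Helper2.QCohLim
import Mathlib.AlgebraicGeometry.IdealSheaf.Subscheme
import Mathlib.AlgebraicGeometry.Morphisms.ClosedImmersion
import Mathlib.AlgebraicGeometry.Morphisms.Affine
import Mathlib.Topology.Sheaves.SheafCondition.UniqueGluing

/-!
# Serre's criterion for affineness

* `isAffine_of_surjective`: a quasi-compact scheme `X` is affine as soon as (H1) global functions
  surject onto the global functions of every reduced closed subscheme and (H2) every finite family of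
  global functions whose affine basic opens cover `X` generates the unit ideal.
* `epi_of_locally_surjective`, `epi_toSubscheme`, `idealSC_shortExact`: `0 → I → O_X → i_* O_Z → 0`.
* `tupleHom f : O^n ⟶ O`, `epi_tupleHom`, `isQuasicoherent_pi`.
* `H1_of`, `H2_of`: (H1), (H2) from exactness of global sections on suitable short exact sequences.
-/

universe u
open AlgebraicGeometry CategoryTheory TopologicalSpace Opposite Limits

namespace Groth.Agent.Lib.Helper26.SerreCrit


/-- glue two sections of the structure sheaf over disjoint opens covering `Y` -/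
lemma exists_glue_two (Y : Scheme.{u}) (V₁ V₂ : Y.Opens) (hd : V₁ ⊓ V₂ = ⊥) (hc : V₁ ⊔ V₂ = ⊤)
    (a : Γ(Y, V₁)) (b : Γ(Y, V₂)) :
    ∃ s : Γ(Y, ⊤), Y.presheaf.map (homOfLE le_top).op s = a ∧
      Y.presheaf.map (homOfLE le_top).op s = b := by
  let W : ULift.{u} Bool → Y.Opens := fun i => if i.down then V₁ else V₂
  let sf : ∀ i : ULift.{u} Bool, Γ(Y, W i) := fun i =>
    match i with
    | ⟨true⟩ => a
    | ⟨false⟩ => b
  have hsub : ∀ i j : ULift.{u} Bool, i ≠ j → Subsingleton Γ(Y, W i ⊓ W j) := by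
    rintro ⟨_ | _⟩ ⟨_ | _⟩ hij
    · exact absurd rfl hij
    · have : W ⟨false⟩ ⊓ W ⟨true⟩ = ⊥ := by rw [inf_comm]; exact hd
      rw [this]; infer_instance
    · have : W ⟨true⟩ ⊓ W ⟨false⟩ = ⊥ := hd
      rw [this]; infer_instance
    · exact absurd rfl hij
  have hcompat : TopCat.Presheaf.IsCompatible Y.presheaf W sf := by
    intro i j
    by_cases hij : i = j
    · subst hij
      rfl
    · have := hsub i j hij
      exact Subsingleton.elim _ _
  obtain ⟨s, hs, -⟩ := TopCat.Sheaf.existsUnique_gluing' Y.sheaf W ⊤ (fun i => homOfLE le_top)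
    (by
      rw [← hc]
      apply sup_le
      · exact le_iSup W ⟨true⟩
      · exact le_iSup W ⟨false⟩) sf hcompat
  exact ⟨s, hs ⟨true⟩, hs ⟨false⟩⟩


/-- Key step of Serre's criterion: if global functions surject onto the functions of every reduced
closed subscheme, then every closed point has an affine neighbourhood of the form `X_f`. -/
theorem exists_basicOpen_affine (X : Scheme.{u})
    (H1 : ∀ Z : Closeds X,
      Function.Surjective ((Scheme.IdealSheafData.vanishingIdeal Z).subschemeι.app ⊤))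
    (x : X) (hx : IsClosed ({x} : Set X)) :
    ∃ f : Γ(X, ⊤), x ∈ X.basicOpen f ∧ IsAffineOpen (X.basicOpen f) := by
  obtain ⟨U, hU, hxU⟩ : ∃ U : X.Opens, IsAffineOpen U ∧ x ∈ U := by
    obtain ⟨_, ⟨U, hU, rfl⟩, hxU, -⟩ :=
      (X.isBasis_affineOpens).exists_subset_of_mem_open (Set.mem_univ x) isOpen_univ
    exact ⟨U, hU, hxU⟩
  let Z : Closeds X := ⟨(U : Set X)ᶜ ∪ {x}, (U.isOpen.isClosed_compl).union hx⟩
  let I := Scheme.IdealSheafData.vanishingIdeal Z
  have hr : Set.range I.subschemeι = (U : Set X)ᶜ ∪ {x} := by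
    rw [I.range_subschemeι, Scheme.IdealSheafData.coe_support_vanishingIdeal]
    rfl
  let V₁ : I.subscheme.Opens := I.subschemeι ⁻¹ᵁ U
  let V₂ : I.subscheme.Opens := I.subschemeι ⁻¹ᵁ ⟨{x}ᶜ, hx.isOpen_compl⟩
  have hmem : ∀ y : I.subscheme, I.subschemeι y ∉ U ∨ I.subschemeι y = x := by
    intro y
    have : I.subschemeι y ∈ (U : Set X)ᶜ ∪ {x} := hr ▸ Set.mem_range_self y
    exact this
  have hd : V₁ ⊓ V₂ = ⊥ := by
    ext y
    simp only [Opens.coe_inf, Set.mem_inter_iff, SetLike.mem_coe, Opens.coe_bot,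
      Set.mem_empty_iff_false, iff_false, not_and]
    intro h1 h2
    rcases hmem y with h | h
    · exact h h1
    · exact h2 h
  have hc : V₁ ⊔ V₂ = ⊤ := by
    rw [eq_top_iff]
    intro y _
    rcases hmem y with h | h
    · refine Or.inr ?_
      change I.subschemeι y ∈ ({x}ᶜ : Set X)
      intro hh
      exact h (hh ▸ hxU)
    · refine Or.inl ?_
      change I.subschemeι y ∈ U
      rw [h]
      exact hxU
  obtain ⟨s, hs1, hs2⟩ := exists_glue_two I.subscheme V₁ V₂ hd hc 1 0
  obtain ⟨f, hf⟩ := H1 Z s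
  have hpre : I.subschemeι ⁻¹ᵁ X.basicOpen f = I.subscheme.basicOpen s := by
    rw [Scheme.preimage_basicOpen, hf]
    rfl
  have h1 : V₁ ≤ I.subscheme.basicOpen s := by
    have := I.subscheme.basicOpen_res s (homOfLE (le_top : V₁ ≤ ⊤)).op
    rw [hs1, Scheme.basicOpen_of_isUnit _ isUnit_one] at this
    rw [this]
    exact inf_le_right
  have h2 : V₂ ⊓ I.subscheme.basicOpen s = ⊥ := by
    have := I.subscheme.basicOpen_res s (homOfLE (le_top : V₂ ≤ ⊤)).op
    rw [hs2, Scheme.basicOpen_zero] at this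
    exact this.symm
  have hxf : x ∈ X.basicOpen f := by
    obtain ⟨y, hy⟩ : x ∈ Set.range I.subschemeι := by rw [hr]; exact Or.inr rfl
    have hy1 : y ∈ V₁ := by
      change I.subschemeι y ∈ U
      rw [hy]; exact hxU
    have : y ∈ I.subschemeι ⁻¹ᵁ X.basicOpen f := by rw [hpre]; exact h1 hy1
    rw [← hy]
    exact this
  have hle : X.basicOpen f ≤ U := by
    intro z hz
    by_contra hzU
    obtain ⟨y, rfl⟩ : z ∈ Set.range I.subschemeι := by rw [hr]; exact Or.inl hzU
    have hy2 : y ∈ V₂ := by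
      change I.subschemeι y ∈ ({x}ᶜ : Set X)
      intro hh
      exact hzU (hh ▸ hxU)
    have hy3 : y ∈ I.subscheme.basicOpen s := by rw [← hpre]; exact hz
    have : y ∈ V₂ ⊓ I.subscheme.basicOpen s := ⟨hy2, hy3⟩
    rw [h2] at this
    exact this
  refine ⟨f, hxf, ?_⟩
  have e : X.basicOpen f = X.basicOpen (X.presheaf.map (homOfLE (le_top : U ≤ ⊤)).op f) := by
    rw [Scheme.basicOpen_res]
    exact (inf_eq_right.2 hle).symm
  rw [e]
  exact hU.basicOpen _


/-- Abstract form of Serre's criterion. -/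
theorem isAffine_of_surjective (X : Scheme.{u}) [CompactSpace X]
    (H1 : ∀ Z : Closeds X,
      Function.Surjective ((Scheme.IdealSheafData.vanishingIdeal Z).subschemeι.app ⊤))
    (H2 : ∀ (n : ℕ) (f : Fin n → Γ(X, ⊤)), (∀ i, IsAffineOpen (X.basicOpen (f i))) →
      (⨆ i, X.basicOpen (f i)) = ⊤ → ∃ a : Fin n → Γ(X, ⊤), ∑ i, a i * f i = 1) :
    IsAffine X := by
  -- the affine basic opens cover `X`
  let T : Set Γ(X, ⊤) := {f | IsAffineOpen (X.basicOpen f)}
  have hcov : (⋃ f : T, (X.basicOpen f.1 : Set X)) = Set.univ := by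
    by_contra hne
    have hcl : IsClosed (⋃ f : T, (X.basicOpen f.1 : Set X))ᶜ :=
      (isOpen_iUnion fun f : T => (X.basicOpen f.1).isOpen).isClosed_compl
    have hnonempty : ((⋃ f : T, (X.basicOpen f.1 : Set X))ᶜ).Nonempty := by
      rw [Set.nonempty_compl]; exact hne
    obtain ⟨x, hxS, hx⟩ := hcl.exists_closed_singleton hnonempty
    obtain ⟨f, hxf, hf⟩ := exists_basicOpen_affine X H1 x hx
    exact hxS (Set.mem_iUnion.2 ⟨⟨f, hf⟩, hxf⟩)
  obtain ⟨t, ht⟩ := isCompact_univ.elim_finite_subcover (fun f : T => (X.basicOpen f.1 : Set X))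
    (fun f => (X.basicOpen f.1).isOpen) hcov.symm.subset
  -- enumerate
  let g : Fin t.card → Γ(X, ⊤) := fun i => (t.equivFin.symm i).1.1
  have hg : ∀ i, IsAffineOpen (X.basicOpen (g i)) := fun i => (t.equivFin.symm i).1.2
  have hgcov : (⨆ i, X.basicOpen (g i)) = ⊤ := by
    rw [eq_top_iff]
    intro x _
    obtain ⟨f, hft, hxf⟩ := Set.mem_iUnion₂.1 (ht (Set.mem_univ x))
    refine Opens.mem_iSup.2 ⟨t.equivFin ⟨f, hft⟩, ?_⟩
    change x ∈ X.basicOpen (t.equivFin.symm (t.equivFin ⟨f, hft⟩)).1.1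
    rw [Equiv.symm_apply_apply]
    exact hxf
  obtain ⟨a, ha⟩ := H2 _ g hg hgcov
  refine isAffine_of_isAffineOpen_basicOpen (Set.range g) ?_ ?_
  · rw [Ideal.eq_top_iff_one, ← ha]
    exact sum_mem fun i _ => Ideal.mul_mem_left _ _ (Ideal.subset_span ⟨i, rfl⟩)
  · rintro _ ⟨i, rfl⟩
    exact hg i



variable {X : Scheme.{u}}

/-- a morphism of modules which is locally surjective on sections is an epimorphism -/
theorem epi_of_locally_surjective {A B : X.Modules} (ψ : A ⟶ B)
    (h : ∀ (U : X.Opens) (t : Γ(B, U)) (x : X), x ∈ U → ∃ (W : X.Opens) (hW : W ≤ U),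
      x ∈ W ∧ ∃ a : Γ(A, W), (ψ.app W).hom a = (B.presheaf.map (homOfLE hW).op).hom t) :
    Epi ψ := by
  have h1 : Epi ((SheafOfModules.toSheaf _).map ψ) := by
    refine (CategoryTheory.Sheaf.isLocallySurjective_iff_epi'
      (J := Opens.grothendieckTopology X) AddCommGrpCat _).mp ?_
    refine (TopCat.Presheaf.isLocallySurjective_iff (X := X.toTopCat) _).mpr ?_
    intro U t x hx
    obtain ⟨W, hW, hxW, a, ha⟩ := h U t x hx
    exact ⟨W, hW, ⟨a, ha⟩, hxW⟩
  exact Functor.epi_of_epi_map (SheafOfModules.toSheaf _) h1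

/-- `O_X ⟶ i_* O_Z` is an epimorphism for the closed subscheme of an ideal sheaf -/
theorem epi_toSubscheme (I : X.IdealSheafData) : Epi (ClSub.toSubscheme I) := by
  apply epi_of_locally_surjective
  intro U t x hx
  obtain ⟨_, ⟨W, hW, rfl⟩, hxW, hWU⟩ :=
    (X.isBasis_affineOpens).exists_subset_of_mem_open hx U.isOpen
  refine ⟨W, hWU, hxW, ?_⟩
  obtain ⟨a, ha⟩ := I.subschemeι_app_surjective ⟨W, hW⟩
    (((ClSub.quotMod I).presheaf.map (homOfLE hWU).op).hom t)
  exact ⟨a, ha⟩


/-- the short exact sequence `0 → I → O_X → i_* O_Z → 0` -/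
noncomputable def idealSC (I : X.IdealSheafData) : ShortComplex X.Modules :=
  ShortComplex.mk (ClSub.idealModι I) (ClSub.toSubscheme I) (kernel.condition _)

theorem idealSC_shortExact (I : X.IdealSheafData) : (idealSC I).ShortExact where
  exact := ShortComplex.exact_kernel _
  mono_f := by dsimp [idealSC, ClSub.idealModι]; exact equalizer.ι_mono
  epi_g := epi_toSubscheme I

theorem H1_of (X : Scheme.{u})
    (h : ∀ (S : ShortComplex X.Modules) (n : ℕ)
      (j : S.X₁ ⟶ ∏ᶜ (fun _ : Fin n => Coh.structureModule X)),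
      S.ShortExact → Mono j → Coh.IsQCoh S.X₁ → Coh.IsQCoh S.X₂ → Coh.IsQCoh S.X₃ →
        Function.Surjective (S.g.val.app (op ⊤)).hom) (Z : Closeds X) :
    Function.Surjective ((Scheme.IdealSheafData.vanishingIdeal Z).subschemeι.app ⊤) := by
  set I := Scheme.IdealSheafData.vanishingIdeal Z
  have hmono : Mono (ClSub.idealModι I ≫
      (Pi.lift (fun _ : Fin 1 => 𝟙 (Coh.structureModule X)))) := by
    have : Mono (ClSub.idealModι I) := by unfold ClSub.idealModι; exact equalizer.ι_mono
    have : Mono (Pi.lift (fun _ : Fin 1 => 𝟙 (Coh.structureModule X))) :=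
      mono_of_mono_fac (Pi.lift_π _ (0 : Fin 1))
    exact mono_comp _ _
  have hq2 : (Coh.structureModule X).IsQuasicoherent :=
    Groth.Agent.Lib.Helper22.IdealModAff.structureModule_isQuasicoherent X
  have hq3 : ((Scheme.Modules.pushforward I.subschemeι).obj
      (Coh.structureModule I.subscheme)).IsQuasicoherent := by
    have := Groth.Agent.Lib.Helper22.IdealModAff.structureModule_isQuasicoherent I.subscheme
    infer_instance
  have := h (idealSC I) 1 _ (idealSC_shortExact I) hmono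
    (Groth.Agent.Lib.Helper22.IdealModAff.isQuasicoherent_idealMod I) hq2 hq3
  exact this


open Groth.Agent.Lib.Helper35.GlobGen in
lemma sum_app_apply {M N : X.Modules} {κ : Type*} (s : Finset κ) (φ : κ → (M ⟶ N)) (U : X.Opens)
    (a : Γ(M, U)) : ((∑ i ∈ s, φ i).app U).hom a = ∑ i ∈ s, ((φ i).app U).hom a := by
  classical
  induction s using Finset.induction_on with
  | empty => simp
  | insert k s hk ih =>
    rw [Finset.sum_insert hk, Finset.sum_insert hk, Scheme.Modules.Hom.add_app]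
    rw [← ih]
    rfl

/-- multiplication by a global function, as an endomorphism of `O_X` -/
noncomputable def mulHom (f : Γ(X, ⊤)) : Coh.structureModule X ⟶ Coh.structureModule X :=
  Groth.Agent.Lib.Helper35.GlobGen.secHom (Coh.structureModule X) f

lemma mulHom_app (f : Γ(X, ⊤)) (W : X.Opens) (c : Γ(X, W)) :
    ((mulHom f).app W).hom c = c * (X.presheaf.map (homOfLE (le_top : W ≤ ⊤)).op).hom f :=
  Groth.Agent.Lib.Helper35.GlobGen.secHom_app (Coh.structureModule X) f W c

/-- the morphism `O^n ⟶ O` given by a tuple of global functions -/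
noncomputable def tupleHom {n : ℕ} (f : Fin n → Γ(X, ⊤)) :
    (∏ᶜ (fun _ : Fin n => Coh.structureModule X)) ⟶ Coh.structureModule X :=
  ∑ i, Pi.π (fun _ : Fin n => Coh.structureModule X) i ≫ mulHom (f i)

/-- sections of the structure module are functions -/
def toFun {U : X.Opens} (t : Γ(Coh.structureModule X, U)) : Γ(X, U) := t

/-- functions are sections of the structure module -/
def ofFun {U : X.Opens} (t : Γ(X, U)) : Γ(Coh.structureModule X, U) := t

lemma tupleHom_app {n : ℕ} (f : Fin n → Γ(X, ⊤)) (W : X.Opens)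
    (a : Γ(∏ᶜ (fun _ : Fin n => Coh.structureModule X), W)) :
    toFun (((tupleHom f).app W).hom a) =
      ∑ i, toFun (((Pi.π (fun _ : Fin n => Coh.structureModule X) i).app W).hom a) *
        (X.presheaf.map (homOfLE (le_top : W ≤ ⊤)).op).hom (f i) := by
  rw [tupleHom, sum_app_apply]
  change ∑ i, _ = _
  refine Finset.sum_congr rfl fun i _ => ?_
  exact mulHom_app (f i) W _

/-- the `k`-th inclusion `O ⟶ O^n` -/
noncomputable def incl {n : ℕ} (k : Fin n) :
    Coh.structureModule X ⟶ ∏ᶜ (fun _ : Fin n => Coh.structureModule X) :=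
  Pi.lift (fun i => if i = k then 𝟙 _ else 0)

lemma incl_tupleHom {n : ℕ} (f : Fin n → Γ(X, ⊤)) (k : Fin n) :
    incl k ≫ tupleHom f = mulHom (f k) := by
  rw [tupleHom, Preadditive.comp_sum, Finset.sum_eq_single k]
  · rw [incl, ← Category.assoc, Pi.lift_π, if_pos rfl, Category.id_comp]
  · intro i _ hik
    rw [incl, ← Category.assoc, Pi.lift_π, if_neg hik, zero_comp]
  · intro h; exact absurd (Finset.mem_univ k) h

theorem epi_tupleHom {n : ℕ} (f : Fin n → Γ(X, ⊤)) (hcov : (⨆ i, X.basicOpen (f i)) = ⊤) :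
    Epi (tupleHom f) := by
  apply epi_of_locally_surjective
  intro U t x hx
  have hx' : x ∈ (⨆ i, X.basicOpen (f i)) := by rw [hcov]; trivial
  obtain ⟨k, hk⟩ := Opens.mem_iSup.1 hx'
  refine ⟨U ⊓ X.basicOpen (f k), inf_le_left, ⟨hx, hk⟩, ?_⟩
  set W := U ⊓ X.basicOpen (f k) with hW
  have hunit : IsUnit ((X.presheaf.map (homOfLE (le_top : W ≤ ⊤)).op).hom (f k)) := by
    have h1 : IsUnit ((X.presheaf.map (homOfLE (le_top : X.basicOpen (f k) ≤ ⊤)).op).hom (f k)) :=
      RingedSpace.isUnit_res_basicOpen X.toRingedSpace (f k)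
    have h2 := h1.map (X.presheaf.map (homOfLE (inf_le_right : W ≤ X.basicOpen (f k))).op).hom
    rw [← ConcreteCategory.comp_apply, ← Functor.map_comp] at h2
    exact h2
  obtain ⟨b, hb⟩ := hunit
  let t' : Γ(X, W) := (X.presheaf.map (homOfLE (inf_le_left : W ≤ U)).op).hom t
  refine ⟨((incl k).app W).hom (ofFun (t' * ↑b⁻¹)), ?_⟩
  have e1 := congrArg (fun φ : Coh.structureModule X ⟶ Coh.structureModule X =>
    (Scheme.Modules.Hom.app φ W).hom (ofFun (t' * ↑b⁻¹)))
    (incl_tupleHom f k)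
  refine e1.trans ?_
  refine (mulHom_app (f k) W _).trans ?_
  change t' * ↑b⁻¹ * (X.presheaf.map (homOfLE (le_top : W ≤ ⊤)).op).hom (f k) = t'
  rw [← hb, mul_assoc, Units.inv_mul, mul_one]

theorem isQuasicoherent_pi (n : ℕ) :
    (∏ᶜ (fun _ : Fin n => Coh.structureModule X)).IsQuasicoherent := by
  have : HasFiniteBiproducts X.Modules := HasFiniteBiproducts.of_hasFiniteProducts
  let e : (∏ᶜ (fun _ : Fin n => Coh.structureModule X)) ≅
      SheafOfModules.free (R := X.ringCatSheaf) (ULift.{u} (Fin n)) :=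
    (biproduct.isoProduct (fun _ : Fin n => Coh.structureModule X)).symm ≪≫
      biproduct.isoCoproduct (fun _ : Fin n => Coh.structureModule X) ≪≫
      Sigma.whiskerEquiv (f := fun _ : Fin n => Coh.structureModule X)
        (g := fun _ : ULift.{u} (Fin n) => Coh.structureModule X) Equiv.ulift.symm
        (fun _ => Iso.refl _)
  exact ObjectProperty.prop_of_iso (SheafOfModules.isQuasicoherent X.ringCatSheaf) e.symm
    inferInstance

theorem H2_of (X : Scheme.{u})
    (h : ∀ (S : ShortComplex X.Modules) (n : ℕ)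
      (j : S.X₁ ⟶ ∏ᶜ (fun _ : Fin n => Coh.structureModule X)),
      S.ShortExact → Mono j → Coh.IsQCoh S.X₁ → Coh.IsQCoh S.X₂ → Coh.IsQCoh S.X₃ →
        Function.Surjective (S.g.val.app (op ⊤)).hom)
    (n : ℕ) (f : Fin n → Γ(X, ⊤)) (hcov : (⨆ i, X.basicOpen (f i)) = ⊤) :
    ∃ a : Fin n → Γ(X, ⊤), ∑ i, a i * f i = 1 := by
  have hq2 : (∏ᶜ (fun _ : Fin n => Coh.structureModule X)).IsQuasicoherent := isQuasicoherent_pi n
  have hq3 : (Coh.structureModule X).IsQuasicoherent :=
    Groth.Agent.Lib.Helper22.IdealModAff.structureModule_isQuasicoherent X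
  have hq1 : (kernel (tupleHom f)).IsQuasicoherent :=
    Groth.Agent.Lib.Helper2.KerSec.isQuasicoherent_kernel _
  have hepi := epi_tupleHom f hcov
  let S : ShortComplex X.Modules :=
    ShortComplex.mk (kernel.ι (tupleHom f)) (tupleHom f) (kernel.condition _)
  have hS : S.ShortExact :=
    { exact := ShortComplex.exact_kernel _
      mono_f := equalizer.ι_mono
      epi_g := hepi }
  have hsurj := h S n (kernel.ι (tupleHom f)) hS equalizer.ι_mono hq1 hq2 hq3
  obtain ⟨a, ha⟩ := hsurj (ofFun (1 : Γ(X, ⊤)))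
  refine ⟨fun i => toFun (((Pi.π (fun _ : Fin n => Coh.structureModule X) i).app ⊤).hom a), ?_⟩
  have := tupleHom_app f ⊤ a
  have ha' : toFun (((tupleHom f).app ⊤).hom a) = 1 := ha
  rw [ha'] at this
  rw [this]
  refine Finset.sum_congr rfl fun i _ => ?_
  congr 1
  change f i = (X.presheaf.map (𝟙 _)).hom (f i)
  rw [X.presheaf.map_id]
  rfl


end Groth.Agent.Lib.Helper26.SerreCrit
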